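/-
The Coxeter presentation of the symmetric group, as a universal property.

Main results:
* `exists_hom_perm`: involutions `t 0, …, t (n-1)` satisfying the braid relations of type A give a
  homomorphism `Equiv.Perm (Fin (n+1)) →* H` sending `swap i (i+1)` to `t i`.
* `exists_hom_perm_range`: the same, with the range computed.
-/
import Cfsg.Agent.EqLemmas

namespace Cfsg.Agent.ThreeTrans

/-- Braid relations of type A for `t 0, …, t (n-1)`. -/
def BraidA {H : Type*} [Group H] (t : ℕ → H) (n : ℕ) : Prop :=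
  (∀ i < n, t i * t i = 1) ∧
  (∀ i, i + 1 < n → t i * t (i + 1) * t i = t (i + 1) * t i * t (i + 1)) ∧
  ∀ i j, i + 2 ≤ j → j < n → Commute (t i) (t j)

variable {H : Type*} [Group H]

theorem BraidA.mono {t : ℕ → H} {m n : ℕ} (h : BraidA t n) (hmn : m ≤ n) : BraidA t m :=
  ⟨fun i hi => h.1 i (by omega), fun i hi => h.2.1 i (by omega),
    fun i j h1 h2 => h.2.2 i j h1 (by omega)⟩

/-- `tailProd t n m = t (n - m) * ... * t (n - 1)` -/
def tailProd (t : ℕ → H) (n : ℕ) : ℕ → H
  | 0 => 1
  | m + 1 => t (n - (m + 1)) * tailProd t n m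

theorem tailProd_commute {t : ℕ → H} {n : ℕ} (h : BraidA t n) (i : ℕ) :
    ∀ m, m ≤ n → i + 2 ≤ n - m + 0 → Commute (t i) (tailProd t n m)
  | 0, _, _ => by simp [tailProd]
  | m + 1, hm, hi =>
    (h.2.2 i _ (by omega) (by omega)).mul_right (tailProd_commute h i m (by omega) (by omega))

theorem tailProd_shift {t : ℕ → H} {n : ℕ} (h : BraidA t n) (i : ℕ) :
    ∀ m, m ≤ n → n - m < i → i < n → t i * tailProd t n m = tailProd t n m * t (i - 1)
  | 0, _, hi, hin => by omega
  | m + 1, hm, hi, hin => by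
    rcases Nat.lt_or_ge (n - m) i with hlt | hge
    · rw [tailProd, ← mul_assoc, ← (h.2.2 (n - (m + 1)) i (by omega) hin).eq, mul_assoc,
        tailProd_shift h i m (by omega) hlt hin, ← mul_assoc]
    · -- here i = n - m
      obtain ⟨m', rfl⟩ : ∃ m', m = m' + 1 := ⟨m - 1, by omega⟩
      have hk : i - 1 = n - (m' + 1 + 1) := by omega
      have hi' : n - (m' + 1) = i := by omega
      rw [tailProd, tailProd, hi', ← hk]
      have hb := h.2.1 (i - 1) (by omega)
      rw [show i - 1 + 1 = i by omega] at hb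
      have hc := tailProd_commute h (i - 1) m' (by omega) (by omega)
      calc t i * (t (i - 1) * (t i * tailProd t n m'))
          = (t i * t (i - 1) * t i) * tailProd t n m' := by simp only [mul_assoc]
        _ = t (i - 1) * t i * t (i - 1) * tailProd t n m' := by rw [hb]
        _ = t (i - 1) * (t i * tailProd t n m') * t (i - 1) := by
          simp only [mul_assoc, hc.eq]

/-- Elements satisfying the braid relations of type `A_n` generate a group with at most
`(n+1)!` elements. -/
theorem closure_ncard_le {t : ℕ → H} : ∀ {n : ℕ}, BraidA t n →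
    ((Subgroup.closure (t '' Set.Iio n) : Subgroup H) : Set H).Finite ∧
    ((Subgroup.closure (t '' Set.Iio n) : Subgroup H) : Set H).ncard ≤ (n + 1).factorial
  | 0, _ => by simp
  | n + 1, h => by
    obtain ⟨hfin, hcard⟩ := closure_ncard_le (h.mono (Nat.le_succ n))
    set K := Subgroup.closure (t '' Set.Iio n) with hK
    set U : Set H := ⋃ m ∈ Finset.range (n + 2), (fun k => tailProd t (n + 1) m * k) '' (K : Set H)
      with hU
    have hUfin : U.Finite := (Finset.finite_toSet _).biUnion fun m _ => hfin.image _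
    have memU : ∀ {x : H}, x ∈ U ↔ ∃ m ≤ n + 1, ∃ k ∈ K, tailProd t (n + 1) m * k = x := by
      intro x
      simp only [hU, Set.mem_iUnion, Finset.mem_range, Set.mem_image, SetLike.mem_coe,
        Nat.lt_succ_iff, exists_prop]
    have hone : (1 : H) ∈ U := memU.2 ⟨0, Nat.zero_le _, 1, K.one_mem, by simp [tailProd]⟩
    have hstep : ∀ i ≤ n, ∀ x ∈ U, t i * x ∈ U := by
      intro i hi x hx
      obtain ⟨m, hm, k, hk, rfl⟩ := memU.1 hx
      rw [memU]
      rcases lt_trichotomy i (n + 1 - m) with h1 | h1 | h1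
      · rcases Nat.lt_or_ge (i + 1) (n + 1 - m) with h2 | h2
        · refine ⟨m, hm, t i * k, K.mul_mem (Subgroup.subset_closure ⟨i, ?_, rfl⟩) hk, ?_⟩
          · exact Set.mem_Iio.2 (by omega)
          · rw [← mul_assoc, ← mul_assoc, (tailProd_commute h i m hm (by omega)).eq]
        · exact ⟨m + 1, by omega, k, hk, by
            rw [tailProd, show n + 1 - (m + 1) = i by omega, mul_assoc]⟩
      · obtain ⟨m', rfl⟩ : ∃ m', m = m' + 1 := ⟨m - 1, by omega⟩
        exact ⟨m', by omega, k, hk, by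
          rw [tailProd, ← h1, ← mul_assoc, ← mul_assoc (t i) (t i), h.1 i (by omega), one_mul]⟩
      · refine ⟨m, hm, t (i - 1) * k, K.mul_mem (Subgroup.subset_closure ⟨i - 1, ?_, rfl⟩) hk, ?_⟩
        · exact Set.mem_Iio.2 (by omega)
        · rw [← mul_assoc, ← mul_assoc, tailProd_shift h i m hm h1 (by omega)]
    have hstab : ∀ x ∈ Subgroup.closure (t '' Set.Iio (n + 1)), ∀ u ∈ U, x * u ∈ U := by
      intro x hx
      induction hx using Subgroup.closure_induction'' with
      | mem y hy =>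
        obtain ⟨i, hi, rfl⟩ := hy
        exact hstep i (Nat.lt_succ_iff.1 (Set.mem_Iio.1 hi))
      | inv_mem y hy =>
        obtain ⟨i, hi, rfl⟩ := hy
        rw [inv_eq_of_mul_eq_one_left (h.1 i (Set.mem_Iio.1 hi))]
        exact hstep i (Nat.lt_succ_iff.1 (Set.mem_Iio.1 hi))
      | one => simp
      | mul y z _ _ hy hz => intro u hu; rw [mul_assoc]; exact hy _ (hz u hu)
    have hsub : ((Subgroup.closure (t '' Set.Iio (n + 1)) : Subgroup H) : Set H) ⊆ U := by
      intro x hx
      simpa using hstab x hx 1 hone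
    refine ⟨hUfin.subset hsub, (Set.ncard_le_ncard hsub hUfin).trans ?_⟩
    calc U.ncard ≤ ∑ m ∈ Finset.range (n + 2),
          ((fun k => tailProd t (n + 1) m * k) '' (K : Set H)).ncard :=
            Finset.set_ncard_biUnion_le _ _
      _ ≤ ∑ _m ∈ Finset.range (n + 2), (n + 1).factorial :=
            Finset.sum_le_sum fun m _ => (Set.ncard_image_le hfin).trans hcard
      _ = (n + 2).factorial := by
            rw [Finset.sum_const, Finset.card_range, smul_eq_mul, Nat.factorial_succ (n + 1)]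

/-- The Coxeter presentation of the symmetric group. -/
theorem exists_hom_perm {t : ℕ → H} {n : ℕ} (h : BraidA t n) :
    ∃ φ : Equiv.Perm (Fin (n + 1)) →* H,
      ∀ i : Fin n, φ (Equiv.swap i.castSucc i.succ) = t i := by
  classical
  set s : ℕ → Equiv.Perm (Fin (n + 1)) := fun i =>
    if hi : i < n then Equiv.swap (⟨i, hi⟩ : Fin n).castSucc (⟨i, hi⟩ : Fin n).succ else 1 with hs
  have hsv : ∀ i : Fin n, s i = Equiv.swap i.castSucc i.succ := by
    intro i; simp only [hs, dif_pos i.isLt, Fin.eta]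
  have hbs : BraidA s n := by
    refine ⟨fun i hi => ?_, fun i hi => ?_, fun i j hij hj => ?_⟩
    · simp [hs, hi]
    · have h0 : i < n := by omega
      simp only [hs, dif_pos h0, dif_pos hi, Fin.castSucc_mk, Fin.succ_mk]
      set a : Fin (n + 1) := ⟨i, by omega⟩
      set b : Fin (n + 1) := ⟨i + 1, by omega⟩
      set c : Fin (n + 1) := ⟨i + 1 + 1, by omega⟩
      have hab : a ≠ b := by simp [a, b, Fin.ext_iff]
      have hbc : b ≠ c := by simp [b, c, Fin.ext_iff]
      have hac : a ≠ c := by simp [a, c, Fin.ext_iff]; omega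
      calc Equiv.swap a b * Equiv.swap b c * Equiv.swap a b
          = Equiv.swap b a * Equiv.swap c b * Equiv.swap b a := by
            rw [Equiv.swap_comm a b, Equiv.swap_comm b c]
        _ = Equiv.swap a c := Equiv.swap_mul_swap_mul_swap hbc.symm hac.symm
        _ = Equiv.swap c a := Equiv.swap_comm a c
        _ = _ := (Equiv.swap_mul_swap_mul_swap hab hac).symm
    · have hi : i < n := by omega
      simp only [hs, dif_pos hi, dif_pos hj, Fin.castSucc_mk, Fin.succ_mk]
      rw [commute_iff_eq, Equiv.mul_swap_eq_swap_mul, Equiv.swap_apply_of_ne_of_ne,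
        Equiv.swap_apply_of_ne_of_ne] <;> simp [Fin.ext_iff] <;> omega
  set tt : ℕ → Equiv.Perm (Fin (n + 1)) × H := fun i => (s i, t i) with htt
  have hb : BraidA tt n :=
    ⟨fun i hi => Prod.ext (hbs.1 i hi) (h.1 i hi),
     fun i hi => Prod.ext (hbs.2.1 i hi) (h.2.1 i hi),
     fun i j h1 h2 => Commute.prod (hbs.2.2 i j h1 h2) (h.2.2 i j h1 h2)⟩
  obtain ⟨hfin, hcard⟩ := closure_ncard_le hb
  set C := Subgroup.closure (tt '' Set.Iio n) with hC
  have : Finite C := hfin.to_subtype
  let π : C →* Equiv.Perm (Fin (n + 1)) := (MonoidHom.fst _ _).comp C.subtype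
  have hsurj : Function.Surjective π := by
    rw [← MonoidHom.range_eq_top, eq_top_iff]
    intro σ _
    have hσ : σ ∈ Submonoid.closure (Set.range fun i : Fin n => Equiv.swap i.castSucc i.succ) := by
      rw [Equiv.Perm.mclosure_swap_castSucc_succ]; trivial
    have hle : Submonoid.closure (Set.range fun i : Fin n => Equiv.swap i.castSucc i.succ) ≤
        π.range.toSubmonoid := by
      rw [Submonoid.closure_le]
      rintro _ ⟨i, rfl⟩
      exact ⟨⟨tt i, Subgroup.subset_closure ⟨i, i.isLt, rfl⟩⟩, hsv i⟩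
    exact hle hσ
  have hbij : Function.Bijective π := by
    refine hsurj.bijective_of_nat_card_le ?_
    rw [Nat.card_perm, Nat.card_fin]
    exact (Nat.card_coe_set_eq _).trans_le hcard
  let e := MulEquiv.ofBijective π hbij
  refine ⟨((MonoidHom.snd _ _).comp C.subtype).comp e.symm.toMonoidHom, fun i => ?_⟩
  have : e.symm (Equiv.swap i.castSucc i.succ) = ⟨tt i, Subgroup.subset_closure ⟨i, i.isLt, rfl⟩⟩ := by
    rw [MulEquiv.symm_apply_eq]
    exact (hsv i).symm
  simp [this, htt]

/-- The range of a homomorphism out of the symmetric group is generated by the images of the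
adjacent transpositions. -/
theorem range_hom_perm {t : ℕ → H} {n : ℕ} {φ : Equiv.Perm (Fin (n + 1)) →* H}
    (hφ : ∀ i : Fin n, φ (Equiv.swap i.castSucc i.succ) = t i) :
    φ.range = Subgroup.closure (t '' Set.Iio n) := by
  have htop : Subgroup.closure (Set.range fun i : Fin n => Equiv.swap i.castSucc i.succ) = ⊤ := by
    rw [eq_top_iff]
    intro σ _
    have hσ : σ ∈ Submonoid.closure (Set.range fun i : Fin n => Equiv.swap i.castSucc i.succ) := by
      rw [Equiv.Perm.mclosure_swap_castSucc_succ]; trivial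
    have hle : Submonoid.closure (Set.range fun i : Fin n => Equiv.swap i.castSucc i.succ) ≤
        (Subgroup.closure (Set.range fun i : Fin n => Equiv.swap i.castSucc i.succ)).toSubmonoid :=
      Submonoid.closure_le.2 Subgroup.subset_closure
    exact hle hσ
  rw [MonoidHom.range_eq_map, ← htop, MonoidHom.map_closure]
  congr 1
  ext x
  simp only [Set.mem_image, Set.mem_range, exists_exists_eq_and, Set.mem_Iio]
  constructor
  · rintro ⟨i, rfl⟩; exact ⟨i, i.isLt, (hφ i).symm⟩
  · rintro ⟨i, hi, rfl⟩; exact ⟨⟨i, hi⟩, hφ ⟨i, hi⟩⟩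

/-- A homomorphism out of `Perm (Fin 3)` not killing the product of the adjacent transpositions is
injective. -/
theorem injective_perm_three {φ : Equiv.Perm (Fin 3) →* H}
    (h : φ (Equiv.swap 0 1 * Equiv.swap 1 2) ≠ 1) : Function.Injective φ := by
  have key : ∀ σ : Equiv.Perm (Fin 3), σ = 1 ∨ ∃ τ : Equiv.Perm (Fin 3),
      σ * τ * σ⁻¹ * τ⁻¹ = Equiv.swap 0 1 * Equiv.swap 1 2 ∨
      σ * τ * σ⁻¹ * τ⁻¹ = (Equiv.swap 0 1 * Equiv.swap 1 2)⁻¹ := by decide +kernel
  rw [injective_iff_map_eq_one]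
  intro σ hσ
  rcases key σ with h1 | ⟨τ, h1 | h1⟩
  · exact h1
  · exact absurd (by rw [← h1]; simp [hσ]) h
  · refine absurd ?_ h
    have : φ (Equiv.swap 0 1 * Equiv.swap 1 2)⁻¹ = 1 := by rw [← h1]; simp [hσ]
    rwa [map_inv, inv_eq_one] at this

/-- A homomorphism out of `Perm (Fin 4)` not killing `(0 1)(2 3)` is injective. -/
theorem injective_perm_four {φ : Equiv.Perm (Fin 4) →* H}
    (h : φ (Equiv.swap 0 1 * Equiv.swap 2 3) ≠ 1) : Function.Injective φ := by
  have key : ∀ σ : Equiv.Perm (Fin 4), σ = 1 ∨ σ = Equiv.swap 0 1 * Equiv.swap 2 3 ∨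
      ∃ τ : Equiv.Perm (Fin 4),
      σ * τ * σ⁻¹ * τ⁻¹ = Equiv.swap 0 1 * Equiv.swap 2 3 ∨
      σ * τ * σ⁻¹ * τ⁻¹ = Equiv.swap 0 2 * Equiv.swap 1 3 ∨
      σ * τ * σ⁻¹ * τ⁻¹ = Equiv.swap 0 3 * Equiv.swap 1 2 := by decide +kernel
  have c2 : ∃ r : Equiv.Perm (Fin 4),
      r * (Equiv.swap 0 2 * Equiv.swap 1 3) * r⁻¹ = Equiv.swap 0 1 * Equiv.swap 2 3 :=
    ⟨Equiv.swap 1 2, by decide +kernel⟩
  have c3 : ∃ r : Equiv.Perm (Fin 4),
      r * (Equiv.swap 0 3 * Equiv.swap 1 2) * r⁻¹ = Equiv.swap 0 1 * Equiv.swap 2 3 :=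
    ⟨Equiv.swap 1 3, by decide +kernel⟩
  rw [injective_iff_map_eq_one]
  intro σ hσ
  rcases key σ with h1 | h1 | ⟨τ, h1 | h1 | h1⟩
  · exact h1
  · exact absurd (h1 ▸ hσ) h
  · exact absurd (by rw [← h1]; simp [hσ]) h
  · obtain ⟨r, hr⟩ := c2
    exact absurd (by rw [← hr, ← h1]; simp [hσ]) h
  · obtain ⟨r, hr⟩ := c3
    exact absurd (by rw [← hr, ← h1]; simp [hσ]) h

end Cfsg.Agent.ThreeTrans
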