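/-
Basic calculus of sets of 3-transpositions.

Main results:
* `ne_one`, `mul_self`, `inv_eq`, `orderOf_eq`
* `commute_iff_sq`, `pow_three_of_not_commute`, `braid`, `commute_or_braid`
* `conj_mem`, `braid_mem`
* `commute_mul_iff` (e centralises a*b iff it centralises a and b),
  `commute_mul_three_iff`
* `IsThreeTranspositionClass` gives `IsThreeTranspositionGroup` (`group_of_class`)
* commutingWidth: `ncard_le_commutingWidth`, `commutingWidth_le`, ...
-/
import Cfsg.Agent.EqLemmas

namespace Cfsg.Agent.ThreeTrans

open Cfsg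

variable {G : Type*} [Group G] {D : Set G}

theorem mul_self (hD : IsThreeTranspositionSet D) {d : G} (hd : d ∈ D) : d * d = 1 := by
  have h := pow_orderOf_eq_one d
  rw [hD.1 d hd, pow_two] at h
  exact h

theorem ne_one (hD : IsThreeTranspositionSet D) {d : G} (hd : d ∈ D) : d ≠ 1 := by
  intro h
  have := hD.1 d hd
  rw [h, orderOf_one] at this
  omega

theorem inv_eq (hD : IsThreeTranspositionSet D) {d : G} (hd : d ∈ D) : d⁻¹ = d :=
  inv_eq_of_mul_eq_one_left (mul_self hD hd)

theorem mul_self_cancel (hD : IsThreeTranspositionSet D) {d : G} (hd : d ∈ D) (x : G) :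
    d * (d * x) = x := by
  rw [← mul_assoc, mul_self hD hd, one_mul]

/-- Two involutions commute iff their product squares to one. -/
theorem commute_iff_sq (hD : IsThreeTranspositionSet D) {d e : G} (hd : d ∈ D) (he : e ∈ D) :
    Commute d e ↔ (d * e) ^ 2 = 1 := by
  rw [pow_two, mul_eq_one_iff_eq_inv, mul_inv_rev, inv_eq hD hd, inv_eq hD he]
  exact Iff.rfl

theorem pow_three_of_not_commute (hD : IsThreeTranspositionSet D) {d e : G} (hd : d ∈ D)
    (he : e ∈ D) (h : ¬ Commute d e) : (d * e) ^ 3 = 1 :=
  (hD.2 d hd e he).resolve_left fun h2 => h ((commute_iff_sq hD hd he).2 h2)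

theorem braid_of_pow_three (hD : IsThreeTranspositionSet D) {d e : G} (hd : d ∈ D)
    (he : e ∈ D) (h : (d * e) ^ 3 = 1) : d * e * d = e * d * e := by
  have h' : (d * e * d) * (e * d * e) = 1 := by
    rw [← h]; simp [pow_succ, mul_assoc]
  rw [eq_inv_of_mul_eq_one_left h', mul_inv_rev, mul_inv_rev, inv_eq hD hd, inv_eq hD he,
    mul_assoc]

theorem braid (hD : IsThreeTranspositionSet D) {d e : G} (hd : d ∈ D)
    (he : e ∈ D) (h : ¬ Commute d e) : d * e * d = e * d * e :=
  braid_of_pow_three hD hd he (pow_three_of_not_commute hD hd he h)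

theorem commute_or_braid (hD : IsThreeTranspositionSet D) {d e : G} (hd : d ∈ D)
    (he : e ∈ D) : Commute d e ∨ d * e * d = e * d * e := by
  by_cases h : Commute d e
  · exact Or.inl h
  · exact Or.inr (braid hD hd he h)

theorem conj_conj_of_commute (hD : IsThreeTranspositionSet D) {d e : G} (hd : d ∈ D)
    (h : Commute d e) : d * e * d = e := by
  rw [h.eq, mul_assoc, mul_self hD hd, mul_one]

theorem commute_of_conj_eq (hD : IsThreeTranspositionSet D) {d e : G} (hd : d ∈ D)
    (h : d * e * d = e) : Commute d e := by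
  show d * e = e * d
  calc d * e = d * e * (d * d) := by rw [mul_self hD hd, mul_one]
    _ = (d * e * d) * d := by simp only [mul_assoc]
    _ = e * d := by rw [h]

/-- In a non-commuting pair the conjugate differs from both members. -/
theorem conj_ne_left (hD : IsThreeTranspositionSet D) {d e : G} (hd : d ∈ D)
    (h : ¬ Commute d e) : d * e * d ≠ d := by
  intro hc
  apply h
  have he : e = d := by
    have := congrArg (fun x => d * x * d) hc
    simpa [mul_assoc, mul_self hD hd, mul_self_cancel hD hd] using this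
  rw [he]

theorem conj_ne_right (hD : IsThreeTranspositionSet D) {d e : G} (hd : d ∈ D)
    (h : ¬ Commute d e) : d * e * d ≠ e :=
  fun hc => h (commute_of_conj_eq hD hd hc)

theorem conj_mem (hD : IsThreeTranspositionSet D) (hconj : ∀ g : G, ∀ d ∈ D, g * d * g⁻¹ ∈ D)
    {d e : G} (hd : d ∈ D) (he : e ∈ D) : d * e * d ∈ D := by
  have := hconj d e he
  rwa [inv_eq hD hd] at this

/-- If `e` centralises the product of two different commuting members, it centralises both. -/
theorem commute_mul_iff (hD : IsThreeTranspositionSet D) {a b e : G} (ha : a ∈ D) (hb : b ∈ D)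
    (he : e ∈ D) (hne : a ≠ b) (_hcomm : Commute a b) :
    Commute e (a * b) ↔ Commute e a ∧ Commute e b := by
  refine ⟨fun h => ?_, fun h => h.1.mul_right h.2⟩
  have key : a * e * a = b * e * b := by
    calc a * e * a = a * (e * (a * b)) * b := by
          simp only [mul_assoc, mul_self hD hb, mul_one]
      _ = a * (a * b * e) * b := by rw [h.eq]
      _ = b * e * b := by simp only [mul_assoc, mul_self_cancel hD ha]
  rcases commute_or_braid hD he ha with h1 | h1
  · rw [conj_conj_of_commute hD ha h1.symm] at key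
    exact ⟨h1, (commute_of_conj_eq hD hb key.symm).symm⟩
  · rcases commute_or_braid hD he hb with h2 | h2
    · rw [conj_conj_of_commute hD hb h2.symm] at key
      exact ⟨(commute_of_conj_eq hD ha key).symm, h2⟩
    · exfalso
      rw [← h1, ← h2] at key
      exact hne (mul_left_cancel (mul_right_cancel key))

/-- If `e` centralises the product of three different pairwise commuting members, it centralises
each of them. -/
theorem commute_mul_three_iff (hD : IsThreeTranspositionSet D) {a b c e : G} (ha : a ∈ D)
    (hb : b ∈ D) (hc : c ∈ D) (he : e ∈ D) (hab : a ≠ b) (hac : a ≠ c) (hbc : b ≠ c)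
    (h₁ : Commute a b) (h₂ : Commute a c) (h₃ : Commute b c) :
    Commute e (a * b * c) ↔ Commute e a ∧ Commute e b ∧ Commute e c := by
  refine ⟨fun h => ?_, fun h => (h.1.mul_right h.2.1).mul_right h.2.2⟩
  -- if `e` centralises one factor, it centralises the product of the other two
  by_cases hea : Commute e a
  · have hbc' : Commute e (b * c) := by
      have h4 := hea.mul_right h
      rwa [mul_assoc a b c, mul_self_cancel hD ha] at h4
    exact ⟨hea, (commute_mul_iff hD hb hc he hbc h₃).1 hbc'⟩
  by_cases heb : Commute e b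
  · have hac' : Commute e (a * c) := by
      have h4 := heb.mul_right h
      rw [h₁.eq, mul_assoc b a c, mul_self_cancel hD hb] at h4
      exact h4
    exact absurd ((commute_mul_iff hD ha hc he hac h₂).1 hac').1 hea
  by_cases hec : Commute e c
  · have hab' : Commute e (a * b) := by
      have h4 := h.mul_right hec
      rwa [mul_assoc (a * b) c c, mul_self hD hc, mul_one] at h4
    exact absurd ((commute_mul_iff hD ha hb he hab h₁).1 hab').1 hea
  exfalso
  have hA := braid hD he ha hea
  have hB := braid hD he hb heb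
  have hC := braid hD he hc hec
  have key : a * e * a = b * (c * e * c) * b := by
    have h4 : a * b * c * e * (c * b * a) = e := by
      rw [← h.eq]
      simp only [mul_assoc, mul_self_cancel hD hc, mul_self_cancel hD hb, mul_self hD ha, mul_one]
    calc a * e * a = a * (a * b * c * e * (c * b * a)) * a := by rw [h4]
      _ = b * (c * e * c) * b := by
          simp only [mul_assoc, mul_self_cancel hD ha, mul_self hD ha, mul_one]
  apply hea
  rw [← hA, ← hC] at key
  -- key : e * a * e = b * (e * c * e) * b
  have hfin : a = e * a * e :=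
    calc a = e * (e * a * e) * e := by
          simp only [mul_assoc, mul_self_cancel hD he, mul_self hD he, mul_one]
      _ = e * b * e * c * (e * b * e) := by rw [key]; simp only [mul_assoc]
      _ = b * e * (b * c * b) * (e * b) := by rw [hB]; simp only [mul_assoc]
      _ = b * e * c * (e * b) := by rw [conj_conj_of_commute hD hb h₃]
      _ = e * a * e := by rw [key]; simp only [mul_assoc]
  exact commute_of_conj_eq hD he hfin.symm

theorem group_of_class (hD : IsThreeTranspositionClass D) : IsThreeTranspositionGroup D := by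
  obtain ⟨h1, ⟨d, -, rfl⟩, h3⟩ := hD
  refine ⟨h1, fun g x hx => ?_, h3⟩
  change IsConj d x at hx
  show IsConj d _
  exact hx.trans (isConj_iff.2 ⟨g, rfl⟩)

theorem class_conj (hD : IsThreeTranspositionClass D) {a b : G} (ha : a ∈ D) (hb : b ∈ D) :
    ∃ g : G, g * a * g⁻¹ = b := by
  obtain ⟨-, ⟨d, -, rfl⟩, -⟩ := hD
  change IsConj d a at ha
  change IsConj d b at hb
  exact isConj_iff.1 (ha.symm.trans hb)

theorem ncard_le_commutingWidth [Finite G] {E : Set G} (hE : E ⊆ D)
    (hc : ∀ a ∈ E, ∀ b ∈ E, Commute a b) : E.ncard ≤ commutingWidth D := by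
  apply le_csSup
  · refine ⟨Nat.card G, ?_⟩
    rintro n ⟨F, -, -, -, rfl⟩
    exact Set.ncard_le_card F
  · exact ⟨E, hE, Set.toFinite E, hc, rfl⟩

theorem exists_commutingWidth [Finite G] (D : Set G) :
    ∃ E : Set G, E ⊆ D ∧ (∀ a ∈ E, ∀ b ∈ E, Commute a b) ∧ E.ncard = commutingWidth D := by
  have hne : {n : ℕ | ∃ E : Set G, E ⊆ D ∧ E.Finite ∧ (∀ a ∈ E, ∀ b ∈ E, Commute a b) ∧
      E.ncard = n}.Nonempty := ⟨0, ∅, Set.empty_subset _, Set.finite_empty, by simp, by simp⟩
  have hbdd : BddAbove {n : ℕ | ∃ E : Set G, E ⊆ D ∧ E.Finite ∧ (∀ a ∈ E, ∀ b ∈ E, Commute a b) ∧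
      E.ncard = n} := by
    refine ⟨Nat.card G, ?_⟩
    rintro n ⟨F, -, -, -, rfl⟩
    exact Set.ncard_le_card F
  obtain ⟨E, h1, -, h2, h3⟩ := Nat.sSup_mem hne hbdd
  exact ⟨E, h1, h2, h3⟩

end Cfsg.Agent.ThreeTrans
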