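/-
Certificate: in a group generated by four involutions `s g` whose conjugates have pairwise products of
cube one, the subgroup generated by the products acts on the cosets of `⟨s 0, s 1, s 2⟩` through a
3-group.

Main result:
* `pow_smul_eq`: if `s 0, s 1, s 2` fix `ω`, then for `x` in `⟨s 0 s 1, s 0 s 2, s 0 s 3⟩` the
  power `x ^ 3^7` fixes every point of the orbit of `ω` under `⟨s 0, …, s 3⟩`.
-/
import Cfsg.Agent.Lib.ThreeTrans.FourPointData

namespace Cfsg.Agent.ThreeTrans.FourPoint

/-! ### the checker -/

/-- table lookup -/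
def act (g : Fin 4) (i : ℕ) : ℕ :=
  match g with
  | 0 => (tab0 >>> (12 * i)) % 4096
  | 1 => (tab1 >>> (12 * i)) % 4096
  | 2 => (tab2 >>> (12 * i)) % 4096
  | 3 => (tab3 >>> (12 * i)) % 4096

/-- action of a word -/
def path : List (Fin 4) → ℕ → ℕ
  | [], c => c
  | g :: w, c => act g (path w c)

/-- index of an edge -/
def edge (g : Fin 4) (i : ℕ) : ℕ := i * 4 + g.val

/-- action of a word along known edges -/
def kpath (known : ℕ) : List (Fin 4) → ℕ → Option ℕ
  | [], c => some c
  | g :: w, c =>
    match kpath known w c with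
    | some f => if known.testBit (edge g f) then some (act g f) else none
    | none => none

/-- cancel adjacent equal letters -/
def push (g : Fin 4) : List (Fin 4) → List (Fin 4)
  | [] => [g]
  | h :: t => if g = h then t else g :: h :: t

/-- free reduction -/
def red : List (Fin 4) → List (Fin 4)
  | [] => []
  | g :: w => push g (red w)

/-- the word of a point -/
def pointWord (n : ℕ) : List (Fin 4) :=
  match points[n]? with
  | some (pre, h) => pre ++ h :: pre.reverse
  | none => [0]

/-- the word of a relator -/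
def relWord (r : ℕ) : List (Fin 4) :=
  match rels[r]? with
  | some (u, v) =>
    red ((pointWord u ++ pointWord v) ++ ((pointWord u ++ pointWord v) ++
      (pointWord u ++ pointWord v)))
  | none => []

/-- decode a packed word -/
def decode : ℕ → ℕ → List (Fin 4)
  | 0, _ => []
  | fuel + 1, code =>
    if code % 8 = 0 then [] else
      (Fin.ofNat 4 (code % 8 - 1)) :: decode fuel (code >>> 3)

/-- coset representative word -/
def rep (i : ℕ) : List (Fin 4) := decode 21 ((codes >>> (64 * i)) % 18446744073709551616)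

/-- justification of an initial edge -/
def initOK (g : Fin 4) (i : ℕ) : Bool :=
  (i == 0 && act g i == 0 && g.val != 3) || rep (act g i) == g :: rep i ||
    rep i == g :: rep (act g i)

/-- the initial edges with index in `[start, start + 2^m)` -/
def initR : ℕ → ℕ → Option ℕ
  | 0, start =>
    if start < numInit then
      let e := (inits >>> (14 * start)) % 16384
      let g := Fin.ofNat 4 (e % 4)
      if initOK g (e / 4) then some (2 ^ edge g (e / 4)) else none
    else some 0
  | m + 1, start =>
    match initR m start, initR m (start + 2 ^ m) with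
    | some a, some b => some (a ||| b)
    | _, _ => none

/-- one deduction -/
def step (known : ℕ) (d : ℕ) : Option ℕ :=
  let c := d % 4096
  let pos := d >>> 24
  let w := relWord ((d >>> 12) % 4096)
  match w.drop pos with
  | [] => none
  | g :: post =>
    match kpath known post c with
    | none => none
    | some f =>
      match kpath known (w.take pos) (act g f) with
      | none => none
      | some c' =>
        if c' = c ∧ act g (act g f) = f then
          some (known ||| (2 ^ edge g f ||| 2 ^ edge g (act g f))) else none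

/-- the deductions with index in `[start, start + 2^m)` -/
def stepR : ℕ → ℕ → ℕ → Option ℕ
  | 0, start, known =>
    if start < numSteps then step known ((steps >>> (32 * start)) % 4294967296) else some known
  | m + 1, start, known =>
    match stepR m start known with
    | some known' => stepR m (start + 2 ^ m) known'
    | none => none

/-- all edges get known, and the table stays in range -/
def checkTable : Bool :=
  match initR 13 0 with
  | some known =>
    match stepR 12 0 known with
    | some known' => known' == 2 ^ (4 * numPts) - 1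
    | none => false
  | none => false

/-- range of the table -/
def checkRange : Bool :=
  (List.range numPts).all fun i =>
    decide (act 0 i < numPts) && decide (act 1 i < numPts) && decide (act 2 i < numPts) &&
      decide (act 3 i < numPts)

/-- the product of `s 0` and `s g` on points -/
def prodAct (g : Fin 4) (i : ℕ) : ℕ := act 0 (act g (i % numPts))

/-- compatibility with reduction mod `3^k` -/
def checkA (g : Fin 4) (k : ℕ) : Bool :=
  (List.range numPts).all fun i => prodAct g i % 3 ^ k == prodAct g (i % 3 ^ k) % 3 ^ k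

/-- commutation with the translation by `3^k` modulo `3^(k+1)` -/
def checkB (g : Fin 4) (k : ℕ) : Bool :=
  (List.range (3 ^ (k + 1))).all fun i =>
    prodAct g ((i + 3 ^ k) % 3 ^ (k + 1)) % 3 ^ (k + 1) == (prodAct g i + 3 ^ k) % 3 ^ (k + 1)

/-- triangularity of the three products -/
def checkTri : Bool :=
  ([1, 2, 3] : List (Fin 4)).all fun g =>
    ((List.range 8).all fun k => checkA g k) && ((List.range 7).all fun k => checkB g k)

theorem checkTable_eq : checkTable = true := by decide +kernel

theorem checkRange_eq : checkRange = true := by decide +kernel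

theorem checkTri_eq : checkTri = true := by decide +kernel

theorem rep_zero : rep 0 = [] := by decide +kernel

/-! ### soundness -/

variable {G : Type*} [Group G] {Ω : Type*} [MulAction G Ω]

/-- evaluation of a word -/
def ev (s : Fin 4 → G) (w : List (Fin 4)) : G := (w.map s).prod

theorem ev_cons (s : Fin 4 → G) (g : Fin 4) (w : List (Fin 4)) : ev s (g :: w) = s g * ev s w := by
  simp [ev]

theorem ev_append (s : Fin 4 → G) (u v : List (Fin 4)) : ev s (u ++ v) = ev s u * ev s v := by
  simp [ev]

theorem ev_push (s : Fin 4 → G) (hinv : ∀ g, s g * s g = 1) (g : Fin 4) :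
    ∀ w : List (Fin 4), ev s (push g w) = s g * ev s w
  | [] => by simp [push, ev]
  | h :: t => by
    by_cases hg : g = h
    · simp only [push, if_pos hg]
      rw [ev_cons, hg, ← mul_assoc, hinv, one_mul]
    · simp only [push, if_neg hg]
      rw [ev_cons]

theorem ev_red (s : Fin 4 → G) (hinv : ∀ g, s g * s g = 1) :
    ∀ w : List (Fin 4), ev s (red w) = ev s w
  | [] => rfl
  | g :: w => by rw [red, ev_push s hinv, ev_red s hinv w, ev_cons]

theorem ev_reverse (s : Fin 4 → G) (hinv : ∀ g, s g * s g = 1) :
    ∀ w : List (Fin 4), ev s w.reverse = (ev s w)⁻¹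
  | [] => by simp [ev]
  | g :: w => by
    rw [List.reverse_cons, ev_append, ev_reverse s hinv w, ev_cons s g w, mul_inv_rev]
    simp [ev, inv_eq_of_mul_eq_one_left (hinv g)]

/-- The hypotheses on the four generators. -/
structure Hyp (D : Set G) (s : Fin 4 → G) (ω : Ω) : Prop where
  mem : ∀ g, s g ∈ D
  inv : ∀ g, s g * s g = 1
  conj : ∀ x : G, ∀ d ∈ D, x * d * x⁻¹ ∈ D
  cube : ∀ u ∈ D, ∀ v ∈ D, (u * v) ^ 3 = 1
  fix : ∀ g : Fin 4, g.val ≠ 3 → s g • ω = ω

variable {D : Set G} {s : Fin 4 → G} {ω : Ω}

theorem ev_pointWord (h : Hyp D s ω) (n : ℕ) : ev s (pointWord n) ∈ D := by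
  unfold pointWord
  split
  · rename_i pre p _
    rw [ev_append, ev_cons, ev_reverse s h.inv, ← mul_assoc]
    exact h.conj _ _ (h.mem p)
  · simpa [ev] using h.mem 0

theorem ev_relWord (h : Hyp D s ω) (r : ℕ) : ev s (relWord r) = 1 := by
  unfold relWord
  split
  · rename_i u v _
    rw [ev_red s h.inv]
    simp only [ev_append]
    rw [← h.cube _ (ev_pointWord h u) _ (ev_pointWord h v)]
    simp only [pow_succ, pow_zero, one_mul, mul_assoc]
  · simp [ev]

/-- the point with index `i` -/
def pt (s : Fin 4 → G) (ω : Ω) (i : ℕ) : Ω := ev s (rep i) • ω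

theorem pt_zero (s : Fin 4 → G) (ω : Ω) : pt s ω 0 = ω := by simp [pt, rep_zero, ev]

/-- a valid set of known edges -/
def Valid (s : Fin 4 → G) (ω : Ω) (known : ℕ) : Prop :=
  ∀ e, known.testBit e = true → ∀ g i, e = edge g i → s g • pt s ω i = pt s ω (act g i)

theorem edge_inj {g g' : Fin 4} {i i' : ℕ} (h : edge g i = edge g' i') : g = g' ∧ i = i' := by
  unfold edge at h
  have := g.isLt
  have := g'.isLt
  exact ⟨Fin.ext (by omega), by omega⟩

theorem valid_or {known : ℕ} (hk : Valid s ω known) {g : Fin 4} {i : ℕ}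
    (hE : s g • pt s ω i = pt s ω (act g i)) : Valid s ω (known ||| 2 ^ edge g i) := by
  intro e he g' i' hee
  rw [Nat.testBit_or, Bool.or_eq_true] at he
  rcases he with he | he
  · exact hk e he g' i' hee
  · rw [Nat.testBit_two_pow, decide_eq_true_iff] at he
    obtain ⟨rfl, rfl⟩ := edge_inj (he.trans hee)
    exact hE

theorem kpath_sound {known : ℕ} (hk : Valid s ω known) :
    ∀ (w : List (Fin 4)) {c f : ℕ}, kpath known w c = some f → ev s w • pt s ω c = pt s ω f
  | [], c, f, hf => by simp only [kpath, Option.some.injEq] at hf; simp [ev, hf]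
  | g :: w, c, f, hf => by
    rw [kpath] at hf
    split at hf
    · rename_i f' hf'
      split at hf
      · rename_i hb
        simp only [Option.some.injEq] at hf
        rw [ev_cons, mul_smul, kpath_sound hk w hf', ← hf]
        exact hk _ hb g f' rfl
      · simp at hf
    · simp at hf

theorem initOK_sound (h : Hyp D s ω) {g : Fin 4} {i : ℕ} (hok : initOK g i = true) :
    s g • pt s ω i = pt s ω (act g i) := by
  simp only [initOK, Bool.or_eq_true, Bool.and_eq_true, beq_iff_eq, bne_iff_ne] at hok
  rcases hok with (⟨⟨h1, h2⟩, h3⟩ | h1) | h1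
  · rw [h2, h1, pt_zero]
    exact h.fix g h3
  · simp only [pt, h1, ev_cons, mul_smul]
  · simp only [pt, h1, ev_cons, mul_smul]
    rw [← mul_smul, h.inv, one_smul]

theorem valid_or' {a b : ℕ} (ha : Valid s ω a) (hb : Valid s ω b) : Valid s ω (a ||| b) := by
  intro e he g i hee
  rw [Nat.testBit_or, Bool.or_eq_true] at he
  rcases he with he | he
  · exact ha e he g i hee
  · exact hb e he g i hee

theorem valid_zero (s : Fin 4 → G) (ω : Ω) : Valid s ω 0 := by
  intro e he
  simp at he

theorem initR_sound (h : Hyp D s ω) :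
    ∀ m start {known : ℕ}, initR m start = some known → Valid s ω known
  | 0, start, known, hk => by
    rw [initR] at hk
    split at hk
    · dsimp only at hk
      split at hk
      · rename_i hok
        simp only [Option.some.injEq] at hk
        rw [← hk, ← Nat.zero_or (2 ^ edge _ _)]
        exact valid_or (valid_zero s ω) (initOK_sound h hok)
      · simp at hk
    · simp only [Option.some.injEq] at hk
      rw [← hk]
      exact valid_zero s ω
  | m + 1, start, known, hk => by
    rw [initR] at hk
    split at hk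
    · rename_i a b ha hb
      simp only [Option.some.injEq] at hk
      rw [← hk]
      exact valid_or' (initR_sound h m _ ha) (initR_sound h m _ hb)
    · simp at hk

theorem step_sound (h : Hyp D s ω) {known known' d : ℕ} (hk : Valid s ω known)
    (hd : step known d = some known') : Valid s ω known' := by
  simp only [step] at hd
  split at hd
  · simp at hd
  · rename_i g post hw
    split at hd
    · simp at hd
    · rename_i f hf
      split at hd
      · simp at hd
      · rename_i c' hc'
        split at hd
        · rename_i hcc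
          obtain ⟨rfl, hinvol⟩ := hcc
          simp only [Option.some.injEq] at hd
          set w := relWord (d >>> 12 % 4096) with hwdef
          have hw1 : ev s w = 1 := ev_relWord h _
          rw [← List.take_append_drop (d >>> 24) w, hw, ev_append, ev_cons] at hw1
          have hpost := kpath_sound hk _ hf
          have hpre := kpath_sound hk _ hc'
          have hE : s g • pt s ω f = pt s ω (act g f) := by
            apply smul_left_cancel (ev s (w.take (d >>> 24)))
            rw [hpre, ← hpost, ← mul_smul (s g), ← mul_smul, hw1, one_smul]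
          have hE' : s g • pt s ω (act g f) = pt s ω (act g (act g f)) := by
            rw [hinvol, ← hE, ← mul_smul, h.inv, one_smul]
          rw [← hd, ← Nat.lor_assoc]
          exact valid_or (valid_or hk hE) hE'
        · simp at hd

theorem stepR_sound (h : Hyp D s ω) :
    ∀ m start {known known' : ℕ}, Valid s ω known → stepR m start known = some known' →
      Valid s ω known'
  | 0, start, known, known', hv, hk => by
    rw [stepR] at hk
    split at hk
    · exact step_sound h hv hk
    · simp only [Option.some.injEq] at hk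
      rw [← hk]; exact hv
  | m + 1, start, known, known', hv, hk => by
    rw [stepR] at hk
    split at hk
    · rename_i kn hkn
      exact stepR_sound h m _ (stepR_sound h m _ hv hkn) hk
    · simp at hk

theorem smul_pt (h : Hyp D s ω) (g : Fin 4) {i : ℕ} (hi : i < numPts) :
    s g • pt s ω i = pt s ω (act g i) := by
  have hc := checkTable_eq
  unfold checkTable at hc
  split at hc
  · rename_i known hk
    split at hc
    · rename_i known' hk'
      rw [beq_iff_eq] at hc
      refine stepR_sound h _ _ (initR_sound h _ _ hk) hk' (edge g i) ?_ g i rfl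
      rw [hc, Nat.testBit_two_pow_sub_one, decide_eq_true_iff]
      unfold edge numPts at *
      have := g.isLt
      omega
    · simp at hc
  · simp at hc

theorem act_lt (g : Fin 4) {i : ℕ} (hi : i < numPts) : act g i < numPts := by
  have h := List.all_eq_true.1 checkRange_eq i (List.mem_range.2 hi)
  simp only [Bool.and_eq_true, decide_eq_true_iff] at h
  match g with
  | 0 => exact h.1.1.1
  | 1 => exact h.1.1.2
  | 2 => exact h.1.2
  | 3 => exact h.2

/-! ### triangular maps -/

/-- maps compatible with the ternary filtration and inducing translations on each layer -/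
def Tri (σ : ℕ → ℕ) : Prop :=
  (∀ k ≤ 7, ∀ i, σ i % 3 ^ k = σ (i % 3 ^ k) % 3 ^ k) ∧
    ∀ k < 7, ∀ i, σ (i + 3 ^ k) % 3 ^ (k + 1) = (σ i + 3 ^ k) % 3 ^ (k + 1)

theorem tri_id : Tri id := ⟨fun k _ i => by simp, fun k _ i => rfl⟩

theorem Tri.comp {σ τ : ℕ → ℕ} (hσ : Tri σ) (hτ : Tri τ) : Tri (σ ∘ τ) := by
  refine ⟨fun k hk i => ?_, fun k hk i => ?_⟩
  · simp only [Function.comp_apply]
    rw [hσ.1 k hk, hτ.1 k hk, ← hσ.1 k hk]
  · simp only [Function.comp_apply]
    rw [hσ.1 _ (by omega), hτ.2 k hk, ← hσ.1 _ (by omega)]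
    exact hσ.2 k hk _

theorem Tri.iterate {σ : ℕ → ℕ} (hσ : Tri σ) : ∀ m, Tri σ^[m]
  | 0 => tri_id
  | m + 1 => by rw [Function.iterate_succ]; exact (Tri.iterate hσ m).comp hσ

theorem Tri.iterate_pow {σ : ℕ → ℕ} (hσ : Tri σ) :
    ∀ k ≤ 7, ∀ i, (σ^[3 ^ k]) i % 3 ^ k = i % 3 ^ k
  | 0, _, i => by simp [Nat.mod_one]
  | k + 1, hk, i => by
    set τ := σ^[3 ^ k] with hτdef
    have hτ : Tri τ := hσ.iterate _
    have hlow : ∀ j, τ j % 3 ^ k = j % 3 ^ k := Tri.iterate_pow hσ k (by omega)
    have hpos : 0 < 3 ^ k := pow_pos (by norm_num) k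
    have hshift : ∀ c j, τ (j + c * 3 ^ k) % 3 ^ (k + 1) = (τ j + c * 3 ^ k) % 3 ^ (k + 1) := by
      intro c
      induction c with
      | zero => simp
      | succ c ih =>
        intro j
        rw [Nat.succ_mul, ← Nat.add_assoc, hτ.2 k (by omega), Nat.add_mod, ih, ← Nat.add_mod,
          Nat.add_assoc]
    obtain ⟨c, hc⟩ : ∃ c, τ i % 3 ^ (k + 1) = (i + c * 3 ^ k) % 3 ^ (k + 1) := by
      have h3 : 3 ^ (k + 1) = 3 * 3 ^ k := by ring
      refine ⟨τ i / 3 ^ k + 2 * (i / 3 ^ k), ?_⟩
      have h1 := hlow i
      have ei := Nat.div_add_mod i (3 ^ k)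
      have et := Nat.div_add_mod (τ i) (3 ^ k)
      have key : i + (τ i / 3 ^ k + 2 * (i / 3 ^ k)) * 3 ^ k =
          τ i + 3 ^ (k + 1) * (i / 3 ^ k) := by
        rw [h3]
        calc i + (τ i / 3 ^ k + 2 * (i / 3 ^ k)) * 3 ^ k
            = (3 ^ k * (i / 3 ^ k) + i % 3 ^ k) + (τ i / 3 ^ k + 2 * (i / 3 ^ k)) * 3 ^ k := by
              rw [ei]
          _ = (3 ^ k * (τ i / 3 ^ k) + τ i % 3 ^ k) + 3 * 3 ^ k * (i / 3 ^ k) := by rw [h1]; ring
          _ = _ := by rw [et]
      rw [key, Nat.add_mul_mod_self_left]
    have hmul : ∀ m, (τ^[m]) i % 3 ^ (k + 1) = (i + m * c * 3 ^ k) % 3 ^ (k + 1) := by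
      intro m
      induction m with
      | zero => simp
      | succ m ih =>
        rw [Function.iterate_succ_apply', hτ.1 _ hk, ih, ← hτ.1 _ hk, hshift, Nat.add_mod, hc,
          ← Nat.add_mod]
        congr 1
        ring
    rw [pow_succ 3 k, Function.iterate_mul, ← pow_succ, hmul 3]
    have : 3 * c * 3 ^ k = 3 ^ (k + 1) * c := by ring
    rw [this, Nat.add_mul_mod_self_left]

theorem tri_prodAct (g : Fin 4) (hg : g ≠ 0) : Tri (prodAct g) := by
  have hmem : g ∈ ([1, 2, 3] : List (Fin 4)) := by revert hg; revert g; decide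
  have h := List.all_eq_true.1 checkTri_eq g hmem
  rw [Bool.and_eq_true] at h
  have hA : ∀ k ≤ 7, ∀ i, prodAct g i % 3 ^ k = prodAct g (i % 3 ^ k) % 3 ^ k := by
    intro k hk i
    have h1 := List.all_eq_true.1 h.1 k (List.mem_range.2 (by omega))
    have h2 := List.all_eq_true.1 h1 (i % numPts) (List.mem_range.2 (Nat.mod_lt _ (by norm_num)))
    rw [beq_iff_eq] at h2
    have hd : 3 ^ k ∣ numPts := by
      rw [show numPts = 3 ^ 7 by norm_num]; exact pow_dvd_pow 3 hk
    have e1 : prodAct g (i % numPts) = prodAct g i := by simp [prodAct]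
    rw [e1, Nat.mod_mod_of_dvd _ hd] at h2
    exact h2
  refine ⟨hA, fun k hk i => ?_⟩
  have h1 := List.all_eq_true.1 h.2 k (List.mem_range.2 hk)
  have h2 := List.all_eq_true.1 h1 (i % 3 ^ (k + 1))
    (List.mem_range.2 (Nat.mod_lt _ (pow_pos (by norm_num) _)))
  rw [beq_iff_eq] at h2
  rw [Nat.mod_add_mod, ← hA _ (by omega)] at h2
  rw [h2, Nat.add_mod, ← hA _ (by omega), ← Nat.add_mod]

/-- elements acting triangularly -/
def TriElt (s : Fin 4 → G) (ω : Ω) (x : G) : Prop :=
  ∃ σ, Tri σ ∧ ∀ i < numPts, x • pt s ω i = pt s ω (σ i % numPts)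

theorem TriElt.mul {x y : G} (hx : TriElt s ω x) (hy : TriElt s ω y) : TriElt s ω (x * y) := by
  obtain ⟨σ, hσ, hxσ⟩ := hx
  obtain ⟨τ, hτ, hyτ⟩ := hy
  refine ⟨σ ∘ τ, hσ.comp hτ, fun i hi => ?_⟩
  rw [mul_smul, hyτ i hi, hxσ _ (Nat.mod_lt _ (by norm_num))]
  have := hσ.1 7 le_rfl (τ i)
  rw [show (3 : ℕ) ^ 7 = numPts by norm_num] at this
  rw [Function.comp_apply, this]

theorem triElt_one : TriElt s ω (1 : G) :=
  ⟨id, tri_id, fun i hi => by rw [one_smul, id, Nat.mod_eq_of_lt hi]⟩

theorem triElt_prod (h : Hyp D s ω) (g : Fin 4) (hg : g ≠ 0) : TriElt s ω (s 0 * s g) := by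
  refine ⟨prodAct g, tri_prodAct g hg, fun i hi => ?_⟩
  rw [mul_smul, smul_pt h g hi, smul_pt h 0 (act_lt g hi)]
  rw [prodAct, Nat.mod_eq_of_lt hi, Nat.mod_eq_of_lt (act_lt 0 (act_lt g hi))]

theorem triElt_of_mem [Finite G] (h : Hyp D s ω) {x : G}
    (hx : x ∈ Subgroup.closure ({s 0 * s 1, s 0 * s 2, s 0 * s 3} : Set G)) : TriElt s ω x := by
  rw [← Subgroup.mem_toSubmonoid, Subgroup.closure_toSubmonoid_of_finite] at hx
  induction hx using Submonoid.closure_induction with
  | mem y hy =>
    rcases hy with rfl | rfl | rfl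
    · exact triElt_prod h 1 (by decide)
    · exact triElt_prod h 2 (by decide)
    · exact triElt_prod h 3 (by decide)
  | one => exact triElt_one
  | mul y z _ _ hy hz => exact hy.mul hz

theorem mem_range_pt [Finite G] (h : Hyp D s ω) {x : G}
    (hx : x ∈ Subgroup.closure (Set.range s)) : ∃ i < numPts, x • ω = pt s ω i := by
  rw [← Subgroup.mem_toSubmonoid, Subgroup.closure_toSubmonoid_of_finite] at hx
  have : ∀ i < numPts, ∃ j < numPts, x • pt s ω i = pt s ω j := by
    induction hx using Submonoid.closure_induction with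
    | mem y hy =>
      obtain ⟨g, rfl⟩ := hy
      exact fun i hi => ⟨_, act_lt g hi, smul_pt h g hi⟩
    | one => exact fun i hi => ⟨i, hi, one_smul _ _⟩
    | mul y z _ _ hy hz =>
      intro i hi
      obtain ⟨j, hj, hz'⟩ := hz i hi
      obtain ⟨k, hk, hy'⟩ := hy j hj
      exact ⟨k, hk, by rw [mul_smul, hz', hy']⟩
  obtain ⟨j, hj, hx'⟩ := this 0 (by norm_num)
  exact ⟨j, hj, by rw [← hx', pt_zero]⟩

/-- Main certificate. -/
theorem pow_smul_eq [Finite G] (h : Hyp D s ω) {x : G}
    (hx : x ∈ Subgroup.closure ({s 0 * s 1, s 0 * s 2, s 0 * s 3} : Set G))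
    {y : G} (hy : y ∈ Subgroup.closure (Set.range s)) : x ^ (3 ^ 7) • y • ω = y • ω := by
  obtain ⟨σ, hσ, hxσ⟩ := triElt_of_mem h hx
  have hA : ∀ j, σ j % numPts = σ (j % numPts) % numPts := by
    intro j
    have := hσ.1 7 le_rfl j
    rwa [show (3 : ℕ) ^ 7 = numPts by norm_num] at this
  have hpow : ∀ m, ∀ i < numPts, x ^ m • pt s ω i = pt s ω (σ^[m] i % numPts) := by
    intro m
    induction m with
    | zero => intro i hi; simp [Nat.mod_eq_of_lt hi]
    | succ m ih =>
      intro i hi
      rw [pow_succ', mul_smul, ih i hi, hxσ _ (Nat.mod_lt _ (by norm_num)),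
        Function.iterate_succ_apply', ← hA]
  obtain ⟨i, hi, hyi⟩ := mem_range_pt h hy
  rw [hyi, hpow _ i hi]
  have := hσ.iterate_pow 7 le_rfl i
  rw [show (3 : ℕ) ^ 7 = numPts by norm_num] at this ⊢
  rw [this, Nat.mod_eq_of_lt hi]

end Cfsg.Agent.ThreeTrans.FourPoint
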