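/-
3-transposition sets of width one.

Main results:
* `isPGroup_plane`: two elements of order 3 whose product and quotient have order 3 generate a 3-group.
* `isPGroup_four`: for four involutions in a conjugation invariant set with all products of cube one,
  the products generate a 3-group.
* `mul_mem_pCore_three`: if all products of members of a conjugation invariant set of involutions cube
  to one, every such product lies in `O₃(G)`.
-/
import Cfsg.Agent.Lib.ThreeTrans.FourPoint
import Cfsg.Agent.Lib.Involution.BaerSuzuki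
import Cfsg.Agent.Lib.Cores.Basic

namespace Cfsg.Agent.ThreeTrans

open Cfsg

variable {G : Type*} [Group G]

theorem commute_conj_of_cubes {x y : G} (hy : y ^ 3 = 1) (hxy : (x * y) ^ 3 = 1)
    (hxy' : (x⁻¹ * y) ^ 3 = 1) : Commute x (y * x * y⁻¹) := by
  have hyi : y⁻¹ = y * y := inv_eq_of_mul_eq_one_left (by rw [← hy]; simp [pow_succ, mul_assoc])
  have h1 : y * x * y = x⁻¹ * y⁻¹ * x⁻¹ := by
    have : x * (y * x * y) * (x * y) = 1 := by rw [← hxy]; simp [pow_succ, mul_assoc]
    calc y * x * y = x⁻¹ * (x * (y * x * y) * (x * y)) * (x * y)⁻¹ := by group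
      _ = _ := by rw [this]; group
  have h2 : y⁻¹ * x = x⁻¹ * y * x⁻¹ * y := by
    have : (y⁻¹ * x) * (x⁻¹ * y * x⁻¹ * y) = x⁻¹ * y := by group
    have h3 : (x⁻¹ * y * x⁻¹ * y) * (x⁻¹ * y) = 1 := by rw [← hxy']; simp [pow_succ, mul_assoc]
    calc y⁻¹ * x = (x⁻¹ * y)⁻¹ := by group
      _ = _ := (eq_inv_of_mul_eq_one_left h3).symm
  show x * (y * x * y⁻¹) = y * x * y⁻¹ * x
  have hl : x * (y * x * y⁻¹) = y⁻¹ * x⁻¹ * y := by
    calc x * (y * x * y⁻¹) = x * (y * x * y) * y := by rw [hyi]; group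
      _ = x * (x⁻¹ * y⁻¹ * x⁻¹) * y := by rw [h1]
      _ = _ := by group
  have hr : y * x * y⁻¹ * x = y⁻¹ * x⁻¹ * y := by
    calc y * x * y⁻¹ * x = y * x * (y⁻¹ * x) := by group
      _ = y * x * (x⁻¹ * y * x⁻¹ * y) := by rw [h2]
      _ = (y * y) * x⁻¹ * y := by group
      _ = _ := by rw [hyi]
  rw [hl, hr]

theorem isPGroup_plane [Finite G] {x y : G} (hx : x ^ 3 = 1) (hy : y ^ 3 = 1)
    (hxy : (x * y) ^ 3 = 1) (hxy' : (x⁻¹ * y) ^ 3 = 1) :
    IsPGroup 3 (Subgroup.closure ({x, y} : Set G)) := by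
  have hy2 : (y⁻¹) ^ 3 = 1 := by rw [inv_pow, hy, inv_one]
  have c1 : Commute x (y * x * y⁻¹) := commute_conj_of_cubes hy hxy hxy'
  have c2 : Commute x (y⁻¹ * x * y) := by
    have h4 : (x * y⁻¹) ^ 3 = 1 := by
      have e : x * y⁻¹ = x * (x⁻¹ * y)⁻¹ * x⁻¹ := by group
      rw [e, conj_pow, inv_pow, hxy', inv_one, mul_one, mul_inv_cancel]
    have h5 : (x⁻¹ * y⁻¹) ^ 3 = 1 := by
      have e : x⁻¹ * y⁻¹ = (y * x)⁻¹ := by group
      have e2 : y * x = x⁻¹ * (x * y) * x⁻¹⁻¹ := by group
      rw [e, inv_pow, e2, conj_pow, hxy]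
      group
    simpa using commute_conj_of_cubes hy2 h4 h5
  set S : Set G := {x, y * x * y⁻¹, y⁻¹ * x * y} with hS
  have hcomm : ∀ a ∈ S, ∀ b ∈ S, Commute a b := by
    have c3 : Commute (y * x * y⁻¹) (y⁻¹ * x * y) := by
      have h : Commute (y * x * y⁻¹) (y * (y * x * y⁻¹) * y⁻¹) :=
        (c1.map (MulAut.conj y).toMonoidHom)
      have hyy : y⁻¹ = y * y := inv_eq_of_mul_eq_one_left (by rw [← hy]; simp [pow_succ, mul_assoc])
      have e : y * (y * x * y⁻¹) * y⁻¹ = y⁻¹ * x * y := by
        calc y * (y * x * y⁻¹) * y⁻¹ = (y * y) * x * (y * y)⁻¹ := by group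
          _ = _ := by rw [← hyy, inv_inv]
      rwa [e] at h
    rintro a (rfl | rfl | rfl) b (rfl | rfl | rfl)
    all_goals first
      | exact Commute.refl _
      | exact c1 | exact c1.symm | exact c2 | exact c2.symm | exact c3 | exact c3.symm
  have hcube : ∀ a ∈ S, a ^ 3 = 1 := by
    rintro a (rfl | rfl | rfl)
    · exact hx
    · rw [conj_pow, hx]; simp
    · have e : y⁻¹ * x * y = y⁻¹ * x * y⁻¹⁻¹ := by rw [inv_inv]
      rw [e, conj_pow, hx]; simp
  set A := Subgroup.closure S with hA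
  have hmapS : ∀ a ∈ S, y * a * y⁻¹ ∈ A := by
    have hyy : y⁻¹ = y * y := inv_eq_of_mul_eq_one_left (by rw [← hy]; simp [pow_succ, mul_assoc])
    rintro a (rfl | rfl | rfl)
    · exact Subgroup.subset_closure (Or.inr (Or.inl rfl))
    · have e : y * (y * x * y⁻¹) * y⁻¹ = y⁻¹ * x * y := by
        calc y * (y * x * y⁻¹) * y⁻¹ = (y * y) * x * (y * y)⁻¹ := by group
          _ = _ := by rw [← hyy, inv_inv]
      rw [e]; exact Subgroup.subset_closure (Or.inr (Or.inr rfl))
    · have e : y * (y⁻¹ * x * y) * y⁻¹ = x := by group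
      rw [e]; exact Subgroup.subset_closure (Or.inl rfl)
  have hconj : ∀ a ∈ A, y * a * y⁻¹ ∈ A := by
    intro a ha
    induction ha using Subgroup.closure_induction with
    | mem b hb => exact hmapS b hb
    | one => simp
    | mul b c _ _ h1 h2 => rw [← conj_mul]; exact A.mul_mem h1 h2
    | inv b _ h1 => rw [← conj_inv]; exact A.inv_mem h1
  have hnorm : y ∈ Subgroup.normalizer (A : Set G) := by
    rw [Subgroup.mem_normalizer_iff]
    intro a
    refine ⟨hconj a, fun h => ?_⟩
    have h2 := hconj _ (hconj _ h)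
    have e : y * (y * (y * a * y⁻¹) * y⁻¹) * y⁻¹ = y ^ 3 * a * (y ^ 3)⁻¹ := by
      simp [pow_succ, mul_assoc]
    rwa [e, hy, one_mul, inv_one, mul_one] at h2
  have hAp : IsPGroup 3 A := by
    rintro ⟨a, ha⟩
    refine ⟨1, Subtype.ext ?_⟩
    show a ^ 3 ^ 1 = 1
    rw [pow_one]
    have hA' := Subgroup.isMulCommutative_closure hcomm
    induction ha using Subgroup.closure_induction with
    | mem b hb => exact hcube b hb
    | one => simp
    | mul b c hb hc h1 h2 =>
      rw [(show Commute b c from congrArg Subtype.val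
        (mul_comm' (⟨b, hb⟩ : Subgroup.closure S) ⟨c, hc⟩)).mul_pow, h1, h2, one_mul]
    | inv b _ h1 => rw [inv_pow, h1, inv_one]
  have hYp : IsPGroup 3 (Subgroup.zpowers y) := by
    rintro ⟨a, n, rfl⟩
    refine ⟨1, Subtype.ext ?_⟩
    show (y ^ n) ^ 3 ^ 1 = 1
    rw [pow_one, ← zpow_natCast, ← zpow_mul, mul_comm, zpow_mul, zpow_natCast, hy, one_zpow]
  refine (IsPGroup.to_sup_of_normal_right' hYp hAp (by rwa [Subgroup.zpowers_le])).to_le ?_
  rw [Subgroup.closure_le]
  rintro a (rfl | rfl)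
  · exact Subgroup.mem_sup_right (Subgroup.subset_closure (Or.inl rfl))
  · exact Subgroup.mem_sup_left (Subgroup.mem_zpowers _)

/-- Hypotheses: a set of involutions all whose products cube to one, closed under conjugation. -/
structure CubeSet (D : Set G) : Prop where
  inv : ∀ d ∈ D, orderOf d = 2
  conj : ∀ g : G, ∀ d ∈ D, g * d * g⁻¹ ∈ D
  cube : ∀ u ∈ D, ∀ v ∈ D, (u * v) ^ 3 = 1

namespace CubeSet

variable {D : Set G}

theorem mul_self (hD : CubeSet D) {d : G} (hd : d ∈ D) : d * d = 1 := by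
  have h := pow_orderOf_eq_one d
  rwa [hD.inv d hd, pow_two] at h

theorem inv_eq (hD : CubeSet D) {d : G} (hd : d ∈ D) : d⁻¹ = d :=
  inv_eq_of_mul_eq_one_left (hD.mul_self hd)

theorem conj_eq (hD : CubeSet D) {a b : G} (ha : a ∈ D) (hb : b ∈ D) :
    a * b * a = b * a * b := by
  have h := hD.cube b hb a ha
  calc a * b * a = (b * a) ^ 3 * (a * b * a) := by rw [h, one_mul]
    _ = _ := by
        simp only [pow_succ, pow_zero, one_mul, mul_assoc]
        rw [← mul_assoc a a, hD.mul_self ha, one_mul, ← mul_assoc b b, hD.mul_self hb, one_mul,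
          hD.mul_self ha, mul_one]

theorem isPGroup_three [Finite G] (hD : CubeSet D) {a b c : G} (ha : a ∈ D) (hb : b ∈ D) (hc : c ∈ D) :
    IsPGroup 3 (Subgroup.closure ({a * b, a * c} : Set G)) := by
  have hbab : b * a * b ∈ D := by
    have := hD.conj b a ha
    rwa [hD.inv_eq hb] at this
  refine isPGroup_plane (hD.cube a ha b hb) (hD.cube a ha c hc) ?_ ?_
  · have hcube := hD.cube _ (hD.conj a b hb) c hc
    rw [hD.inv_eq ha] at hcube
    rwa [mul_assoc (a * b) a c] at hcube
  · rw [mul_inv_rev, hD.inv_eq ha, hD.inv_eq hb, mul_assoc, ← mul_assoc a a, hD.mul_self ha, one_mul]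
    exact hD.cube b hb c hc

/-- Elements of `⟨a, b, c⟩`. -/
theorem mem_closure_three (hD : CubeSet D) {a b c : G} (ha : a ∈ D) (hb : b ∈ D) (hc : c ∈ D)
    {h : G} (hh : h ∈ Subgroup.closure ({a, b, c} : Set G)) :
    h ∈ Subgroup.closure ({a * b, a * c} : Set G) ∨
      a * h ∈ Subgroup.closure ({a * b, a * c} : Set G) := by
  set K := Subgroup.closure ({a * b, a * c} : Set G) with hK
  have haa := hD.mul_self ha
  have hK' : ∀ k ∈ K, a * k * a ∈ K := by
    intro k hk
    induction hk using Subgroup.closure_induction with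
    | mem u hu =>
      rcases hu with rfl | rfl
      · rw [← mul_assoc a a, haa, one_mul]
        have e : b * a = (a * b)⁻¹ := by rw [mul_inv_rev, hD.inv_eq ha, hD.inv_eq hb]
        rw [e]
        exact K.inv_mem (Subgroup.subset_closure (Or.inl rfl))
      · rw [← mul_assoc a a, haa, one_mul]
        have e : c * a = (a * c)⁻¹ := by rw [mul_inv_rev, hD.inv_eq ha, hD.inv_eq hc]
        rw [e]
        exact K.inv_mem (Subgroup.subset_closure (Or.inr rfl))
    | one => simp [haa]
    | mul u v _ _ hu hv =>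
      have e : a * (u * v) * a = (a * u * a) * (a * v * a) := by
        simp only [mul_assoc]; rw [← mul_assoc a a, haa, one_mul]
      rw [e]; exact K.mul_mem hu hv
    | inv u _ hu =>
      have e : a * u⁻¹ * a = (a * u * a)⁻¹ := by
        simp [mul_assoc, hD.inv_eq ha]
      rw [e]; exact K.inv_mem hu
  have hgen : ∀ u ∈ ({a, b, c} : Set G), a * u ∈ K ∧ u * a ∈ K := by
    intro u hu
    have h1 : a * u ∈ K ∧ u ∈ D := by
      rcases hu with rfl | rfl | rfl
      · exact ⟨haa ▸ K.one_mem, ha⟩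
      · exact ⟨Subgroup.subset_closure (Or.inl rfl), hb⟩
      · exact ⟨Subgroup.subset_closure (Or.inr rfl), hc⟩
    refine ⟨h1.1, ?_⟩
    have := K.inv_mem h1.1
    rwa [mul_inv_rev, hD.inv_eq ha, hD.inv_eq h1.2] at this
  induction hh using Subgroup.closure_induction with
  | mem u hu => exact Or.inr (hgen u hu).1
  | one => exact Or.inl K.one_mem
  | mul u v _ _ hu hv =>
    rcases hu with hu | hu <;> rcases hv with hv | hv
    · exact Or.inl (K.mul_mem hu hv)
    · right
      have : a * (u * v) = (a * u * a) * (a * v) := by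
        simp only [mul_assoc]; rw [← mul_assoc a a v, haa, one_mul]
      rw [this]; exact K.mul_mem (hK' u hu) hv
    · exact Or.inr (by rw [← mul_assoc]; exact K.mul_mem hu hv)
    · left
      have : u * v = (a * (a * u) * a) * (a * v) := by
        simp only [mul_assoc]; rw [← mul_assoc a a v, haa, one_mul, ← mul_assoc a a, haa, one_mul]
      rw [this]; exact K.mul_mem (hK' _ hu) hv
  | inv u _ hu =>
    rcases hu with hu | hu
    · exact Or.inl (K.inv_mem hu)
    · right
      have : a * u⁻¹ = a * (a * u)⁻¹ * a := by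
        rw [mul_inv_rev, hD.inv_eq ha, mul_assoc a (u⁻¹ * a) a, mul_assoc u⁻¹ a a, haa, mul_one]
      rw [this]; exact hK' _ (K.inv_mem hu)

theorem isPGroup_four [Finite G] (hD : CubeSet D) {a b c e : G} (ha : a ∈ D) (hb : b ∈ D)
    (hc : c ∈ D) (he : e ∈ D) :
    IsPGroup 3 (Subgroup.closure ({a * b, a * c, a * e} : Set G)) := by
  have : Fact (Nat.Prime 3) := ⟨Nat.prime_three⟩
  set H := Subgroup.closure ({a, b, c} : Set G) with hH
  set K := Subgroup.closure ({a * b, a * c} : Set G) with hK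
  have hKp : IsPGroup 3 K := hD.isPGroup_three ha hb hc
  have haH : a ∈ H := Subgroup.subset_closure (Or.inl rfl)
  have haK : a ∉ K := by
    intro hak
    obtain ⟨n, hn⟩ := hKp ⟨a, hak⟩
    have hn' : a ^ 3 ^ n = 1 := congrArg Subtype.val hn
    have := orderOf_dvd_of_pow_eq_one hn'
    rw [hD.inv a ha] at this
    exact absurd ((Nat.prime_two.dvd_of_dvd_pow this)) (by norm_num)
  have hKH : K ≤ H := by
    rw [Subgroup.closure_le]
    rintro u (rfl | rfl)
    · exact mul_mem haH (Subgroup.subset_closure (Or.inr (Or.inl rfl)))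
    · exact mul_mem haH (Subgroup.subset_closure (Or.inr (Or.inr rfl)))
  -- elements of H of odd order lie in K
  by_cases heH : e ∈ H
  · refine hKp.to_le ?_
    rw [Subgroup.closure_le]
    rintro u (rfl | rfl | rfl)
    · exact Subgroup.subset_closure (Or.inl rfl)
    · exact Subgroup.subset_closure (Or.inr rfl)
    · rcases hD.mem_closure_three ha hb hc heH with h | h
      · exfalso
        -- e has order 2 inside the 3-group K
        obtain ⟨n, hn⟩ := hKp ⟨e, h⟩
        have hn' : e ^ 3 ^ n = 1 := congrArg Subtype.val hn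
        have := orderOf_dvd_of_pow_eq_one hn'
        rw [hD.inv e he] at this
        exact absurd ((Nat.prime_two.dvd_of_dvd_pow this)) (by norm_num)
      · exact h
  rintro ⟨g, hg⟩
  let s : Fin 4 → G := ![a, b, c, e]
  have hs : FourPoint.Hyp D s (((1 : G) : G ⧸ H)) := by
    refine ⟨?_, ?_, hD.conj, hD.cube, ?_⟩
    · intro i; fin_cases i <;> assumption
    · intro i; fin_cases i <;> exact hD.mul_self (by assumption)
    · intro i hi
      rw [MulAction.Quotient.smul_coe, smul_eq_mul, mul_one, eq_comm, QuotientGroup.eq, inv_one,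
        one_mul]
      fin_cases i
      · exact haH
      · exact Subgroup.subset_closure (Or.inr (Or.inl rfl))
      · exact Subgroup.subset_closure (Or.inr (Or.inr rfl))
      · exact absurd rfl hi
  have hfix := @FourPoint.pow_smul_eq G _ _ _ D s _ _ hs g hg
  -- g ^ 2187 lies in every conjugate of H by elements of ⟨a, b, c, e⟩
  have hmem : ∀ y ∈ Subgroup.closure (Set.range s), y⁻¹ * g ^ 3 ^ 7 * y ∈ H := by
    intro y hy
    have h1 := hfix hy
    rw [MulAction.Quotient.smul_coe, MulAction.Quotient.smul_coe, smul_eq_mul, smul_eq_mul,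
      mul_one, eq_comm, QuotientGroup.eq, ← mul_assoc] at h1
    exact h1
  set h := g ^ 3 ^ 7 with hh
  have hhH : h ∈ H := by simpa using hmem 1 (one_mem _)
  have hhK : h ∈ K := by
    rcases hD.mem_closure_three ha hb hc hhH with h1 | h1
    · exact h1
    exfalso
    -- an odd power of h is an involution of H, conjugate to a
    -- h * h lies in K
    have hsq : h * h ∈ K := by
      rcases hD.mem_closure_three ha hb hc (mul_mem hhH hhH) with h2 | h2
      · exact h2
      · exfalso
        apply haK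
        have e1 : a * (h * h) * (a * h)⁻¹ = a * h * a⁻¹ := by group
        have h3 : a * h * a⁻¹ ∈ K := e1 ▸ K.mul_mem h2 (K.inv_mem h1)
        have e2 : (a * h)⁻¹ * (a * h * a⁻¹) = a := by
          calc (a * h)⁻¹ * (a * h * a⁻¹) = a⁻¹ := by group
            _ = a := hD.inv_eq ha
        rw [← e2]
        exact K.mul_mem (K.inv_mem h1) h3
    obtain ⟨n, hn⟩ := hKp ⟨_, hsq⟩
    have hn' : (h * h) ^ 3 ^ n = 1 := congrArg Subtype.val hn
    set t := h ^ 3 ^ n with ht
    have htt : t * t = 1 := by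
      rw [ht, ← (Commute.refl h).mul_pow]; exact hn'
    obtain ⟨m, hm⟩ : ∃ m, 3 ^ n = 2 * m + 1 := (Odd.pow (by decide : Odd 3))
    have hht : a * t ∈ K := by
      rw [ht, hm, pow_succ', pow_mul, pow_two, ← mul_assoc]
      exact K.mul_mem h1 (K.pow_mem hsq m)
    -- t is conjugate to a
    obtain ⟨j, hj⟩ := hKp ⟨_, hht⟩
    have hj' : (a * t) ^ 3 ^ j = 1 := congrArg Subtype.val hj
    obtain ⟨m', hm'⟩ : ∃ m, 3 ^ j = 2 * m + 1 := (Odd.pow (by decide : Odd 3))
    have ht1 : t ≠ 1 := fun ht1 => haK (by rw [ht1, mul_one] at hht; exact hht)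
    have hodd : Odd (orderOf (a * t)) :=
      Odd.of_dvd_nat ⟨m', hm'⟩ (orderOf_dvd_of_pow_eq_one hj')
    have hto : orderOf t = 2 := orderOf_eq_prime (by rw [pow_two, htt]) ht1
    obtain ⟨v, hv⟩ : ∃ v : G, v ∈ H ∧ v * a * v⁻¹ = t := by
      have hkey : ∀ r : ℕ, a * (a * t) ^ r * a = ((a * t) ^ r)⁻¹ := by
        intro r
        have h2 : a * (a * t) * a⁻¹ = (a * t)⁻¹ := by
          rw [mul_inv_rev, inv_eq_of_mul_eq_one_left htt, hD.inv_eq ha, ← mul_assoc,
            hD.mul_self ha, one_mul]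
        rw [← inv_pow, ← h2, conj_pow, hD.inv_eq ha]
      have htH : t ∈ H := H.pow_mem hhH _
      refine ⟨(a * t) ^ m', H.pow_mem (mul_mem haH htH) _, ?_⟩
      have h3 : (a * t) ^ m' * (a * t) ^ m' * (a * t) = 1 := by
        rw [← pow_add, ← pow_succ, ← two_mul, ← hm', hj']
      have h4 : (a * t) ^ m' * a * ((a * t) ^ m')⁻¹ = (a * t) ^ m' * (a * t) ^ m' * a := by
        rw [← hkey m']
        simp only [mul_assoc]
        rw [← mul_assoc a a, hD.mul_self ha, one_mul]
      rw [h4]
      calc (a * t) ^ m' * (a * t) ^ m' * a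
          = (a * t) ^ m' * (a * t) ^ m' * (a * t) * t := by
            simp only [mul_assoc, htt, mul_one]
        _ = t := by rw [h3, one_mul]
    have hclH : H ≤ Subgroup.closure (Set.range s) := by
      rw [hH, Subgroup.closure_le]
      rintro u (rfl | rfl | rfl)
      · exact Subgroup.subset_closure ⟨0, rfl⟩
      · exact Subgroup.subset_closure ⟨1, rfl⟩
      · exact Subgroup.subset_closure ⟨2, rfl⟩
    -- so a lies in all those conjugates of H
    have hconjt : ∀ y ∈ Subgroup.closure (Set.range s), y⁻¹ * t * y ∈ H := by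
      intro y hy
      have e : y⁻¹ * t * y = (y⁻¹ * h * y) ^ 3 ^ n := by
        have := conj_pow (a := y⁻¹) (b := h) (i := 3 ^ n)
        rw [inv_inv] at this
        rw [this]
      rw [e]; exact H.pow_mem (hmem y hy) _
    apply heH
    have hy : v * (e * a) ∈ Subgroup.closure (Set.range s) :=
      mul_mem (hclH hv.1) (mul_mem (Subgroup.subset_closure ⟨3, rfl⟩)
        (Subgroup.subset_closure ⟨0, rfl⟩))
    have h5 := hconjt _ hy
    rw [← hv.2] at h5
    have e3 : (v * (e * a))⁻¹ * (v * a * v⁻¹) * (v * (e * a)) = e := by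
      have e4 : (v * (e * a))⁻¹ * (v * a * v⁻¹) * (v * (e * a)) = a⁻¹ * (e⁻¹ * a * e) * a := by
        group
      rw [e4, hD.inv_eq ha, hD.inv_eq he, ← hD.conj_eq ha he]
      simp only [mul_assoc, hD.mul_self ha, mul_one]
      rw [← mul_assoc, hD.mul_self ha, one_mul]
    rwa [e3] at h5
  obtain ⟨n, hn⟩ := hKp ⟨h, hhK⟩
  refine ⟨7 + n, Subtype.ext ?_⟩
  show g ^ 3 ^ (7 + n) = 1
  rw [pow_add, pow_mul]
  exact congrArg Subtype.val hn

/-- Products of members of a conjugation invariant set with all products of cube one lie in `O₃`. -/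
theorem mul_mem_pCore_three [Finite G] (hD : CubeSet D) {a b : G} (ha : a ∈ D) (hb : b ∈ D) :
    a * b ∈ pCore 3 G := by
  have : Fact (Nat.Prime 3) := ⟨Nat.prime_three⟩
  have h := Involution.baer_suzuki_element (p := 3) (a * b) fun g => ?_
  · exact Cores.le_pCore Subgroup.normalClosure_normal h (Subgroup.subset_normalClosure rfl)
  · refine (hD.isPGroup_four ha hb (hD.conj g a ha) (hD.conj g b hb)).to_le ?_
    rw [Subgroup.closure_le]
    rintro u (rfl | rfl)
    · exact Subgroup.subset_closure (Or.inl rfl)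
    · have e : g * (a * b) * g⁻¹ = (a * (g * a * g⁻¹))⁻¹ * (a * (g * b * g⁻¹)) := by
        rw [mul_inv_rev, hD.inv_eq ha, hD.inv_eq (hD.conj g a ha), mul_assoc _ a,
          ← mul_assoc a a, hD.mul_self ha, one_mul]
        group
      rw [e]
      exact mul_mem (inv_mem (Subgroup.subset_closure (Or.inr (Or.inl rfl))))
        (Subgroup.subset_closure (Or.inr (Or.inr rfl)))

end CubeSet

end Cfsg.Agent.ThreeTrans
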