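/-
The equivalence classes V_d (same commuting members) and W_d (same commuting members other than itself).

Main results:
* `mul_mem_pCore_two_of_vRel`, `vRel_of_mem_pCore_two`, `exists_conj_of_vRel`
* `mul_mem_pCore_three_of_adj_eq`, `adj_eq_of_mem_pCore_three`, `exists_conj_of_adj_eq`
* `exists_not_commute` (in a class with two members every member fails to commute with some member)
-/
import Cfsg.Agent.Lib.ThreeTrans.Basic
import Cfsg.Agent.Lib.ThreeTrans.WidthOne

namespace Cfsg.Agent.ThreeTrans

open Cfsg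

variable {G : Type*} [Group G] {D : Set G}

/-- `v` and `d` commute with the same members of `D`. -/
def VRel (D : Set G) (d v : G) : Prop := ∀ e ∈ D, Commute v e ↔ Commute d e

/-- The members of `D` other than `d` commuting with `d`. -/
def adj (D : Set G) (d : G) : Set G := {y : G | y ∈ D ∧ y ≠ d ∧ Commute d y}

theorem exists_not_commute (hD : IsThreeTranspositionClass D) (h2 : ∃ a ∈ D, ∃ b ∈ D, a ≠ b)
    {d : G} (hd : d ∈ D) : ∃ e ∈ D, ¬ Commute d e := by
  by_contra hcon
  have hcon' : ∀ e ∈ D, Commute d e := fun e he => by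
    by_contra h; exact hcon ⟨e, he, h⟩
  have hc : ∀ g : G, Commute d g := by
    intro g
    have hg : g ∈ Subgroup.closure D := by rw [hD.2.2]; exact Subgroup.mem_top g
    induction hg using Subgroup.closure_induction with
    | mem e he => exact hcon' e he
    | one => exact Commute.one_right d
    | mul x y _ _ hx hy => exact hx.mul_right hy
    | inv x _ hx => exact hx.inv_right
  obtain ⟨a, ha, b, hb, hab⟩ := h2
  apply hab
  obtain ⟨g, hg⟩ := class_conj hD hd ha
  obtain ⟨g', hg'⟩ := class_conj hD hd hb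
  rw [← hg, ← hg', ← (hc g).eq, ← (hc g').eq]
  group

/-- Membership transfer through a normal subgroup. -/
theorem sq_mem_of_mul_mem {M : Subgroup G} [M.Normal] {x u : G} (hx : x ^ 2 = 1) (hu : u ∈ M) :
    (x * u) ^ 2 ∈ M := by
  have e : (x * u) ^ 2 = x ^ 2 * ((x⁻¹ * u * x) * u) := by
    simp only [pow_two]; group
  rw [e, hx, one_mul]
  exact mul_mem (by simpa using Subgroup.Normal.conj_mem ‹M.Normal› u hu x⁻¹) hu

theorem eq_one_of_pow_coprime {x : G} {m n : ℕ} (hm : x ^ m = 1) (hn : x ^ n = 1)
    (h : Nat.Coprime m n) : x = 1 := by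
  have h1 : x ^ Nat.gcd m n = 1 := pow_gcd_eq_one.2 ⟨hm, hn⟩
  rwa [h.gcd_eq_one, pow_one] at h1

theorem eq_one_of_mem_pCore {p : ℕ} (hp : p.Prime) {x : G} (hx : x ∈ pCore p G) {n : ℕ}
    (hn : x ^ n = 1) (hpn : ¬ p ∣ n) : x = 1 := by
  obtain ⟨k, hk⟩ := (Cores.isPGroup_pCore p G) ⟨x, hx⟩
  have hk' : x ^ p ^ k = 1 := congrArg Subtype.val hk
  exact eq_one_of_pow_coprime hk' hn (Nat.Coprime.pow_left k (hp.coprime_iff_not_dvd.2 hpn))

/-! ### The classes V_d -/

theorem vRel_imp (hD : IsThreeTranspositionSet D) {d v e : G} (hd : d ∈ D) (hv : v ∈ D)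
    (he : e ∈ D) (h : d⁻¹ * v ∈ pCore 2 G) (hde : Commute d e) : Commute v e := by
  rw [commute_iff_sq hD hv he]
  rcases hD.2 v hv e he with h1 | h1
  · exact h1
  · have hed : (e * d) ^ 2 = 1 := (commute_iff_sq hD he hd).1 hde.symm
    have h2 := sq_mem_of_mul_mem hed h
    rw [show e * d * (d⁻¹ * v) = e * v by group] at h2
    have h3 : (e * v) ^ 3 = 1 := by
      have e1 : e * v = e * (v * e) * e⁻¹ := by group
      rw [e1, conj_pow, h1, mul_one, mul_inv_cancel]
    have h4 : (e * v) ^ 2 = 1 := eq_one_of_mem_pCore Nat.prime_two h2 (n := 3)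
      (by rw [← pow_mul, mul_comm, pow_mul, h3, one_pow]) (by norm_num)
    have e1 : v * e = v * (e * v) * v⁻¹ := by group
    rw [e1, conj_pow, h4, mul_one, mul_inv_cancel]

theorem inv_mul_mem_symm {M : Subgroup G} {d v : G} (h : d⁻¹ * v ∈ M) : v⁻¹ * d ∈ M := by
  simpa using inv_mem h

theorem vRel_of_mem_pCore_two (hD : IsThreeTranspositionSet D) {d v : G} (hd : d ∈ D)
    (hv : v ∈ D) (h : d⁻¹ * v ∈ pCore 2 G) : VRel D d v :=
  fun _ he => ⟨vRel_imp hD hv hd he (inv_mul_mem_symm h), vRel_imp hD hd hv he h⟩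

/-- The core computation: the product of two such involutions is a 2-element. -/
theorem pow_four_of_vRel (hD : IsThreeTranspositionSet D)
    (hconj : ∀ g : G, ∀ d ∈ D, g * d * g⁻¹ ∈ D)
    {a c b e : G} (ha : a ∈ D) (hc : c ∈ D) (hb : b ∈ D) (he : e ∈ D) (hac : VRel D a c)
    (hbe : VRel D b e) (hab : ¬ Commute a b) : (a * c * (b * e)) ^ 4 = 1 := by
  have c1 : Commute a c := ((hac a ha).2 (Commute.refl a)).symm
  have c2 : Commute b e := ((hbe b hb).2 (Commute.refl b)).symm
  have n1 : ¬ Commute c b := fun h => hab ((hac b hb).1 h)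
  have n2 : ¬ Commute a e := fun h => hab ((hbe a ha).1 h.symm).symm
  have n3 : ¬ Commute c e := fun h => n2 ((hac e he).1 h)
  have aba := braid hD ha hb hab
  have cbc := braid hD hc hb n1
  have aea := braid hD ha he n2
  have mem : ∀ x ∈ D, ∀ y ∈ D, x * y * x ∈ D := fun x hx y hy => conj_mem hD hconj hx hy
  have sa : a * a = 1 := mul_self hD ha
  have sb : b * b = 1 := mul_self hD hb
  have sc : c * c = 1 := mul_self hD hc
  have ca : ∀ x, a * (a * x) = x := mul_self_cancel hD ha
  have cb : ∀ x, b * (b * x) = x := mul_self_cancel hD hb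
  have cc : ∀ x, c * (c * x) = x := mul_self_cancel hD hc
  have cmap : ∀ (g : G), g * g = 1 → ∀ x y : G, Commute x y → Commute (g * x * g) (g * y * g) := by
    intro g hg x y h
    have := h.map (MulAut.conj g).toMonoidHom
    simpa [inv_eq_of_mul_eq_one_left hg] using this
  -- a commutes with b (a e a) b
  have hx : Commute a (b * (a * e * a) * b) := by
    have h := cmap b sb _ _ (cmap a sa b e c2)
    rw [aba] at h
    have e1 : b * (b * a * b) * b = a := by simp only [mul_assoc, sb, mul_one, cb]
    rwa [e1] at h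
  have hxc : Commute c (b * (a * e * a) * b) :=
    (hac _ (mem b hb _ (mem a ha e he))).2 hx
  -- e commutes with c (a b a) c
  have hecpc : Commute e (c * (a * b * a) * c) := by
    have h := cmap a sa _ _ (cmap b sb _ _ hxc)
    have e1 : a * (b * (b * (a * e * a) * b) * b) * a = e := by
      simp only [mul_assoc, sb, mul_one, cb, sa, ca]
    have e2 : a * (b * c * b) * a = c * (a * b * a) * c := by
      rw [← cbc]
      calc a * (c * b * c) * a = (a * c) * b * (c * a) := by simp only [mul_assoc]
        _ = (c * a) * b * (a * c) := by rw [c1.eq]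
        _ = _ := by simp only [mul_assoc]
    rw [e1, e2] at h
    exact h.symm
  -- r = z (b z b) is an involution commuting with e
  set r := c * (a * b * a) * c * b with hr
  have hrb : Commute (c * (a * b * a) * c) b := by
    have h0 : Commute (a * b * a) (b * c * b) := by
      rw [aba]; exact cmap b sb _ _ c1
    have h := cmap c sc _ _ h0
    have e1 : c * (b * c * b) * c = b := by
      rw [← cbc]; simp only [mul_assoc, sc, mul_one, cc]
    rwa [e1] at h
  have hre : Commute e r := hecpc.mul_right c2.symm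
  set z := a * c with hz
  set z2 := b * z * b with hz2
  have hrr : z * z2 = r := by
    rw [hr, hz2, hz]
    calc a * c * (b * (a * c) * b) = (a * c) * b * (a * c) * b := by simp only [mul_assoc]
      _ = (c * a) * b * (a * c) * b := by rw [c1.eq]
      _ = _ := by simp only [mul_assoc]
  have hzz : z * z = 1 := by
    rw [hz]
    calc a * c * (a * c) = a * c * (c * a) := by rw [c1.eq]
      _ = 1 := by simp only [mul_assoc, cc, sa]
  have hz2z2 : z2 * z2 = 1 := by
    rw [hz2]
    calc b * z * b * (b * z * b) = b * (z * z) * b := by simp only [mul_assoc, cb]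
      _ = 1 := by rw [hzz, mul_one, sb]
  have hr2 : r * r = 1 := by
    have hq : c * (a * b * a) * c * (c * (a * b * a) * c) = 1 :=
      mul_self hD (mem c hc _ (mem a ha b hb))
    calc r * r = c * (a * b * a) * c * (b * (c * (a * b * a) * c)) * b := by
          rw [hr]; simp only [mul_assoc]
      _ = c * (a * b * a) * c * (c * (a * b * a) * c) * (b * b) := by
          rw [← hrb.eq]; simp only [mul_assoc]
      _ = 1 := by rw [hq, sb, mul_one]
  have hcz : Commute z z2 := by
    have h : z * z2 * (z * z2) = 1 := by rw [hrr, hr2]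
    show z * z2 = z2 * z
    rw [eq_inv_of_mul_eq_one_left h, mul_inv_rev, inv_eq_of_mul_eq_one_left hzz,
      inv_eq_of_mul_eq_one_left hz2z2]
  -- e z e commutes with z
  have hze : Commute z (e * z * e) := by
    have g1 : Commute (e * a * e) (e * c * e) := cmap e (mul_self hD he) _ _ c1
    -- the members of the 3-string a, e, c
    have aec : Commute (a * e * a) (e * c * e) := by rw [aea]; exact g1
    have cec := braid hD hc he n3
    have hq : (a * c) * (e * (a * c) * e) = (a * (c * e * c) * a) * e := by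
      calc (a * c) * (e * (a * c) * e) = (a * c) * e * (a * c) * e := by simp only [mul_assoc]
        _ = (a * c) * e * (c * a) * e := by rw [c1.eq]
        _ = _ := by simp only [mul_assoc]
    have hqe : Commute (a * (c * e * c) * a) e := by
      have h := cmap a sa _ _ aec.symm
      have e1 : a * (a * e * a) * a = e := by simp only [mul_assoc, sa, mul_one, ca]
      rw [e1, ← cec] at h
      exact h
    have hq2 : (a * (c * e * c) * a) * (a * (c * e * c) * a) = 1 :=
      mul_self hD (mem a ha _ (mem c hc e he))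
    have hzz' : (e * z * e) * (e * z * e) = 1 := by
      calc (e * z * e) * (e * z * e) = e * z * (e * e) * z * e := by simp only [mul_assoc]
        _ = e * (z * z) * e := by rw [mul_self hD he]; simp only [mul_assoc, one_mul]
        _ = 1 := by rw [hzz, mul_one, mul_self hD he]
    have h : z * (e * z * e) * (z * (e * z * e)) = 1 := by
      rw [hz, hq]
      calc a * (c * e * c) * a * e * (a * (c * e * c) * a * e)
          = a * (c * e * c) * a * (e * (a * (c * e * c) * a)) * e := by simp only [mul_assoc]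
        _ = a * (c * e * c) * a * (a * (c * e * c) * a) * (e * e) := by
            rw [← hqe.eq]; simp only [mul_assoc]
        _ = 1 := by rw [hq2, mul_self hD he, mul_one]
    show z * (e * z * e) = e * z * e * z
    rw [eq_inv_of_mul_eq_one_left h, mul_inv_rev, inv_eq_of_mul_eq_one_left hzz,
      inv_eq_of_mul_eq_one_left hzz']
  -- z' z z' = e z2 e = (e z e) r
  have hz' : (b * e) * z * (b * e) = e * z * e * r := by
    have e1 : z2 = z * r := by rw [← hrr, ← mul_assoc, hzz, one_mul]
    calc (b * e) * z * (b * e) = (e * b) * z * (b * e) := by rw [c2.eq]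
      _ = e * (z * r) * e := by rw [← e1, hz2]; simp only [mul_assoc]
      _ = e * z * (r * e) := by simp only [mul_assoc]
      _ = _ := by rw [← hre.eq]; simp only [mul_assoc]
  have hzr : Commute z r := by rw [← hrr]; exact (Commute.refl z).mul_right hcz
  have hcomm : Commute z ((b * e) * z * (b * e)) := by rw [hz']; exact hze.mul_right hzr
  have hbe2 : (b * e) * (b * e) = 1 := by
    calc b * e * (b * e) = b * e * (e * b) := by rw [c2.eq]
      _ = 1 := by simp only [mul_assoc, mul_self_cancel hD he, sb]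
  have hsq : (z * (b * e)) ^ 2 = ((b * e) * z) ^ 2 := by
    calc (z * (b * e)) ^ 2 = z * ((b * e) * z * (b * e)) := by simp only [pow_two, mul_assoc]
      _ = (b * e) * z * (b * e) * z := hcomm.eq
      _ = _ := by simp only [pow_two, mul_assoc]
  calc (z * (b * e)) ^ 4 = (z * (b * e)) ^ 2 * ((b * e) * z) ^ 2 := by
        rw [← hsq, ← pow_add]
    _ = z * (b * e) * (z * ((b * e) * (b * e)) * z) * ((b * e) * z) := by
        simp only [pow_two, mul_assoc]
    _ = 1 := by
        rw [hbe2, mul_one, hzz, mul_one, mul_assoc, ← mul_assoc (b * e) (b * e) z, hbe2, one_mul,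
          hzz]

theorem isPGroup_two_pair [Finite G] (hD : IsThreeTranspositionSet D)
    (hconj : ∀ g : G, ∀ d ∈ D, g * d * g⁻¹ ∈ D) {a c : G} (ha : a ∈ D) (hc : c ∈ D)
    (hac : VRel D a c) (hne : a ≠ c) (g : G) :
    IsPGroup 2 (Subgroup.closure ({a * c, g * (a * c) * g⁻¹} : Set G)) := by
  have : Fact (Nat.Prime 2) := ⟨Nat.prime_two⟩
  have c1 : Commute a c := ((hac a ha).2 (Commute.refl a)).symm
  set b := g * a * g⁻¹ with hb'
  set e := g * c * g⁻¹ with he'
  have hb : b ∈ D := hconj g a ha
  have he : e ∈ D := hconj g c hc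
  have hbe : VRel D b e := by
    intro x hx
    have := hac (g⁻¹ * x * g) (by simpa using hconj g⁻¹ x hx)
    have tr : ∀ y : G, Commute (g * y * g⁻¹) x ↔ Commute y (g⁻¹ * x * g) := by
      intro y
      constructor <;> intro h
      · have := h.map (MulAut.conj g⁻¹).toMonoidHom
        simpa [mul_assoc] using this
      · have := h.map (MulAut.conj g).toMonoidHom
        simpa [mul_assoc] using this
    rw [he', hb', tr, tr]
    exact this
  have hgac : g * (a * c) * g⁻¹ = b * e := by rw [hb', he']; group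
  rw [hgac]
  have hz : ∀ x ∈ D, ∀ y ∈ D, x ≠ y → Commute x y → orderOf (x * y) = 2 := fun x hx y hy hxy h => by
    refine orderOf_eq_prime ((commute_iff_sq hD hx hy).1 h) fun h1 => hxy ?_
    rw [eq_inv_of_mul_eq_one_left h1, inv_eq hD hy]
  have o1 : orderOf (a * c) = 2 := hz a ha c hc hne c1
  have o2 : orderOf (b * e) = 2 :=
    hz b hb e he (fun h => hne (by simpa [hb', he'] using h))
      ((hbe b hb).2 (Commute.refl b)).symm
  by_cases heq : a * c = b * e
  · rw [← heq, Set.pair_eq_singleton]
    refine IsPGroup.of_card (n := 1) ?_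
    rw [← Subgroup.zpowers_eq_closure, Nat.card_zpowers, o1, pow_one]
  by_cases hab : Commute a b
  · have h1 : Commute c b := (hac b hb).2 hab
    have h2 : Commute a e := ((hbe a ha).2 hab.symm).symm
    have h3 : Commute c e := ((hbe c hc).2 h1.symm).symm
    refine Involution.isPGroup_closure_pair o1 o2 heq (a := 1) ?_
    have h4 : Commute (a * c) (b * e) := (hab.mul_right h2).mul_left (h1.mul_right h3)
    rw [pow_one, h4.mul_pow, ← o1, pow_orderOf_eq_one, one_mul, o1, ← o2, pow_orderOf_eq_one]
  · exact Involution.isPGroup_closure_pair o1 o2 heq (a := 2)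
      (pow_four_of_vRel hD hconj ha hc hb he hac hbe hab)

theorem mul_mem_pCore_two_of_vRel [Finite G] (hD : IsThreeTranspositionSet D)
    (hconj : ∀ g : G, ∀ d ∈ D, g * d * g⁻¹ ∈ D) {a c : G} (ha : a ∈ D) (hc : c ∈ D)
    (hac : VRel D a c) : a * c ∈ pCore 2 G := by
  have : Fact (Nat.Prime 2) := ⟨Nat.prime_two⟩
  rcases eq_or_ne a c with rfl | hne
  · rw [mul_self hD ha]; exact one_mem _
  · exact Cores.le_pCore Subgroup.normalClosure_normal
      (Involution.baer_suzuki_element (a * c) (isPGroup_two_pair hD hconj ha hc hac hne))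
      (Subgroup.subset_normalClosure rfl)

theorem exists_conj_of_vRel [Finite G] (hD : IsThreeTranspositionSet D)
    (hconj : ∀ g : G, ∀ d ∈ D, g * d * g⁻¹ ∈ D) {a c e : G} (ha : a ∈ D) (hc : c ∈ D)
    (he : e ∈ D) (hac : VRel D a c) (hne : ¬ Commute a e) :
    ∃ g ∈ pCore 2 G, c = g * a * g⁻¹ := by
  refine ⟨e * (a * c) * e⁻¹, Subgroup.Normal.conj_mem inferInstance _
    (mul_mem_pCore_two_of_vRel hD hconj ha hc hac) e, ?_⟩
  have c1 : Commute a c := ((hac a ha).2 (Commute.refl a)).symm
  have n3 : ¬ Commute c e := fun h => hne ((hac e he).1 h)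
  have aea := braid hD ha he hne
  have cec := braid hD hc he n3
  rw [inv_eq hD he]
  have hi : (e * (a * c) * e)⁻¹ = e * (c * a) * e := by
    simp only [mul_inv_rev, inv_eq hD he, inv_eq hD ha, inv_eq hD hc, mul_assoc]
  rw [hi]
  symm
  calc e * (a * c) * e * a * (e * (c * a) * e) = e * (a * c) * (e * a * e) * (c * a) * e := by
        simp only [mul_assoc]
    _ = e * (a * c) * (a * e * a) * (a * c) * e := by rw [aea, c1.eq]
    _ = e * (c * a) * (a * e * a) * (a * c) * e := by rw [c1.eq]
    _ = e * (c * e * c) * e := by simp only [mul_assoc, mul_self_cancel hD ha]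
    _ = c := by rw [cec]; simp only [mul_assoc, mul_self hD he, mul_one, mul_self_cancel hD he]

/-! ### The classes W_d -/

theorem conj_adj (hconj : ∀ g : G, ∀ d ∈ D, g * d * g⁻¹ ∈ D) (g x y : G) :
    y ∈ adj D (g * x * g⁻¹) ↔ g⁻¹ * y * g ∈ adj D x := by
  constructor
  · rintro ⟨h1, h2, h3⟩
    refine ⟨by simpa using hconj g⁻¹ y h1, fun h => h2 (by rw [← h]; group), ?_⟩
    have := h3.map (MulAut.conj g⁻¹).toMonoidHom
    simpa [mul_assoc] using this
  · rintro ⟨h1, h2, h3⟩
    refine ⟨by simpa [mul_assoc] using hconj g _ h1, fun h => h2 (by rw [h]; group), ?_⟩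
    have := h3.map (MulAut.conj g).toMonoidHom
    simpa [mul_assoc] using this

theorem adj_conj_congr (hconj : ∀ g : G, ∀ d ∈ D, g * d * g⁻¹ ∈ D) (g : G) {x x' : G}
    (h : adj D x = adj D x') : adj D (g * x * g⁻¹) = adj D (g * x' * g⁻¹) := by
  ext y
  rw [conj_adj hconj, conj_adj hconj, h]

theorem not_commute_of_adj_eq {d w : G} (hw : w ∈ D) (h : adj D d = adj D w) (hne : d ≠ w) :
    ¬ Commute d w := by
  intro hc
  have : w ∈ adj D d := ⟨hw, hne.symm, hc⟩
  rw [h] at this
  exact this.2.1 rfl

/-- Non-commuting of members of different classes passes to their classes. -/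
theorem not_commute_congr {d d' x z : G} (hd : d ∈ D) (_hd' : d' ∈ D) (_hx : x ∈ D) (hz : z ∈ D)
    (h1 : adj D x = adj D d) (h2 : adj D z = adj D d') (hne : adj D d ≠ adj D d')
    (hdd : ¬ Commute d d') : ¬ Commute x z := by
  have hdz : ¬ Commute d z := by
    intro hc
    have : z ∈ adj D d := ⟨hz, fun h => hne (by rw [← h2, h]), hc⟩
    have hd2 : d ∈ adj D z := ⟨hd, fun h => hne (by rw [← h2, h]), hc.symm⟩
    rw [h2] at hd2
    exact hdd hd2.2.2.symm
  intro hc
  have : z ∈ adj D x := ⟨hz, fun h => hne (by rw [← h1, ← h2, h]), hc⟩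
  rw [h1] at this
  exact hdz this.2.2

theorem adj_conj_subset (hD : IsThreeTranspositionSet D)
    (hconj : ∀ g : G, ∀ d ∈ D, g * d * g⁻¹ ∈ D) {d w e : G} (hd : d ∈ D) (hw : w ∈ D)
    (he : e ∈ D) (hdw : adj D d = adj D w) (hde : ¬ Commute d e) (hew : e ≠ w) :
    adj D (d * e * d) ⊆ adj D (w * e * w) := by
  have mem : ∀ x ∈ D, ∀ y ∈ D, x * y * x ∈ D := fun x hx y hy => conj_mem hD hconj hx hy
  have cmap : ∀ (g : G), g ∈ D → ∀ x y : G, Commute x y → Commute (g * x * g) (g * y * g) := by
    intro g hg x y h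
    have := h.map (MulAut.conj g).toMonoidHom
    simpa [inv_eq hD hg] using this
  have hwe : ¬ Commute w e := fun h => by
    have : e ∈ adj D w := ⟨he, hew, h⟩
    rw [← hdw] at this
    exact hde this.2.2
  intro y hy
  obtain ⟨f, hf, rfl⟩ : ∃ f, f ∈ adj D e ∧ y = d * f * d := by
    refine ⟨d * y * d, ?_, by simp only [mul_assoc, mul_self hD hd, mul_one, mul_self_cancel hD hd]⟩
    have h := (conj_adj hconj d e y).1 (by rwa [inv_eq hD hd])
    rwa [inv_eq hD hd] at h
  obtain ⟨hfD, hfe, hef⟩ := hf
  by_cases hdf : Commute d f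
  · have hfd : f ≠ d := fun h => hde (h ▸ hef).symm
    rw [conj_conj_of_commute hD hd hdf]
    have hfw : f ∈ adj D w := hdw ▸ (⟨hfD, hfd, hdf⟩ : f ∈ adj D d)
    refine ⟨hfD, fun h => hfe ?_, (hfw.2.2.mul_left hef).mul_left hfw.2.2⟩
    calc f = w * f * w := (conj_conj_of_commute hD hw hfw.2.2).symm
      _ = e := by rw [h]; simp only [mul_assoc, mul_self hD hw, mul_one, mul_self_cancel hD hw]
  · have hfw : f ≠ w := fun h => hwe (h ▸ hef).symm
    have hwf : ¬ Commute w f := fun h => by
      have : f ∈ adj D w := ⟨hfD, hfw, h⟩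
      rw [← hdw] at this
      exact hdf this.2.2
    have hg1 : Commute w (f * (w * e * w) * f) := by
      have h := cmap f hfD _ _ (cmap w hw f e hef.symm)
      rw [braid hD hw hfD hwf] at h
      have e1 : f * (f * w * f) * f = w := by
        simp only [mul_assoc, mul_self hD hfD, mul_one, mul_self_cancel hD hfD]
      rwa [e1] at h
    have hg2 : f * (w * e * w) * f ∈ adj D w := by
      refine ⟨mem f hfD _ (mem w hw e he), fun h => hfe ?_, hg1⟩
      have h2 : w * e * w = w * f * w := by
        calc w * e * w = f * (f * (w * e * w) * f) * f := by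
              simp only [mul_assoc, mul_self hD hfD, mul_one, mul_self_cancel hD hfD]
          _ = f * w * f := by rw [h]
          _ = w * f * w := (braid hD hw hfD hwf).symm
      exact (mul_left_cancel (mul_right_cancel h2)).symm
    rw [← hdw] at hg2
    refine ⟨mem d hd f hfD, fun h => hg2.2.1 ?_, ?_⟩
    · rw [← h, braid hD hd hfD hdf]
      simp only [mul_assoc, mul_self hD hfD, mul_one, mul_self_cancel hD hfD]
    · have h := cmap f hfD _ _ hg2.2.2
      have e1 : f * (f * (w * e * w) * f) * f = w * e * w := by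
        simp only [mul_assoc, mul_self hD hfD, mul_one, mul_self_cancel hD hfD]
      rw [e1, ← braid hD hd hfD hdf] at h
      exact h.symm

theorem adj_conj_eq (hD : IsThreeTranspositionSet D) (hconj : ∀ g : G, ∀ d ∈ D, g * d * g⁻¹ ∈ D)
    {d w e : G} (hd : d ∈ D) (hw : w ∈ D) (he : e ∈ D) (hdw : adj D d = adj D w)
    (hde : ¬ Commute d e) (hne : adj D e ≠ adj D d) :
    adj D (d * e * d) = adj D (w * e * w) := by
  have h1 : e ≠ w := fun h => hne (by rw [h, hdw])
  have h2 : e ≠ d := fun h => hne (by rw [h])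
  refine (adj_conj_subset hD hconj hd hw he hdw hde h1).antisymm
    (adj_conj_subset hD hconj hw hd he hdw.symm ?_ h2)
  exact not_commute_congr hd he hw he hdw.symm rfl hne.symm hde

theorem isPGroup_three_pair [Finite G] (hD : IsThreeTranspositionSet D)
    (hconj : ∀ g : G, ∀ d ∈ D, g * d * g⁻¹ ∈ D) {d w : G} (hd : d ∈ D) (hw : w ∈ D)
    (hdw : adj D d = adj D w) (hne : d ≠ w) (g : G) :
    IsPGroup 3 (Subgroup.closure ({d * w, g * (d * w) * g⁻¹} : Set G)) := by
  have mem : ∀ x ∈ D, ∀ y ∈ D, x * y * x ∈ D := fun x hx y hy => conj_mem hD hconj hx hy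
  set d' := g * d * g⁻¹ with hd''
  set w' := g * w * g⁻¹ with hw''
  have hd' : d' ∈ D := hconj g d hd
  have hw' : w' ∈ D := hconj g w hw
  have hdw' : adj D d' = adj D w' := adj_conj_congr hconj g hdw
  have hne' : d' ≠ w' := fun h => hne (by simpa [hd'', hw''] using h)
  have hg : g * (d * w) * g⁻¹ = d' * w' := by rw [hd'', hw'']; group
  rw [hg]
  have o1 := pow_three_of_not_commute hD hd hw (not_commute_of_adj_eq hw hdw hne)
  have o2 := pow_three_of_not_commute hD hd' hw' (not_commute_of_adj_eq hw' hdw' hne')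
  -- the general argument on a set of classes closed under conjugation
  have general : ∀ (cls : Set (Set G)), adj D d ∈ cls → adj D d' ∈ cls →
      (∀ x ∈ D, ∀ z ∈ D, adj D x ∈ cls → adj D z ∈ cls → x ≠ z → ¬ Commute x z) →
      (∀ x ∈ D, ∀ z ∈ D, adj D x ∈ cls → adj D z ∈ cls → adj D (x * z * x) ∈ cls) →
      IsPGroup 3 (Subgroup.closure ({d * w, d' * w'} : Set G)) := by
    intro cls hA hB hnc hcl
    set E : Set G := {x | x ∈ D ∧ adj D x ∈ cls} with hE
    set H := Subgroup.closure E with hH
    have hconjE : ∀ h ∈ H, ∀ z ∈ E, h * z * h⁻¹ ∈ E ∧ h⁻¹ * z * h ∈ E := by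
      intro h hh
      induction hh using Subgroup.closure_induction with
      | mem x hx =>
        intro z hz
        rw [inv_eq hD hx.1]
        exact ⟨⟨mem x hx.1 z hz.1, hcl x hx.1 z hz.1 hx.2 hz.2⟩,
          ⟨mem x hx.1 z hz.1, hcl x hx.1 z hz.1 hx.2 hz.2⟩⟩
      | one => intro z hz; simpa using hz
      | mul x y _ _ hx hy =>
        intro z hz
        refine ⟨?_, ?_⟩
        · have := (hx _ (hy z hz).1).1
          simpa [mul_assoc] using this
        · have := (hy _ (hx z hz).2).2
          simpa [mul_assoc] using this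
      | inv x _ hx => intro z hz; simpa using (hx z hz).symm
    have hcube : CubeSet {h : H | (h : G) ∈ E} := by
      refine ⟨fun h hh => ?_, fun h z hz => (hconjE h h.2 z hz).1, fun u hu v hv => ?_⟩
      · rw [← Subgroup.orderOf_coe]; exact hD.1 _ hh.1
      · apply Subtype.ext
        show ((u : G) * (v : G)) ^ 3 = 1
        rcases eq_or_ne (u : G) (v : G) with huv | huv
        · rw [huv, mul_self hD hv.1, one_pow]
        · exact pow_three_of_not_commute hD hu.1 hv.1 (hnc _ hu.1 _ hv.1 hu.2 hv.2 huv)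
    have md : d ∈ E := ⟨hd, hA⟩
    have mw : w ∈ E := ⟨hw, hdw ▸ hA⟩
    have md' : d' ∈ E := ⟨hd', hB⟩
    have mw' : w' ∈ E := ⟨hw', hdw' ▸ hB⟩
    have h4 := hcube.isPGroup_four (a := ⟨d, Subgroup.subset_closure md⟩)
      (b := ⟨w, Subgroup.subset_closure mw⟩) (c := ⟨d', Subgroup.subset_closure md'⟩)
      (e := ⟨w', Subgroup.subset_closure mw'⟩) md mw md' mw'
    refine (h4.map H.subtype).to_le ?_
    rw [MonoidHom.map_closure, Subgroup.closure_le]
    simp only [Set.image_insert_eq, Set.image_singleton, map_mul, Subgroup.subtype_apply]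
    rintro u (rfl | rfl)
    · exact Subgroup.subset_closure (Or.inl rfl)
    · have e : d' * w' = (d * d')⁻¹ * (d * w') := by
        rw [mul_inv_rev, inv_eq hD hd, inv_eq hD hd']
        calc d' * w' = d' * (d * d) * w' := by rw [mul_self hD hd, mul_one]
          _ = d' * d * (d * w') := by simp only [mul_assoc]
      rw [e]
      exact mul_mem (inv_mem (Subgroup.subset_closure (Or.inr (Or.inl rfl))))
        (Subgroup.subset_closure (Or.inr (Or.inr rfl)))
  by_cases hAB : adj D d = adj D d'
  · refine general {adj D d} rfl hAB.symm ?_ ?_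
    · intro x hx z hz h1 h2 hxz
      exact not_commute_of_adj_eq hz (h1.trans h2.symm) hxz
    · intro x hx z hz h1 h2
      show adj D (x * z * x) = adj D d
      have h : adj D (x * z * x) = adj D (x * x * x) := by
        have := adj_conj_congr hconj x (h2.trans h1.symm)
        rwa [inv_eq hD hx] at this
      rw [h, mul_self hD hx, one_mul]
      exact h1
  by_cases hdd : Commute d d'
  · have n1 : d ≠ d' := fun h => hAB (by rw [h])
    have a1 : d' ∈ adj D w := hdw ▸ (⟨hd', n1.symm, hdd⟩ : d' ∈ adj D d)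
    have a2 : d ∈ adj D w' := hdw' ▸ (⟨hd, n1, hdd.symm⟩ : d ∈ adj D d')
    have n2 : w ≠ d' := fun h => hAB (hdw.trans (by rw [h]))
    have a3 : w ∈ adj D w' := hdw' ▸ (⟨hw, n2, a1.2.2.symm⟩ : w ∈ adj D d')
    have hc : Commute (d * w) (d' * w') :=
      (hdd.mul_right a2.2.2.symm).mul_left (a1.2.2.mul_right a3.2.2.symm)
    refine isPGroup_plane o1 o2 ?_ ?_
    · rw [hc.mul_pow, o1, o2, one_mul]
    · rw [hc.inv_left.mul_pow, inv_pow, o1, o2, inv_one, one_mul]
  · -- three classes
    set d2 := d * d' * d with hd2'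
    have hd2 : d2 ∈ D := mem d hd d' hd'
    have hb := braid hD hd hd' hdd
    set A := adj D d with hA'
    set B := adj D d' with hB'
    set C := adj D d2 with hC'
    have hAC : A ≠ C := by
      intro h
      have h1 := adj_conj_congr hconj d h
      have e1 : d * d * d⁻¹ = d := by group
      have e2 : d * d2 * d⁻¹ = d' := by
        rw [hd2', inv_eq hD hd]; simp only [mul_assoc, mul_self hD hd, mul_one, mul_self_cancel hD hd]
      rw [e1, e2] at h1
      exact hAB h1
    have hBC : B ≠ C := by
      intro h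
      have h1 := adj_conj_congr hconj d' h
      have e1 : d' * d' * d'⁻¹ = d' := by group
      have e2 : d' * d2 * d'⁻¹ = d := by
        rw [hd2', hb, inv_eq hD hd']
        simp only [mul_assoc, mul_self hD hd', mul_one, mul_self_cancel hD hd']
      rw [e1, e2] at h1
      exact hAB h1.symm
    have conjd2 : d * d2 * d = d' := by
      rw [hd2']; simp only [mul_assoc, mul_self hD hd, mul_one, mul_self_cancel hD hd]
    have conj'd2 : d' * d2 * d' = d := by
      rw [hd2', hb]; simp only [mul_assoc, mul_self hD hd', mul_one, mul_self_cancel hD hd']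
    have ndd2 : ¬ Commute d d2 := fun h => hBC (by
      rw [hB', hC', ← conjd2, conj_conj_of_commute hD hd h])
    have nd'd2 : ¬ Commute d' d2 := fun h => hAC (by
      rw [hA', hC', ← conj'd2, conj_conj_of_commute hD hd' h])
    have conj2d : d2 * d * d2 = d' := by rw [← braid hD hd hd2 ndd2, conjd2]
    have conj2d' : d2 * d' * d2 = d := by rw [← braid hD hd' hd2 nd'd2, conj'd2]
    -- action of a member on another class
    have act : ∀ {p q x z : G}, p ∈ D → q ∈ D → x ∈ D → z ∈ D → adj D x = adj D p →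
        adj D z = adj D q → adj D p ≠ adj D q → ¬ Commute p q →
        adj D (x * z * x) = adj D (p * q * p) := by
      intro p q x z hp hq hx hz h1 h2 hpq hc
      have h3 : adj D (x * z * x) = adj D (x * q * x) := by
        have := adj_conj_congr hconj x h2
        rwa [inv_eq hD hx] at this
      rw [h3]
      exact (adj_conj_eq hD hconj hp hx hq h1.symm hc hpq.symm).symm
    refine general {A, B, C} (Or.inl rfl) (Or.inr (Or.inl rfl)) ?_ ?_
    · intro x hx z hz h1 h2 hxz
      by_cases hh : adj D x = adj D z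
      · exact not_commute_of_adj_eq hz hh hxz
      rcases h1 with h1 | h1 | h1 <;> rcases h2 with h2 | h2 | h2
      all_goals first
        | exact absurd (h1.trans h2.symm) hh
        | exact not_commute_congr hd hd' hx hz h1 h2 hAB hdd
        | exact not_commute_congr hd' hd hx hz h1 h2 (Ne.symm hAB) (fun h => hdd h.symm)
        | exact not_commute_congr hd hd2 hx hz h1 h2 hAC ndd2
        | exact not_commute_congr hd2 hd hx hz h1 h2 hAC.symm (fun h => ndd2 h.symm)
        | exact not_commute_congr hd' hd2 hx hz h1 h2 hBC nd'd2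
        | exact not_commute_congr hd2 hd' hx hz h1 h2 hBC.symm (fun h => nd'd2 h.symm)
    · intro x hx z hz h1 h2
      by_cases hh : adj D x = adj D z
      · have h : adj D (x * z * x) = adj D (x * x * x) := by
          have := adj_conj_congr hconj x hh.symm
          rwa [inv_eq hD hx] at this
        rw [h, mul_self hD hx, one_mul]
        exact h1
      simp only [Set.mem_insert_iff, Set.mem_singleton_iff] at h1 h2 ⊢
      rcases h1 with h1 | h1 | h1 <;> rcases h2 with h2 | h2 | h2
      all_goals first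
        | exact absurd (h1.trans h2.symm) hh
        | exact Or.inr (Or.inr ((act hd hd' hx hz h1 h2 hAB hdd).trans rfl))
        | exact Or.inr (Or.inr ((act hd' hd hx hz h1 h2 (Ne.symm hAB) (fun h => hdd h.symm)).trans
            (by rw [hC', hd2', hb])))
        | exact Or.inr (Or.inl ((act hd hd2 hx hz h1 h2 hAC ndd2).trans (by rw [conjd2])))
        | exact Or.inr (Or.inl ((act hd2 hd hx hz h1 h2 hAC.symm (fun h => ndd2 h.symm)).trans
            (by rw [conj2d])))
        | exact Or.inl ((act hd' hd2 hx hz h1 h2 hBC nd'd2).trans (by rw [conj'd2]))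
        | exact Or.inl ((act hd2 hd' hx hz h1 h2 hBC.symm (fun h => nd'd2 h.symm)).trans
            (by rw [conj2d']))

theorem mul_mem_pCore_three_of_adj_eq [Finite G] (hD : IsThreeTranspositionSet D)
    (hconj : ∀ g : G, ∀ d ∈ D, g * d * g⁻¹ ∈ D) {d w : G} (hd : d ∈ D) (hw : w ∈ D)
    (hdw : adj D d = adj D w) : d * w ∈ pCore 3 G := by
  have : Fact (Nat.Prime 3) := ⟨Nat.prime_three⟩
  rcases eq_or_ne d w with rfl | hne
  · rw [mul_self hD hd]; exact one_mem _
  · exact Cores.le_pCore Subgroup.normalClosure_normal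
      (Involution.baer_suzuki_element (d * w) (isPGroup_three_pair hD hconj hd hw hdw hne))
      (Subgroup.subset_normalClosure rfl)

theorem adj_subset_of_mem_pCore_three (hD : IsThreeTranspositionSet D) {d v : G} (hd : d ∈ D)
    (hv : v ∈ D) (h : d⁻¹ * v ∈ pCore 3 G) : adj D d ⊆ adj D v := by
  rintro e ⟨he, hed, hde⟩
  have hed2 : (e * d) ^ 2 = 1 := (commute_iff_sq hD he hd).1 hde.symm
  have key : e * d ∈ pCore 3 G → False := fun hm => by
    apply hed
    rw [eq_inv_of_mul_eq_one_left (eq_one_of_mem_pCore Nat.prime_three hm hed2 (by norm_num)),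
      inv_eq hD hd]
  refine ⟨he, fun hev => key ?_, ?_⟩
  · rw [hev]; exact inv_mul_mem_symm h |> (by simpa [inv_eq hD hv] using ·)
  · by_contra hc
    have h3 := pow_three_of_not_commute hD he hv fun h' => hc h'.symm
    have h2 := sq_mem_of_mul_mem hed2 h
    rw [show e * d * (d⁻¹ * v) = e * v by group] at h2
    have hev : e * v ∈ pCore 3 G := by
      have : e * v = (e * v) ^ 3 * ((e * v) ^ 2)⁻¹ := by group
      rw [this, h3, one_mul]; exact inv_mem h2
    apply key
    have : e * d = e * v * (v⁻¹ * d) := by group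
    rw [this]; exact mul_mem hev (inv_mul_mem_symm h)

theorem adj_eq_of_mem_pCore_three (hD : IsThreeTranspositionSet D) {d v : G} (hd : d ∈ D)
    (hv : v ∈ D) (h : d⁻¹ * v ∈ pCore 3 G) : adj D d = adj D v :=
  (adj_subset_of_mem_pCore_three hD hd hv h).antisymm
    (adj_subset_of_mem_pCore_three hD hv hd (inv_mul_mem_symm h))

theorem exists_conj_of_adj_eq [Finite G] (hD : IsThreeTranspositionSet D)
    (hconj : ∀ g : G, ∀ d ∈ D, g * d * g⁻¹ ∈ D) {d w : G} (hd : d ∈ D) (hw : w ∈ D)
    (hdw : adj D d = adj D w) : ∃ g ∈ pCore 3 G, w = g * d * g⁻¹ := by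
  rcases eq_or_ne d w with rfl | hne
  · exact ⟨1, one_mem _, by simp⟩
  refine ⟨d * w, mul_mem_pCore_three_of_adj_eq hD hconj hd hw hdw, ?_⟩
  have hb := braid hD hd hw (not_commute_of_adj_eq hw hdw hne)
  rw [mul_inv_rev, inv_eq hD hd, inv_eq hD hw]
  symm
  calc d * w * d * (w * d) = (w * d * w) * (w * d) := by rw [hb]
    _ = w := by simp only [mul_assoc, mul_self_cancel hD hw, mul_self hD hd, mul_one]

/-- Conjugates under a normal subgroup lie in the coset. -/
theorem inv_mul_conj_mem {M : Subgroup G} [M.Normal] {d g : G} (hg : g ∈ M) :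
    d⁻¹ * (g * d * g⁻¹) ∈ M := by
  have e : d⁻¹ * (g * d * g⁻¹) = (d⁻¹ * g * d) * g⁻¹ := by group
  rw [e]
  exact mul_mem (by simpa using Subgroup.Normal.conj_mem ‹M.Normal› g hg d⁻¹) (inv_mem hg)

end Cfsg.Agent.ThreeTrans
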