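/-
3-transposition groups with central 2- and 3-cores, and the passage to the quotient by the centre.

Main results:
* `exists_hom_four` : a 3-string gives a homomorphism from `Perm (Fin 4)`
* `pgroup_le_center`, `solvable_normal_le_center`
* `eq_of_mul_mem_center`, `vRel_eq`, `adj_inj`
* quotient by the centre: `mk_inj`, `commute_of_commute_mk`, `class_quotient`, `trivialRadical_quotient`,
  `adj_quotient`
-/
import Cfsg.Agent.Lib.ThreeTrans.Classes
import Cfsg.Agent.Lib.ThreeTrans.SymmPresentation
import Cfsg.Agent.Lib.ThreeTransRank.Connected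
import Cfsg.Agent.Lib.Cores.Fitting
import Cfsg.Agent.S5347

namespace Cfsg.Agent.ThreeTrans

open Cfsg Cfsg.Agent.ThreeTransRank
open scoped commutatorElement

variable {G : Type*} [Group G] {D : Set G}

/-- A 3-string gives a homomorphism from the symmetric group of degree four. -/
theorem exists_hom_four (hD : IsThreeTranspositionSet D) {a b c : G} (ha : a ∈ D) (hb : b ∈ D)
    (hc : c ∈ D) (hac : Commute a c) (hab : ¬ Commute a b) (hbc : ¬ Commute b c) :
    ∃ φ : Equiv.Perm (Fin 4) →* G, φ (Equiv.swap 0 1) = a ∧ φ (Equiv.swap 1 2) = b ∧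
      φ (Equiv.swap 2 3) = c := by
  let t : ℕ → G := fun i => if i = 0 then a else if i = 1 then b else c
  have hbr : BraidA t 3 := by
    refine ⟨fun i hi => ?_, fun i hi => ?_, fun i j h1 h2 => ?_⟩
    · interval_cases i <;> simp [t, mul_self hD ha, mul_self hD hb, mul_self hD hc]
    · have hi' : i < 2 := by omega
      interval_cases i
      · simpa [t] using braid hD ha hb hab
      · simpa [t] using braid hD hb hc hbc
    · obtain rfl : i = 0 := by omega
      obtain rfl : j = 2 := by omega
      simpa [t] using hac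
  obtain ⟨φ, hφ⟩ := exists_hom_perm hbr
  exact ⟨φ, hφ 0, hφ 1, hφ 2⟩

/-- `g` moves `x` and `y` as a permutation does. -/
theorem map_conj_eq {α : Type*} [Group α] (φ : α →* G) {g x y : α} (h : g * x * g⁻¹ = y) :
    φ g * φ x * (φ g)⁻¹ = φ y := by
  rw [← h, map_mul, map_mul, map_inv]

/-- The 2- and 3-cores are central. -/
def CentralCores (G : Type*) [Group G] : Prop :=
  pCore 2 G ≤ Subgroup.center G ∧ pCore 3 G ≤ Subgroup.center G

theorem commute_all_of_gen (hgen : Subgroup.closure D = ⊤) {x : G} (h : ∀ d ∈ D, Commute d x) :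
    x ∈ Subgroup.center G := by
  rw [Subgroup.mem_center_iff]
  intro g
  have hg : g ∈ Subgroup.closure D := by rw [hgen]; exact Subgroup.mem_top g
  show Commute g x
  induction hg using Subgroup.closure_induction with
  | mem e he => exact h e he
  | one => exact Commute.one_left x
  | mul u v _ _ hu hv => exact hu.mul_left hv
  | inv u _ hu => exact hu.inv_left

theorem pgroup_le_center [Finite G] (hD : IsThreeTranspositionGroup D) {p : ℕ} (hp : p.Prime)
    (hp3 : 3 < p) {N : Subgroup G} [hN : N.Normal] (h : IsPGroup p N) : N ≤ Subgroup.center G := by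
  intro x hx
  refine commute_all_of_gen hD.2.2 fun d hd => ?_
  exact S5347.result hD hp hp3 N h hd (by rw [Subgroup.normalizer_eq_top]; exact Subgroup.mem_top d) x hx

theorem fitting_le_center [Finite G] (hD : IsThreeTranspositionGroup D) (hc : CentralCores G) :
    fittingSubgroup G ≤ Subgroup.center G := by
  rw [Cores.fittingSubgroup_eq_iSup_pCore]
  refine iSup_le fun p => ?_
  obtain ⟨p, hp⟩ := p
  rcases lt_or_ge 3 p with h3 | h3
  · exact pgroup_le_center hD hp h3 (Cores.isPGroup_pCore p G)
  · have h2 := hp.two_le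
    interval_cases p
    · exact hc.1
    · exact hc.2

theorem solvable_normal_le_center [Finite G] (hD : IsThreeTranspositionGroup D)
    (hc : CentralCores G) {N : Subgroup G} [hN : N.Normal] (h : Group.IsSolvable N) :
    N ≤ Subgroup.center G := by
  obtain ⟨n, hn⟩ := h.1
  suffices key : ∀ k, ∀ M : Subgroup G, M.Normal → derivedSeries M k = ⊥ → M ≤ Subgroup.center G from
    key n N hN hn
  intro k
  induction k with
  | zero =>
    intro M _ hM x hx
    have h1 : (⟨x, hx⟩ : M) ∈ (⊥ : Subgroup M) := by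
      rw [← hM, derivedSeries_zero]; exact Subgroup.mem_top _
    rw [Subgroup.mem_bot] at h1
    have : x = 1 := congrArg Subtype.val h1
    rw [this]; exact one_mem _
  | succ k ih =>
    intro M hM hk
    -- the last non-trivial term of the derived series is an abelian normal subgroup
    set A := (derivedSeries M k).map M.subtype with hA
    have hAn : A.Normal := Cores.map_subtype_normal_of_characteristic M _
    have hAab : IsMulCommutative A := by
      refine ⟨⟨?_⟩⟩
      rintro ⟨_, x, hx, rfl⟩ ⟨_, y, hy, rfl⟩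
      apply Subtype.ext
      have h2 : ⁅x, y⁆ ∈ (⊥ : Subgroup M) := by
        rw [← hk, derivedSeries_succ]
        exact Subgroup.commutator_mem_commutator hx hy
      rw [Subgroup.mem_bot, commutatorElement_eq_one_iff_commute] at h2
      simpa using congrArg M.subtype h2.eq
    have hAZ : A ≤ Subgroup.center G :=
      (Cores.le_fittingSubgroup_of_isMulCommutative A).trans (fitting_le_center hD hc)
    rcases k with _ | k
    · intro x hx
      exact hAZ ⟨⟨x, hx⟩, by rw [derivedSeries_zero]; exact Subgroup.mem_top _, rfl⟩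
    · -- the previous term is nilpotent, hence central, so the series is shorter
      set B := (derivedSeries M k).map M.subtype with hB
      have hBn : B.Normal := Cores.map_subtype_normal_of_characteristic M _
      have hBnil : Group.IsNilpotent B := by
        have hle : commutator B ≤ Subgroup.center B := by
          rw [commutator_def, Subgroup.commutator_le]
          rintro ⟨_, x, hx, rfl⟩ _ ⟨_, y, hy, rfl⟩ _
          rw [Subgroup.mem_center_iff]
          intro z
          apply Subtype.ext
          have h3 : M.subtype ⁅x, y⁆ ∈ A :=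
            ⟨_, by rw [derivedSeries_succ]; exact Subgroup.commutator_mem_commutator hx hy, rfl⟩
          have h4 := Subgroup.mem_center_iff.1 (hAZ h3) (z : G)
          simpa [commutatorElement_def] using h4
        rw [Subgroup.nilpotent_iff_lowerCentralSeries]
        refine ⟨2, ?_⟩
        rw [Subgroup.lowerCentralSeries_succ, Subgroup.top_lowerCentralSeries_one, eq_bot_iff,
          Subgroup.commutator_le]
        intro x hx y _
        rw [Subgroup.mem_bot, commutatorElement_eq_one_iff_commute]
        exact (Subgroup.mem_center_iff.1 (hle hx) y).symm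
      have hBZ : B ≤ Subgroup.center G :=
        (Cores.le_fittingSubgroup hBn hBnil).trans (fitting_le_center hD hc)
      refine ih M hM ?_
      rw [derivedSeries_succ, eq_bot_iff, Subgroup.commutator_le]
      intro x hx y hy
      rw [Subgroup.mem_bot, commutatorElement_eq_one_iff_commute]
      apply Subtype.ext
      exact Subgroup.mem_center_iff.1 (hBZ ⟨y, hy, rfl⟩) (x : G)

theorem eq_of_mul_mem_center (hD : IsThreeTranspositionSet D) {x y e : G} (hx : x ∈ D)
    (hy : y ∈ D) (he : e ∈ D) (hne : ¬ Commute x e) (h : x * y ∈ Subgroup.center G) : x = y := by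
  set z := x * y with hz
  have hzc : ∀ g : G, Commute g z := fun g => Subgroup.mem_center_iff.1 h g
  have hyz : y = x * z := by rw [hz, mul_self_cancel hD hx]
  have hz2 : z ^ 2 = 1 := by
    have h1 := mul_self hD hy
    rw [hyz, mul_assoc, ← mul_assoc z x, ← (hzc x).eq, mul_assoc x z z, mul_self_cancel hD hx] at h1
    rw [pow_two, h1]
  have hye : ¬ Commute y e := fun hc => hne (by
    have : x = y * z := by
      rw [hyz, mul_assoc, ← pow_two, hz2, mul_one]
    rw [this]; exact hc.mul_left (hzc e).symm)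
  have h3 := pow_three_of_not_commute hD hy he hye
  rw [hyz, mul_assoc, ← (hzc e).eq, ← mul_assoc, (hzc _).mul_pow,
    pow_three_of_not_commute hD hx he hne, one_mul] at h3
  have hz1 : z = 1 := eq_one_of_pow_coprime hz2 h3 (by norm_num)
  rw [hyz, hz1, mul_one]

/-- In a class with at least two members and central cores, `V_d = {d}`. -/
theorem vRel_eq [Finite G] (hD : IsThreeTranspositionClass D) (h2 : ∃ a ∈ D, ∃ b ∈ D, a ≠ b)
    (hc : pCore 2 G ≤ Subgroup.center G) {d v : G} (hd : d ∈ D) (hv : v ∈ D) (h : VRel D d v) :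
    d = v := by
  obtain ⟨e, he, hde⟩ := exists_not_commute hD h2 hd
  have hg := group_of_class hD
  exact eq_of_mul_mem_center hg.1 hd hv he hde
    (hc (mul_mem_pCore_two_of_vRel hg.1 hg.2.1 hd hv h))

/-- If the 3-core is central, `W_d = {d}`. -/
theorem adj_inj [Finite G] (hD : IsThreeTranspositionClass D) (h2 : ∃ a ∈ D, ∃ b ∈ D, a ≠ b)
    (hc : pCore 3 G ≤ Subgroup.center G) {d v : G} (hd : d ∈ D) (hv : v ∈ D)
    (h : adj D d = adj D v) : d = v := by
  obtain ⟨e, he, hde⟩ := exists_not_commute hD h2 hd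
  have hg := group_of_class hD
  exact eq_of_mul_mem_center hg.1 hd hv he hde
    (hc (mul_mem_pCore_three_of_adj_eq hg.1 hg.2.1 hd hv h))

theorem adj_conj_image (hconj : ∀ g : G, ∀ d ∈ D, g * d * g⁻¹ ∈ D) (g x : G) :
    adj D (g * x * g⁻¹) = (fun y => g * y * g⁻¹) '' adj D x := by
  ext y
  rw [conj_adj hconj]
  exact ⟨fun h => ⟨_, h, by group⟩, by rintro ⟨u, hu, rfl⟩; simpa [mul_assoc] using hu⟩

theorem ncard_adj_eq [Finite G] (hD : IsThreeTranspositionClass D) {x y : G} (hx : x ∈ D)
    (hy : y ∈ D) : (adj D x).ncard = (adj D y).ncard := by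
  obtain ⟨g, rfl⟩ := class_conj hD hx hy
  rw [adj_conj_image (group_of_class hD).2.1,
    Set.ncard_image_of_injective _ fun u v h => mul_left_cancel (mul_right_cancel h)]

/-! ### the quotient by the centre -/

/-- The projection to the quotient by the centre. -/
abbrev toQ (G : Type*) [Group G] : G →* G ⧸ Subgroup.center G := QuotientGroup.mk' _

theorem toQ_eq_iff (hD : IsThreeTranspositionSet D) {x y : G} (hx : x ∈ D) :
    toQ G x = toQ G y ↔ x * y ∈ Subgroup.center G := by
  show (QuotientGroup.mk x : G ⧸ Subgroup.center G) = QuotientGroup.mk y ↔ _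
  rw [QuotientGroup.eq, inv_eq hD hx]

theorem mk_inj [Finite G] (hD : IsThreeTranspositionClass D) (h2 : ∃ a ∈ D, ∃ b ∈ D, a ≠ b)
    {x y : G} (hx : x ∈ D) (hy : y ∈ D) (h : toQ G x = toQ G y) : x = y := by
  obtain ⟨e, he, hxe⟩ := exists_not_commute hD h2 hx
  exact eq_of_mul_mem_center hD.1 hx hy he hxe ((toQ_eq_iff hD.1 hx).1 h)

theorem commute_of_commute_mk [Finite G] (hD : IsThreeTranspositionClass D)
    (h2 : ∃ a ∈ D, ∃ b ∈ D, a ≠ b) {x y : G} (hx : x ∈ D) (hy : y ∈ D)
    (h : Commute (toQ G x) (toQ G y)) : Commute x y := by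
  by_contra hn
  have h3 := pow_three_of_not_commute hD.1 hx hy hn
  have hsq : toQ G ((x * y) ^ 2) = 1 := by
    rw [map_pow, map_mul, h.mul_pow, ← map_pow, ← map_pow, pow_two, pow_two, mul_self hD.1 hx,
      mul_self hD.1 hy, map_one, mul_one]
  have hxy : x * y ∈ Subgroup.center G := by
    have e : x * y = (x * y) ^ 3 * ((x * y) ^ 2)⁻¹ := by group
    rw [e, h3, one_mul]
    exact inv_mem ((QuotientGroup.eq_one_iff _).1 hsq)
  exact hn ((eq_of_mul_mem_center hD.1 hx hy hy hn hxy) ▸ Commute.refl x)

theorem class_quotient [Finite G] (hD : IsThreeTranspositionClass D)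
    (h2 : ∃ a ∈ D, ∃ b ∈ D, a ≠ b) : IsThreeTranspositionClass (toQ G '' D) := by
  obtain ⟨hs, ⟨d, hd, hcl⟩, hgen⟩ := id hD
  have hsurj : Function.Surjective (toQ G) := QuotientGroup.mk'_surjective _
  refine ⟨⟨?_, ?_⟩, ⟨toQ G d, ⟨d, hd, rfl⟩, ?_⟩, ?_⟩
  · rintro _ ⟨x, hx, rfl⟩
    refine orderOf_eq_prime (by rw [← map_pow, pow_two, mul_self hs hx, map_one]) fun h => ?_
    obtain ⟨e, he, hxe⟩ := exists_not_commute hD h2 hx
    exact hxe (Subgroup.mem_center_iff.1 ((QuotientGroup.eq_one_iff _).1 h) e).symm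
  · rintro _ ⟨x, hx, rfl⟩ _ ⟨y, hy, rfl⟩
    rcases hs.2 x hx y hy with h | h
    · left; rw [← map_mul, ← map_pow, h, map_one]
    · right; rw [← map_mul, ← map_pow, h, map_one]
  · ext q
    constructor
    · rintro ⟨x, hx, rfl⟩
      obtain ⟨g, hg⟩ := class_conj hD hd hx
      exact isConj_iff.2 ⟨toQ G g, map_conj_eq _ hg⟩
    · intro h
      obtain ⟨g, hg⟩ := isConj_iff.1 (show IsConj (toQ G d) q from h)
      obtain ⟨g, rfl⟩ := hsurj g
      exact ⟨g * d * g⁻¹, (group_of_class hD).2.1 g d hd, by rw [← hg, map_mul, map_mul, map_inv]⟩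
  · rw [← MonoidHom.map_closure, hgen, Subgroup.map_top_of_surjective _ hsurj]

theorem two_le_quotient [Finite G] (hD : IsThreeTranspositionClass D)
    (h2 : ∃ a ∈ D, ∃ b ∈ D, a ≠ b) : ∃ a ∈ toQ G '' D, ∃ b ∈ toQ G '' D, a ≠ b := by
  obtain ⟨a, ha, b, hb, hab⟩ := id h2
  exact ⟨_, ⟨a, ha, rfl⟩, _, ⟨b, hb, rfl⟩, fun h => hab (mk_inj hD h2 ha hb h)⟩

theorem trivialRadical_quotient [Finite G] (hD : IsThreeTranspositionGroup D)
    (hc : CentralCores G) : TrivialRadical (G ⧸ Subgroup.center G) := by
  intro N hN hsol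
  have hsurj : Function.Surjective (toQ G) := QuotientGroup.mk'_surjective _
  set M := N.comap (toQ G) with hM
  have hMn : M.Normal := hN.comap _
  have hMsol : Group.IsSolvable M := by
    let f : M →* N := (toQ G).subgroupComap N
    have hker : ∀ x : M, x ∈ f.ker → (x : G) ∈ Subgroup.center G := fun x hx =>
      (QuotientGroup.eq_one_iff _).1 (congrArg Subtype.val hx)
    have : Group.IsSolvable f.ker := Group.isSolvable_of_comm fun a b => by
      apply Subtype.ext
      apply Subtype.ext
      exact (Subgroup.mem_center_iff.1 (hker _ a.2) ((b : M) : G)).symm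
    exact Group.isSolvable_of_ker_le_range f.ker.subtype f (by rw [Subgroup.range_subtype])
  have hle := solvable_normal_le_center hD hc hMsol
  rw [eq_bot_iff]
  intro q hq
  obtain ⟨g, rfl⟩ := hsurj q
  exact Subgroup.mem_bot.2 ((QuotientGroup.eq_one_iff _).2 (hle hq))

theorem trivialRadical_of_center [Finite G] (hD : IsThreeTranspositionGroup D)
    (hc : CentralCores G) (hZ : Subgroup.center G = ⊥) : TrivialRadical G :=
  fun _ _ hN => eq_bot_iff.2 (hZ ▸ solvable_normal_le_center hD hc hN)

theorem center_eq_bot_of_trivialRadical (h : TrivialRadical G) : Subgroup.center G = ⊥ :=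
  h _ inferInstance (Group.isSolvable_of_comm fun a b =>
    Subtype.ext (Subgroup.mem_center_iff.1 b.2 (a : G)))

theorem centralCores_of_trivialRadical [Finite G] (h : TrivialRadical G) : CentralCores G := by
  constructor
  · have : Fact (Nat.Prime 2) := ⟨Nat.prime_two⟩
    rw [h (pCore 2 G) inferInstance (by
      have := (Cores.isPGroup_pCore 2 G).isNilpotent; infer_instance)]
    exact bot_le
  · have : Fact (Nat.Prime 3) := ⟨Nat.prime_three⟩
    rw [h (pCore 3 G) inferInstance (by
      have := (Cores.isPGroup_pCore 3 G).isNilpotent; infer_instance)]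
    exact bot_le

theorem adj_quotient [Finite G] (hD : IsThreeTranspositionClass D) (h2 : ∃ a ∈ D, ∃ b ∈ D, a ≠ b)
    {x : G} (hx : x ∈ D) : adj (toQ G '' D) (toQ G x) = toQ G '' adj D x := by
  ext q
  constructor
  · rintro ⟨⟨y, hy, rfl⟩, hne, hc⟩
    exact ⟨y, ⟨hy, fun h => hne (by rw [h]), commute_of_commute_mk hD h2 hx hy hc⟩, rfl⟩
  · rintro ⟨y, ⟨hy, hne, hc⟩, rfl⟩
    exact ⟨⟨y, hy, rfl⟩, fun h => hne (mk_inj hD h2 hy hx h), hc.map _⟩

end Cfsg.Agent.ThreeTrans
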