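/-
Fischer's rank three property.

Main results:
* `noncommuting_transitive` : in a class of 3-transpositions with trivial solvable radical and
  connected commuting graph, the centraliser of `a` is transitive on the members not commuting with `a`.
* `normal_dichotomy`, `centralCores_of_simple_derived`, `connected_of_simple_derived`
-/
import Cfsg.Agent.Lib.ThreeTrans.Central

namespace Cfsg.Agent.ThreeTrans

open Cfsg Cfsg.Agent.ThreeTransRank Relation
open scoped commutatorElement

variable {G : Type*} [Group G] {D : Set G}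

/-- `y` and `y'` lie in one orbit of the centraliser of `a`. -/
def SameOrbit (a y y' : G) : Prop := ∃ g, Commute g a ∧ g * y * g⁻¹ = y'

theorem SameOrbit.symm {a y y' : G} (h : SameOrbit a y y') : SameOrbit a y' y := by
  obtain ⟨g, hg, rfl⟩ := h
  exact ⟨g⁻¹, hg.inv_left, by group⟩

theorem SameOrbit.trans {a y y' y'' : G} (h : SameOrbit a y y') (h' : SameOrbit a y' y'') :
    SameOrbit a y y'' := by
  obtain ⟨g, hg, rfl⟩ := h
  obtain ⟨g', hg', rfl⟩ := h'
  exact ⟨g' * g, hg'.mul_left hg, by group⟩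

theorem sameOrbit_refl (a y : G) : SameOrbit a y y := ⟨1, Commute.one_left a, by simp⟩

theorem not_commute_of_sameOrbit {a y y' : G} (h : SameOrbit a y y') (hy : ¬ Commute a y) :
    ¬ Commute a y' := by
  obtain ⟨g, hg, rfl⟩ := h
  intro hc
  apply hy
  have h1 := hc.map (MulAut.conj g⁻¹).toMonoidHom
  have e : g⁻¹ * a * g = a := by rw [mul_assoc, ← hg.eq, inv_mul_cancel_left]
  simpa [mul_assoc, e] using (by simpa using h1 : Commute (g⁻¹ * a * g) (g⁻¹ * (g * y * g⁻¹) * g))

theorem sameOrbit_conj_self (hD : IsThreeTranspositionSet D) {a y : G} (ha : a ∈ D) :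
    SameOrbit a y (a * y * a) :=
  ⟨a, Commute.refl a, by rw [inv_eq hD ha]⟩

theorem sameOrbit_of_commute (hD : IsThreeTranspositionSet D) {a y y' : G} (ha : a ∈ D)
    (hy : y ∈ D) (hy' : y' ∈ D) (h : ¬ Commute a y) (h' : ¬ Commute a y') (hc : Commute y y') :
    SameOrbit a y y' := by
  obtain ⟨φ, h0, h1, h2⟩ := exists_hom_four hD hy ha hy' hc (fun c => h c.symm) h'
  refine ⟨φ (Equiv.swap 0 3 * Equiv.swap 1 2), ?_, ?_⟩
  · rw [← h1]
    exact (show Commute (Equiv.swap (0 : Fin 4) 3 * Equiv.swap 1 2) (Equiv.swap 1 2) by rw [commute_iff_eq]; decide +kernel).map φ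
  · rw [← h0, ← h2]
    exact map_conj_eq φ (show (Equiv.swap (0 : Fin 4) 3 * Equiv.swap 1 2) * Equiv.swap 0 1 *
      (Equiv.swap 0 3 * Equiv.swap 1 2)⁻¹ = Equiv.swap 2 3 by decide +kernel)

/-- The common neighbours. -/
def common (D : Set G) (a y : G) : Set G := adj D a ∩ adj D y

theorem common_conj (hconj : ∀ g : G, ∀ d ∈ D, g * d * g⁻¹ ∈ D) {a g y : G} (hg : Commute g a) :
    common D a (g * y * g⁻¹) = (fun z => g * z * g⁻¹) '' common D a y := by
  have e : g * a * g⁻¹ = a := by rw [hg.eq, mul_assoc, mul_inv_cancel, mul_one]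
  unfold common
  rw [Set.image_inter (fun u v h => mul_left_cancel (mul_right_cancel h)),
    ← adj_conj_image hconj, ← adj_conj_image hconj, e]

theorem ncard_common [Finite G] (hconj : ∀ g : G, ∀ d ∈ D, g * d * g⁻¹ ∈ D) {a y y' : G}
    (h : SameOrbit a y y') : (common D a y').ncard = (common D a y).ncard := by
  obtain ⟨g, hg, rfl⟩ := h
  rw [common_conj hconj hg,
    Set.ncard_image_of_injective _ fun u v h => mul_left_cancel (mul_right_cancel h)]

theorem common_subset (hD : IsThreeTranspositionSet D)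
    (hconj : ∀ g : G, ∀ d ∈ D, g * d * g⁻¹ ∈ D) {a x y : G} (ha : a ∈ D) (hx : x ∈ D) (hy : y ∈ D)
    (hay : ¬ Commute a y) (hxy : ¬ Commute x y) (hf : ¬ Commute a (x * y * x))
    (hne : ¬ SameOrbit a (x * y * x) y) : common D a x ⊆ common D a y := by
  rintro d ⟨hda, hdD, hdx, hxd⟩
  refine ⟨hda, hdD, fun h => hay (h ▸ hda.2.2), ?_⟩
  by_contra hyd
  obtain ⟨φ, h0, h1, h2⟩ := exists_hom_four hD hx hy hdD hxd hxy hyd
  apply hne
  have hfd : SameOrbit a (x * y * x) (d * (x * y * x) * d⁻¹) := ⟨d, hda.2.2.symm, rfl⟩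
  refine hfd.trans (sameOrbit_of_commute hD ha ?_ hy (not_commute_of_sameOrbit hfd hf) hay ?_)
  · exact hconj _ _ (conj_mem hD hconj hx hy)
  · rw [← h0, ← h1, ← h2, ← map_mul, ← map_mul, ← map_inv, ← map_mul, ← map_mul]
    exact (show Commute (Equiv.swap (2 : Fin 4) 3 *
      (Equiv.swap 0 1 * Equiv.swap 1 2 * Equiv.swap 0 1) * (Equiv.swap 2 3)⁻¹)
      (Equiv.swap 1 2) by rw [commute_iff_eq]; decide +kernel).map φ

theorem common_comparable (hD : IsThreeTranspositionSet D)
    (hconj : ∀ g : G, ∀ d ∈ D, g * d * g⁻¹ ∈ D) {a x y : G} (ha : a ∈ D) (hx : x ∈ D) (hy : y ∈ D)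
    (hax : ¬ Commute a x) (hay : ¬ Commute a y) (hne : ¬ SameOrbit a x y) :
    common D a x ⊆ common D a y ∨ common D a y ⊆ common D a x := by
  have hxy : ¬ Commute x y := fun h => hne (sameOrbit_of_commute hD ha hx hy hax hay h)
  have hf : ¬ Commute a (x * y * x) := by
    intro hc
    apply hne
    have h1 := hc.map (MulAut.conj x).toMonoidHom
    have h2 : Commute (x * a * x) y := by
      simpa [inv_eq hD hx, mul_assoc, mul_self hD hx, mul_self_cancel hD hx] using h1
    have e : x * a * x = a * x * a := braid hD hx ha fun h => hax h.symm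
    rw [e] at h2
    have hs := sameOrbit_conj_self hD (y := x) ha
    exact hs.trans (sameOrbit_of_commute hD ha (conj_mem hD hconj ha hx) hy
      (not_commute_of_sameOrbit hs hax) hay h2)
  by_cases hfy : SameOrbit a (x * y * x) y
  · right
    have e : x * y * x = y * x * y := braid hD hx hy hxy
    refine common_subset hD hconj ha hy hx hax (fun h => hxy h.symm) (e ▸ hf) ?_
    rw [← e]
    exact fun h => hne (h.symm.trans hfy)
  · exact Or.inl (common_subset hD hconj ha hx hy hay hxy hf hfy)

/-- The commuting graph is connected. -/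
def ConnectedComm (D : Set G) : Prop :=
  ∀ x ∈ D, ∀ y ∈ D, ReflTransGen (fun u v => u ∈ D ∧ v ∈ D ∧ Commute u v) x y

theorem commute_of_mem_closure_nbr {x h : G} (hh : h ∈ Subgroup.closure (nbr D x)) : Commute h x := by
  induction hh using Subgroup.closure_induction with
  | mem z hz => exact hz.2.2.symm
  | one => exact Commute.one_left x
  | mul u v _ _ hu hv => exact hu.mul_left hv
  | inv u _ hu => exact hu.inv_left

/-- Fischer's rank three property, non-commuting part. -/
theorem noncommuting_transitive [Finite G] (hrad : TrivialRadical G)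
    (hD : IsThreeTranspositionClass D) (hconn : ConnectedComm D) {a y y' : G} (ha : a ∈ D)
    (hy : y ∈ D) (hy' : y' ∈ D) (h : ¬ Commute a y) (h' : ¬ Commute a y') :
    SameOrbit a y y' := by
  have hg := group_of_class hD
  have h2 : ∃ u ∈ D, ∃ v ∈ D, u ≠ v := ⟨a, ha, y, hy, fun e => h (e ▸ Commute.refl a)⟩
  have hcc := centralCores_of_trivialRadical hrad
  have main : ∀ z ∈ D, ∀ z' ∈ D, ¬ Commute a z → ¬ Commute a z' →
      (common D a z).ncard ≤ (common D a z').ncard → SameOrbit a z z' := by
    intro z hz z' hz' hzn hzn' hle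
    by_contra hne
    have key : ∀ x, SameOrbit a z x → x ∈ D → common D a x ⊆ common D a z' := by
      intro x hzx hx
      have hxn := not_commute_of_sameOrbit hzx hzn
      rcases common_comparable hg.1 hg.2.1 ha hx hz' hxn hzn' (fun h => hne (hzx.trans h)) with h | h
      · exact h
      · exact (Set.eq_of_subset_of_ncard_le h (by rw [ncard_common hg.2.1 hzx]; exact hle)).ge
    -- some member commutes with `a` and `z`
    obtain ⟨d₀, hd₀⟩ : (common D a z).Nonempty := by
      by_contra hemp
      rw [Set.not_nonempty_iff_eq_empty] at hemp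
      have hreach : ∀ x, ReflTransGen (fun u v => u ∈ D ∧ v ∈ D ∧ Commute u v) z x →
          x ∈ D ∧ SameOrbit a z x := by
        intro x hx
        induction hx with
        | refl => exact ⟨hz, sameOrbit_refl a z⟩
        | @tail u v _ huv ih =>
          refine ⟨huv.2.1, ?_⟩
          have hun := not_commute_of_sameOrbit ih.2 hzn
          refine ih.2.trans (sameOrbit_of_commute hg.1 ha huv.1 huv.2.1 hun ?_ huv.2.2)
          intro hav
          have hc0 : (common D a u).ncard = 0 := by
            rw [ncard_common hg.2.1 ih.2, hemp, Set.ncard_empty]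
          rw [Set.ncard_eq_zero (Set.toFinite _)] at hc0
          have : v ∈ common D a u :=
            ⟨⟨huv.2.1, fun e => hun (e ▸ huv.2.2).symm, hav⟩,
              huv.2.1, fun e => hun (e ▸ hav), huv.2.2⟩
          rw [hc0] at this
          exact this
      obtain ⟨-, g, hga, hgz⟩ := hreach a (hconn z hz a ha)
      apply hzn
      have e : z = g⁻¹ * a * g := by rw [← hgz]; group
      rw [e, mul_assoc, ← hga.eq, inv_mul_cancel_left]
    have hsub : adj D a ⊆ common D a z' := by
      intro d hd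
      obtain ⟨g, hgmem, hge⟩ := nbr_transitive hrad hD ha (show d₀ ∈ nbr D a from hd₀.1) hd
      have hga := commute_of_mem_closure_nbr hgmem
      apply key (g * z * g⁻¹) ⟨g, hga, rfl⟩ (hg.2.1 g z hz)
      rw [common_conj hg.2.1 hga]
      exact ⟨d₀, hd₀, hge⟩
    have heq : adj D a = adj D z' := by
      refine Set.eq_of_subset_of_ncard_le (fun d hd => (hsub hd).2) ?_
      rw [ncard_adj_eq hD ha hz']
    exact hzn' (adj_inj hD h2 hcc.2 ha hz' heq ▸ Commute.refl a)
  rcases le_total (common D a y).ncard (common D a y').ncard with hle | hle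
  · exact main y hy y' hy' h h' hle
  · exact (main y' hy' y hy h' h hle).symm

/-! ### simple derived subgroup -/

theorem commutator_not_solvable (hsimple : IsSimpleGroup (commutator G))
    (hnonab : ∃ x y : commutator G, x * y ≠ y * x) : ¬ Group.IsSolvable (commutator G) := by
  intro h
  obtain ⟨x, y, hxy⟩ := hnonab
  exact hxy (IsSimpleGroup.comm_iff_isSolvable.2 h x y)

theorem normal_dichotomy (hsimple : IsSimpleGroup (commutator G)) (N : Subgroup G) [hN : N.Normal] :
    commutator G ≤ N ∨ N ≤ Subgroup.center G := by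
  rcases hsimple.eq_bot_or_eq_top_of_normal (N.subgroupOf (commutator G)) (hN.subgroupOf _) with h | h
  · right
    intro n hn
    rw [Subgroup.mem_center_iff]
    intro g
    have hmem : ⁅g, n⁆ ∈ commutator G :=
      Subgroup.commutator_mem_commutator (Subgroup.mem_top g) (Subgroup.mem_top n)
    have h2 : (⟨⁅g, n⁆, hmem⟩ : commutator G) ∈ N.subgroupOf (commutator G) := by
      rw [Subgroup.mem_subgroupOf]
      show ⁅g, n⁆ ∈ N
      rw [commutatorElement_def]
      exact mul_mem (hN.conj_mem n hn g) (inv_mem hn)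
    rw [h, Subgroup.mem_bot] at h2
    exact commutatorElement_eq_one_iff_commute.1 (congrArg Subtype.val h2)
  · exact Or.inl (Subgroup.subgroupOf_eq_top.1 h)

theorem centralCores_of_simple_derived [Finite G] (hsimple : IsSimpleGroup (commutator G))
    (hnonab : ∃ x y : commutator G, x * y ≠ y * x) : CentralCores G := by
  have key : ∀ p : ℕ, p.Prime → pCore p G ≤ Subgroup.center G := by
    intro p hp
    have : Fact p.Prime := ⟨hp⟩
    rcases normal_dichotomy hsimple (pCore p G) with h | h
    · exfalso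
      have := ((Cores.isPGroup_pCore p G).to_le h).isNilpotent
      exact commutator_not_solvable hsimple hnonab inferInstance
    · exact h
  exact ⟨key 2 Nat.prime_two, key 3 Nat.prime_three⟩

theorem two_members_of_simple_derived (hD : IsThreeTranspositionClass D)
    (hnonab : ∃ x y : commutator G, x * y ≠ y * x) : ∃ a ∈ D, ∃ b ∈ D, a ≠ b := by
  by_contra hcon
  have hab : ∀ g h : G, g * h = h * g := by
    intro g h
    refine (Subgroup.mem_center_iff.1 ?_ g : g * h = h * g)
    have hh : h ∈ Subgroup.closure D := by rw [hD.2.2]; exact Subgroup.mem_top h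
    refine (Subgroup.closure_le _).2 (fun e he => ?_) hh
    refine commute_all_of_gen hD.2.2 fun d hd => ?_
    rcases eq_or_ne d e with rfl | hne
    · exact Commute.refl d
    · exact absurd ⟨d, hd, e, he, hne⟩ hcon
  obtain ⟨x, y, hxy⟩ := hnonab
  exact hxy (Subtype.ext (hab _ _))

theorem exists_commuting_pair [Finite G] (hD : IsThreeTranspositionClass D)
    (h2 : ∃ a ∈ D, ∃ b ∈ D, a ≠ b) (hc : pCore 3 G ≤ Subgroup.center G) :
    ∃ x ∈ D, ∃ y ∈ D, x ≠ y ∧ Commute x y := by
  by_contra hcon
  have hg := group_of_class hD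
  have hcube : CubeSet D := ⟨hg.1.1, hg.2.1, fun u hu v hv => by
    rcases eq_or_ne u v with rfl | hne
    · rw [mul_self hg.1 hu, one_pow]
    · exact pow_three_of_not_commute hg.1 hu hv fun h => hcon ⟨u, hu, v, hv, hne, h⟩⟩
  obtain ⟨a, ha, b, hb, hab⟩ := id h2
  obtain ⟨e, he, hne⟩ := exists_not_commute hD h2 ha
  exact hab (eq_of_mul_mem_center hg.1 ha hb he hne (hc (hcube.mul_mem_pCore_three ha hb)))

theorem connected_of_dichotomy [Finite G] (hD : IsThreeTranspositionClass D)
    (h2 : ∃ a ∈ D, ∃ b ∈ D, a ≠ b) (hc3 : pCore 3 G ≤ Subgroup.center G)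
    (hdich : ∀ N : Subgroup G, N.Normal → commutator G ≤ N ∨ N ≤ Subgroup.center G) :
    ConnectedComm D := by
  have hg := group_of_class hD
  let R : G → G → Prop := fun u v => u ∈ D ∧ v ∈ D ∧ Commute u v
  have rsymm : ∀ {u v}, ReflTransGen R u v → ReflTransGen R v u := by
    intro u v h
    induction h with
    | refl => exact ReflTransGen.refl
    | @tail w z _ h ih => exact ReflTransGen.head ⟨h.2.1, h.1, h.2.2.symm⟩ ih
  have rconj : ∀ g {u v}, ReflTransGen R u v →
      ReflTransGen R (g * u * g⁻¹) (g * v * g⁻¹) := by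
    intro g u v h
    induction h with
    | refl => exact ReflTransGen.refl
    | @tail w z _ h ih =>
      exact ih.tail ⟨hg.2.1 g w h.1, hg.2.1 g z h.2.1, h.2.2.map (MulAut.conj g).toMonoidHom⟩
  let N : Subgroup G :=
    { carrier := {g | ∀ x ∈ D, ReflTransGen R x (g * x * g⁻¹)}
      one_mem' := fun x _ => by simpa using ReflTransGen.refl
      mul_mem' := fun {g h} hgm hhm x hx => by
        have := (hhm x hx).trans (hgm _ (hg.2.1 h x hx))
        simpa [mul_assoc] using this
      inv_mem' := fun {g} hgm x hx => by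
        have := rsymm (hgm _ (hg.2.1 g⁻¹ x hx))
        simpa [mul_assoc] using this }
  have hNn : N.Normal := ⟨fun n hn g x hx => by
    have := rconj g (hn _ (hg.2.1 g⁻¹ x hx))
    simpa [mul_assoc] using this⟩
  obtain ⟨x, hx, y, hy, hxy, hc⟩ := exists_commuting_pair hD h2 hc3
  have hxyN : x * y ∈ N := by
    intro z hz
    have e : x * y * z * (x * y)⁻¹ = x * (y * z * y) * x := by
      rw [mul_inv_rev, inv_eq hg.1 hx, inv_eq hg.1 hy]; simp only [mul_assoc]
    rw [e]
    have m1 := conj_mem hg.1 hg.2.1 hy hz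
    have m2 := conj_mem hg.1 hg.2.1 hx m1
    by_cases h1 : Commute y z
    · rw [conj_conj_of_commute hg.1 hy h1]
      have m3 := conj_mem hg.1 hg.2.1 hx hz
      by_cases h3 : Commute x z
      · rw [conj_conj_of_commute hg.1 hx h3]
      · -- z — y — (x z x)
        refine ReflTransGen.trans (ReflTransGen.single ⟨hz, hy, h1.symm⟩)
          (ReflTransGen.single ⟨hy, m3, ?_⟩)
        have h4 := h1.map (MulAut.conj x).toMonoidHom
        simpa [inv_eq hg.1 hx, conj_conj_of_commute hg.1 hx hc] using h4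
    by_cases h3 : Commute x z
    · -- z — x — x (y z y) x
      refine ReflTransGen.trans (ReflTransGen.single ⟨hz, hx, h3.symm⟩)
        (ReflTransGen.single ⟨hx, m2, ?_⟩)
      have h4 := (h3.map (MulAut.conj y).toMonoidHom).map (MulAut.conj x).toMonoidHom
      simpa [inv_eq hg.1 hx, inv_eq hg.1 hy, conj_conj_of_commute hg.1 hy hc.symm,
        mul_self hg.1 hx] using h4
    obtain ⟨φ, k0, k1, k2⟩ := exists_hom_four hg.1 hx hz hy hc h3 fun h => h1 h.symm
    refine ReflTransGen.single ⟨hz, m2, ?_⟩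
    rw [← k0, ← k1, ← k2, ← map_mul, ← map_mul, ← map_mul, ← map_mul]
    exact (show Commute (Equiv.swap (1 : Fin 4) 2) (Equiv.swap 0 1 *
      (Equiv.swap 2 3 * Equiv.swap 1 2 * Equiv.swap 2 3) * Equiv.swap 0 1) by rw [commute_iff_eq]; decide +kernel).map φ
  have hGN : commutator G ≤ N := by
    rcases hdich N hNn with h | h
    · exact h
    · obtain ⟨e, he, hxe⟩ := exists_not_commute hD h2 hx
      exact absurd (eq_of_mul_mem_center hg.1 hx hy he hxe (h hxyN)) hxy
  -- every line lies in one component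
  have line : ∀ u ∈ D, ∀ v ∈ D, ¬ Commute u v → ReflTransGen R u (v * u * v) := by
    intro u hu v hv _
    obtain ⟨g, hgv⟩ := class_conj hD hu hv
    have hmem : v * u ∈ N := hGN (by
      have e : v * u = ⁅g, u⁆ := by rw [commutatorElement_def, hgv, inv_eq hg.1 hu]
      rw [e]
      exact Subgroup.commutator_mem_commutator (Subgroup.mem_top g) (Subgroup.mem_top u))
    have := hmem u hu
    simpa [mul_assoc, inv_eq hg.1 hu, inv_eq hg.1 hv, mul_self_cancel hg.1 hu] using this
  intro u hu v hv
  show ReflTransGen R u v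
  by_cases huv : Commute u v
  · exact ReflTransGen.single ⟨hu, hv, huv⟩
  have hb := braid hg.1 hu hv huv
  have hn : ¬ Commute u (u * v * u) := by
    intro h
    have h4 := h.map (MulAut.conj u).toMonoidHom
    apply huv
    simpa [inv_eq hg.1 hu, mul_assoc, mul_self hg.1 hu, mul_self_cancel hg.1 hu] using h4
  have h1 := line u hu _ (conj_mem hg.1 hg.2.1 hu hv) hn
  have e : (u * v * u) * u * (u * v * u) = v := by
    rw [hb]
    calc v * u * v * u * (v * u * v) = v * (u * v * u) * (v * u * v) := by simp only [mul_assoc]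
      _ = v * ((u * v * u) * (u * v * u)) := by rw [← hb]; simp only [mul_assoc]
      _ = v := by rw [mul_self hg.1 (conj_mem hg.1 hg.2.1 hu hv), mul_one]
  rwa [e] at h1

theorem connected_of_simple_derived [Finite G] (hD : IsThreeTranspositionClass D)
    (hsimple : IsSimpleGroup (commutator G)) (hnonab : ∃ x y : commutator G, x * y ≠ y * x) :
    ConnectedComm D :=
  connected_of_dichotomy hD (two_members_of_simple_derived hD hnonab)
    (centralCores_of_simple_derived hsimple hnonab).2 fun N _ => normal_dichotomy hsimple N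

/-- Commuting pairs, up to the centre. -/
theorem commuting_transitive_of_centralCores [Finite G] (hD : IsThreeTranspositionClass D)
    (h2 : ∃ a ∈ D, ∃ b ∈ D, a ≠ b) (hc : CentralCores G) {a b b' : G} (ha : a ∈ D) (hb : b ∈ adj D a)
    (hb' : b' ∈ adj D a) : ∃ g : G, Commute g a ∧ g * b * g⁻¹ = b' := by
  have hrad := trivialRadical_quotient (group_of_class hD) hc
  have hq := class_quotient hD h2
  have m1 : toQ G b ∈ nbr (toQ G '' D) (toQ G a) := by
    show toQ G b ∈ adj (toQ G '' D) (toQ G a)
    rw [adj_quotient hD h2 ha]; exact ⟨b, hb, rfl⟩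
  have m2 : toQ G b' ∈ nbr (toQ G '' D) (toQ G a) := by
    show toQ G b' ∈ adj (toQ G '' D) (toQ G a)
    rw [adj_quotient hD h2 ha]; exact ⟨b', hb', rfl⟩
  obtain ⟨q, hq1, hq2⟩ := nbr_transitive hrad hq ⟨a, ha, rfl⟩ m1 m2
  have hqa := commute_of_mem_closure_nbr hq1
  obtain ⟨g, rfl⟩ := QuotientGroup.mk'_surjective _ q
  have e : toQ G (g * a * g⁻¹) = toQ G a := by
    rw [map_mul, map_mul, map_inv]
    exact (congrArg (· * (toQ G g)⁻¹) hqa.eq).trans (mul_inv_cancel_right _ _)
  have hga := mk_inj hD h2 ((group_of_class hD).2.1 g a ha) ha e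
  refine ⟨g, ?_, mk_inj hD h2 ((group_of_class hD).2.1 g b hb.1) hb'.1 ?_⟩
  · show g * a = a * g
    calc g * a = g * a * g⁻¹ * g := by group
      _ = a * g := by rw [hga]
  · rw [map_mul, map_mul, map_inv]; exact hq2

/-- Non-commuting pairs, up to the centre. -/
theorem noncommuting_transitive_of_centralCores [Finite G] (hD : IsThreeTranspositionClass D)
    (hc : CentralCores G) (hconn : ConnectedComm D) {a y y' : G} (ha : a ∈ D) (hy : y ∈ D)
    (hy' : y' ∈ D) (h : ¬ Commute a y) (h' : ¬ Commute a y') :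
    ∃ g : G, Commute g a ∧ g * y * g⁻¹ = y' := by
  have h2 : ∃ u ∈ D, ∃ v ∈ D, u ≠ v := ⟨a, ha, y, hy, fun e => h (e ▸ Commute.refl a)⟩
  have hrad := trivialRadical_quotient (group_of_class hD) hc
  have hq := class_quotient hD h2
  have hconn' : ConnectedComm (toQ G '' D) := by
    rintro _ ⟨u, hu, rfl⟩ _ ⟨v, hv, rfl⟩
    exact (hconn u hu v hv).lift _ fun x z hxz => ⟨⟨x, hxz.1, rfl⟩, ⟨z, hxz.2.1, rfl⟩, hxz.2.2.map _⟩
  obtain ⟨q, hqa, hqe⟩ := noncommuting_transitive hrad hq hconn' ⟨a, ha, rfl⟩ ⟨y, hy, rfl⟩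
    ⟨y', hy', rfl⟩ (fun hh => h (commute_of_commute_mk hD h2 ha hy hh))
    (fun hh => h' (commute_of_commute_mk hD h2 ha hy' hh))
  obtain ⟨g, rfl⟩ := QuotientGroup.mk'_surjective _ q
  have e : toQ G (g * a * g⁻¹) = toQ G a := by
    rw [map_mul, map_mul, map_inv]
    exact (congrArg (· * (toQ G g)⁻¹) hqa.eq).trans (mul_inv_cancel_right _ _)
  have hga := mk_inj hD h2 ((group_of_class hD).2.1 g a ha) ha e
  refine ⟨g, ?_, mk_inj hD h2 ((group_of_class hD).2.1 g y hy) hy' ?_⟩
  · show g * a = a * g
    calc g * a = g * a * g⁻¹ * g := by group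
      _ = a * g := by rw [hga]
  · rw [map_mul, map_mul, map_inv]; exact hqe

end Cfsg.Agent.ThreeTrans
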