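/-
The local group generated by the members commuting with one member, and primitivity.

Main results:
* `class_of_primitive`, `centralCores_of_primitive`, `adj_nonempty_all`
* `Loc D x` (the subgroup generated by `adj D x`), `locSet D x`; `loc_class`, `loc_two`, `centralCores_loc_transport`
* `pCore_two_le_center_of_simple_quotient`, `vRel_trivial_of_local_simple`
-/
import Cfsg.Agent.Lib.ThreeTrans.RankThree

namespace Cfsg.Agent.ThreeTrans

open Cfsg Cfsg.Agent.ThreeTransRank Relation

variable {G : Type*} [Group G] {D : Set G}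

theorem class_of_primitive (hD : IsThreeTranspositionGroup D) (hprim : IsPrimitiveUnderConj D) :
    IsThreeTranspositionClass D := by
  obtain ⟨a, ha, -, -, -⟩ := hprim.2.1
  refine ⟨hD.1, ⟨a, ha, ?_⟩, hD.2.2⟩
  ext x
  show x ∈ D ↔ IsConj a x
  refine ⟨fun hx => isConj_iff.2 (hprim.1 a ha x hx), fun h => ?_⟩
  obtain ⟨g, rfl⟩ := isConj_iff.1 h
  exact hD.2.1 g a ha

theorem conj_coset (M : Subgroup G) [M.Normal] (g d v : G) :
    (g * d * g⁻¹)⁻¹ * (g * v * g⁻¹) ∈ M ↔ d⁻¹ * v ∈ M := by
  have e : (g * d * g⁻¹)⁻¹ * (g * v * g⁻¹) = g * (d⁻¹ * v) * g⁻¹ := by group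
  rw [e]
  refine ⟨fun h => ?_, fun h => Subgroup.Normal.conj_mem ‹M.Normal› _ h g⟩
  simpa [mul_assoc] using Subgroup.Normal.conj_mem ‹M.Normal› _ h g⁻¹

theorem core_coset_trivial (hprim : IsPrimitiveUnderConj D)
    (hconj : ∀ g : G, ∀ d ∈ D, g * d * g⁻¹ ∈ D) {d : G} (hd : d ∈ D) (M : Subgroup G) [M.Normal] :
    (∀ v ∈ D, d⁻¹ * v ∈ M → v = d) ∨ ∀ v ∈ D, d⁻¹ * v ∈ M := by
  set B := {v | v ∈ D ∧ d⁻¹ * v ∈ M} with hB
  have hblock : ∀ g : G, (fun x => g * x * g⁻¹) '' B = B ∨
      Disjoint ((fun x => g * x * g⁻¹) '' B) B := by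
    intro g
    by_cases h : d⁻¹ * (g * d * g⁻¹) ∈ M
    · left
      ext w
      constructor
      · rintro ⟨v, ⟨hv, hvM⟩, rfl⟩
        refine ⟨hconj g v hv, ?_⟩
        have := mul_mem h ((conj_coset M g d v).2 hvM)
        simpa [mul_assoc] using this
      · rintro ⟨hw, hwM⟩
        refine ⟨g⁻¹ * w * g, ⟨by simpa using hconj g⁻¹ w hw, ?_⟩, by group⟩
        have := mul_mem (inv_mem h) hwM
        rw [← conj_coset M g]
        simpa [mul_assoc] using this
    · right
      rw [Set.disjoint_left]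
      rintro w ⟨v, ⟨hv, hvM⟩, rfl⟩ ⟨-, hwM⟩
      apply h
      have := mul_mem hwM (inv_mem ((conj_coset M g d v).2 hvM))
      simpa [mul_assoc] using this
  rcases hprim.2.2 B (fun v hv => hv.1) hblock with h | h
  · exact Or.inl fun v hv hvM => h ⟨hv, hvM⟩ ⟨hd, by simp⟩
  · exact Or.inr fun v hv => by
      have : v ∈ B := h.symm ▸ hv
      exact this.2

theorem centralCores_of_primitive [Finite G] (hD : IsThreeTranspositionGroup D)
    (hprim : IsPrimitiveUnderConj D) (hw : ∃ a ∈ D, ∃ b ∈ D, a ≠ b ∧ Commute a b) :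
    CentralCores G := by
  have hcl := class_of_primitive hD hprim
  have key : ∀ (M : Subgroup G) [M.Normal], (¬ ∀ u ∈ D, ∀ v ∈ D, u⁻¹ * v ∈ M) →
      M ≤ Subgroup.center G := by
    intro M _ hall n hn
    refine commute_all_of_gen hD.2.2 fun d hd => ?_
    rcases core_coset_trivial hprim hD.2.1 hd M with h | h
    · have e := h _ (hD.2.1 n d hd) (inv_mul_conj_mem hn)
      show d * n = n * d
      calc d * n = n * d * n⁻¹ * n := by rw [e]
        _ = n * d := by group
    · refine absurd (fun u hu v hv => ?_) hall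
      have := mul_mem (inv_mem (h u hu)) (h v hv)
      simpa [mul_assoc] using this
  constructor
  · refine key (pCore 2 G) fun hall => ?_
    obtain ⟨a, ha, b, hb, hab⟩ := id hprim.2.1
    obtain ⟨e, he, hne⟩ := exists_not_commute hcl ⟨a, ha, b, hb, hab⟩ ha
    exact hne ((vRel_of_mem_pCore_two hD.1 ha he (hall a ha e he) e he).1 (Commute.refl e))
  · refine key (pCore 3 G) fun hall => ?_
    obtain ⟨a, ha, b, hb, hab, hc⟩ := hw
    exact not_commute_of_adj_eq hb (adj_eq_of_mem_pCore_three hD.1 ha hb (hall a ha b hb)) hab hc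

theorem adj_nonempty_all (hD : IsThreeTranspositionClass D) {x y : G} (hx : x ∈ D) (hy : y ∈ D)
    (h : (adj D x).Nonempty) : (adj D y).Nonempty := by
  obtain ⟨g, rfl⟩ := class_conj hD hx hy
  rw [adj_conj_image (group_of_class hD).2.1]
  exact h.image _

/-! ### the local group -/

/-- The subgroup generated by the members commuting with `x`, other than `x`. -/
def Loc (D : Set G) (x : G) : Subgroup G := Subgroup.closure (adj D x)

/-- Its distinguished set. -/
def locSet (D : Set G) (x : G) : Set (Loc D x) := {h | (h : G) ∈ adj D x}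

theorem commute_coe_iff {H : Subgroup G} {a b : H} : Commute a b ↔ Commute (a : G) (b : G) :=
  ⟨fun h => congrArg Subtype.val h, fun h => Subtype.ext h⟩

theorem commute_of_mem_Loc {x h : G} (hh : h ∈ Loc D x) : Commute h x :=
  commute_of_mem_closure_nbr hh

theorem loc_transitive [Finite G] (hD : IsThreeTranspositionClass D)
    (h2 : ∃ a ∈ D, ∃ b ∈ D, a ≠ b) (hc : CentralCores G) {a b b' : G} (ha : a ∈ D)
    (hb : b ∈ adj D a) (hb' : b' ∈ adj D a) : ∃ g ∈ Loc D a, g * b * g⁻¹ = b' := by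
  have hrad := trivialRadical_quotient (group_of_class hD) hc
  have hq := class_quotient hD h2
  have m1 : toQ G b ∈ nbr (toQ G '' D) (toQ G a) := by
    show toQ G b ∈ adj (toQ G '' D) (toQ G a)
    rw [adj_quotient hD h2 ha]; exact ⟨b, hb, rfl⟩
  have m2 : toQ G b' ∈ nbr (toQ G '' D) (toQ G a) := by
    show toQ G b' ∈ adj (toQ G '' D) (toQ G a)
    rw [adj_quotient hD h2 ha]; exact ⟨b', hb', rfl⟩
  obtain ⟨q, hq1, hq2⟩ := nbr_transitive hrad hq ⟨a, ha, rfl⟩ m1 m2
  have hq1' : q ∈ (Loc D a).map (toQ G) := by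
    have e : nbr (toQ G '' D) (toQ G a) = toQ G '' adj D a := adj_quotient hD h2 ha
    rw [e, ← MonoidHom.map_closure] at hq1
    exact hq1
  obtain ⟨g, hg, rfl⟩ := hq1'
  refine ⟨g, hg, mk_inj hD h2 ((group_of_class hD).2.1 g b hb.1) hb'.1 ?_⟩
  rw [map_mul, map_mul, map_inv]; exact hq2

theorem loc_two [Finite G] (hD : IsThreeTranspositionClass D) (hc : CentralCores G) {x : G}
    (hx : x ∈ D) (hne : (adj D x).Nonempty) : ∃ a ∈ locSet D x, ∃ b ∈ locSet D x, a ≠ b := by
  obtain ⟨y, hy⟩ := hne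
  by_contra hcon
  have hsing : adj D x = {y} := by
    refine Set.eq_singleton_iff_unique_mem.2 ⟨hy, fun z hz => ?_⟩
    by_contra hzy
    exact hcon ⟨⟨z, Subgroup.subset_closure hz⟩, hz, ⟨y, Subgroup.subset_closure hy⟩, hy,
      fun h => hzy (congrArg Subtype.val h)⟩
  have hxy : x ∈ adj D y := ⟨hx, hy.2.1.symm, hy.2.2.symm⟩
  have hsing' : adj D y = {x} := by
    have hn : (adj D y).ncard = 1 := by
      rw [ncard_adj_eq hD hy.1 hx, hsing, Set.ncard_singleton]
    obtain ⟨z, hz⟩ := Set.ncard_eq_one.1 hn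
    rw [hz] at hxy ⊢
    rw [Set.mem_singleton_iff.1 hxy]
  refine hy.2.1 (vRel_eq hD ⟨x, hx, y, hy.1, hy.2.1.symm⟩ hc.1 hx hy.1 fun e he => ?_).symm
  constructor <;> intro hce
  · by_cases h1 : e = y
    · exact h1 ▸ hy.2.2
    · have h3 : e ∈ adj D y := ⟨he, h1, hce⟩
      rw [hsing', Set.mem_singleton_iff] at h3
      exact h3 ▸ Commute.refl x
  · by_cases h1 : e = x
    · exact h1 ▸ hy.2.2.symm
    · have h3 : e ∈ adj D x := ⟨he, h1, hce⟩
      rw [hsing, Set.mem_singleton_iff] at h3
      exact h3 ▸ Commute.refl y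

theorem loc_class [Finite G] (hD : IsThreeTranspositionClass D) (hc : CentralCores G) {x : G}
    (hx : x ∈ D) (hne : (adj D x).Nonempty) : IsThreeTranspositionClass (locSet D x) := by
  obtain ⟨y, hy⟩ := id hne
  have h2 : ∃ a ∈ D, ∃ b ∈ D, a ≠ b := ⟨x, hx, y, hy.1, hy.2.1.symm⟩
  have hg := group_of_class hD
  refine ⟨⟨fun h hh => ?_, fun h hh k hk => ?_⟩, ⟨⟨y, Subgroup.subset_closure hy⟩, hy, ?_⟩, ?_⟩
  · rw [← Subgroup.orderOf_coe]; exact hg.1.1 _ hh.1
  · rcases hg.1.2 _ hh.1 _ hk.1 with h1 | h1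
    · exact Or.inl (Subtype.ext h1)
    · exact Or.inr (Subtype.ext h1)
  · ext h
    constructor
    · intro hh
      obtain ⟨g, hgm, hge⟩ := loc_transitive hD h2 hc hx hy hh
      exact isConj_iff.2 ⟨⟨g, hgm⟩, Subtype.ext hge⟩
    · intro hh
      obtain ⟨g, rfl⟩ := isConj_iff.1 (show IsConj (⟨y, Subgroup.subset_closure hy⟩ : Loc D x) h from hh)
      have hgx : (g : G) * x * (g : G)⁻¹ = x := by
        rw [(commute_of_mem_Loc g.2).eq, mul_assoc, mul_inv_cancel, mul_one]
      show (g : G) * y * (g : G)⁻¹ ∈ adj D x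
      have h5 : (g : G) * y * (g : G)⁻¹ ∈ adj D ((g : G) * x * (g : G)⁻¹) := by
        rw [adj_conj_image hg.2.1]; exact ⟨y, hy, rfl⟩
      rwa [hgx] at h5
  · have h := Subgroup.closure_closure_coe_preimage (k := adj D x)
    exact h

theorem centralCores_mulEquiv {H H' : Type*} [Group H] [Group H'] (e : H ≃* H')
    (h : CentralCores H) : CentralCores H' := by
  have key : ∀ p, pCore p H ≤ Subgroup.center H → pCore p H' ≤ Subgroup.center H' := by
    intro p hp y hy
    rw [← Cores.pCore_map_mulEquiv e] at hy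
    obtain ⟨x, hx, rfl⟩ := hy
    rw [Subgroup.mem_center_iff]
    intro z
    obtain ⟨w, rfl⟩ := e.surjective z
    show e w * e x = e x * e w
    rw [← map_mul, ← map_mul, Subgroup.mem_center_iff.1 (hp hx) w]
  exact ⟨key 2 h.1, key 3 h.2⟩

theorem centralCores_loc_transport (hD : IsThreeTranspositionClass D) {x y : G} (hx : x ∈ D)
    (hy : y ∈ D) (h : CentralCores (Loc D x)) : CentralCores (Loc D y) := by
  obtain ⟨g, hg⟩ := class_conj hD hx hy
  have e : (Loc D x).map (MulAut.conj g).toMonoidHom = Loc D y := by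
    rw [Loc, Loc, MonoidHom.map_closure, ← hg, adj_conj_image (group_of_class hD).2.1]
    rfl
  exact centralCores_mulEquiv
    (((Loc D x).equivMapOfInjective _ (MulAut.conj g).injective).trans (MulEquiv.subgroupCongr e)) h

/-! ### simple quotients by the centre -/

theorem adj_nonempty_of_simple_quotient {x : G}
    (hs : IsSimpleGroup (↥(Loc D x) ⧸ Subgroup.center ↥(Loc D x))) : (adj D x).Nonempty := by
  by_contra h
  rw [Set.not_nonempty_iff_eq_empty] at h
  have e : Loc D x = ⊥ := by rw [Loc, h, Subgroup.closure_empty]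
  have : Subsingleton ↥(Loc D x) := by rw [e]; infer_instance
  have := hs.toNontrivial
  exact not_subsingleton (↥(Loc D x) ⧸ Subgroup.center ↥(Loc D x)) inferInstance

theorem pCore_two_le_center_of_simple_quotient [Finite G] (hD : IsThreeTranspositionSet D)
    (_hgen : Subgroup.closure D = ⊤) (hs : IsSimpleGroup (G ⧸ Subgroup.center G))
    (hn : ∃ c ∈ D, ∃ e ∈ D, ¬ Commute c e) : pCore 2 G ≤ Subgroup.center G := by
  have : Fact (Nat.Prime 2) := ⟨Nat.prime_two⟩
  have hsurj : Function.Surjective (toQ G) := QuotientGroup.mk'_surjective _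
  rcases hs.eq_bot_or_eq_top_of_normal ((pCore 2 G).map (toQ G))
      ((inferInstance : (pCore 2 G).Normal).map _ hsurj) with h | h
  · intro x hx
    have : toQ G x ∈ (pCore 2 G).map (toQ G) := ⟨x, hx, rfl⟩
    rw [h, Subgroup.mem_bot] at this
    exact (QuotientGroup.eq_one_iff _).1 this
  · exfalso
    have hp : IsPGroup 2 (G ⧸ Subgroup.center G) := by
      have h1 := (Cores.isPGroup_pCore 2 G).map (toQ G)
      rw [h] at h1
      exact h1.of_equiv Subgroup.topEquiv
    obtain ⟨c, hc, e, he, hce⟩ := hn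
    have h3 := pow_three_of_not_commute hD hc he hce
    obtain ⟨k, hk⟩ := hp (toQ G (c * e))
    have h1 : toQ G (c * e) = 1 := eq_one_of_pow_coprime hk
      (by rw [← map_pow, h3, map_one]) (Nat.Coprime.pow_left k (by norm_num))
    have hz := (QuotientGroup.eq_one_iff _).1 h1
    exact hce ((eq_of_mul_mem_center hD hc he he hce hz) ▸ Commute.refl c)

theorem exists_noncommuting_of_simple_quotient (hgen : Subgroup.closure D = ⊤)
    (hs : IsSimpleGroup (G ⧸ Subgroup.center G)) : ∃ c ∈ D, ∃ e ∈ D, ¬ Commute c e := by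
  by_contra h
  have htop : Subgroup.center G = ⊤ := by
    rw [eq_top_iff]
    intro g _
    have hg : g ∈ Subgroup.closure D := by rw [hgen]; exact Subgroup.mem_top g
    refine (Subgroup.closure_le _).2 (fun e he => ?_) hg
    refine commute_all_of_gen hgen fun d hd => ?_
    by_contra hde
    exact h ⟨d, hd, e, he, hde⟩
  have := hs.toNontrivial
  have : Subsingleton (G ⧸ Subgroup.center G) := by
    rw [htop]; exact QuotientGroup.subsingleton_quotient_top
  exact not_subsingleton (G ⧸ Subgroup.center G) inferInstance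

/-- If some local group is simple modulo its centre, no two members commute with the same members. -/
theorem vRel_trivial_of_local_simple [Finite G] (hD : IsThreeTranspositionClass D) {d : G}
    (hd : d ∈ D) (hs : IsSimpleGroup (↥(Loc D d) ⧸ Subgroup.center ↥(Loc D d)))
    {u v : G} (hu : u ∈ D) (hv : v ∈ D) (h : VRel D u v) : u = v := by
  have hg := group_of_class hD
  by_contra hne
  -- transport the pair to any member
  have hex : ∀ c ∈ D, ∃ c' ∈ D, c' ≠ c ∧ VRel D c c' := by
    intro c hcD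
    obtain ⟨g, rfl⟩ := class_conj hD hu hcD
    refine ⟨g * v * g⁻¹, hg.2.1 g v hv, fun e => hne (mul_left_cancel (mul_right_cancel e)).symm, ?_⟩
    intro e he
    have tr : ∀ z : G, Commute (g * z * g⁻¹) e ↔ Commute z (g⁻¹ * e * g) := by
      intro z
      constructor <;> intro hh
      · simpa [mul_assoc] using hh.map (MulAut.conj g⁻¹).toMonoidHom
      · simpa [mul_assoc] using hh.map (MulAut.conj g).toMonoidHom
    rw [tr, tr]
    exact h _ (by simpa using hg.2.1 g⁻¹ e he)
  have hset : IsThreeTranspositionSet (locSet D d) := by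
    refine ⟨fun h hh => by rw [← Subgroup.orderOf_coe]; exact hg.1.1 _ hh.1, fun h hh k hk => ?_⟩
    rcases hg.1.2 _ hh.1 _ hk.1 with h1 | h1
    · exact Or.inl (Subtype.ext h1)
    · exact Or.inr (Subtype.ext h1)
  have hgen : Subgroup.closure (locSet D d) = ⊤ := Subgroup.closure_closure_coe_preimage (k := adj D d)
  obtain ⟨c, hcm, e, hem, hce⟩ := exists_noncommuting_of_simple_quotient hgen hs
  rw [commute_coe_iff] at hce
  obtain ⟨c', hc'D, hc'ne, hc'⟩ := hex c hcm.1
  have hc'd : c' ≠ d := fun e' => by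
    -- then d and c commute with the same members, so c would commute with e
    have h1 : Commute d (e : G) := hem.2.2
    exact hce ((hc' e hem.1).1 (e'.symm ▸ h1))
  have hc'adj : c' ∈ adj D d := ⟨hc'D, hc'd, ((hc' d hd).2 hcm.2.2.symm).symm⟩
  have hmem : (c : G) * c' ∈ pCore 2 G := mul_mem_pCore_two_of_vRel hg.1 hg.2.1 hcm.1 hc'D hc'
  let z : ↥(Loc D d) := c * ⟨c', Subgroup.subset_closure hc'adj⟩
  have hz : z ∈ pCore 2 ↥(Loc D d) := by
    refine Cores.le_pCore ((inferInstance : (pCore 2 G).Normal).subgroupOf _)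
      ((Cores.isPGroup_pCore 2 G).comap_of_injective _ (Loc D d).subtype_injective) ?_
    exact hmem
  have hzc := pCore_two_le_center_of_simple_quotient hset hgen hs
    ⟨c, hcm, e, hem, fun h => hce (commute_coe_iff.1 h)⟩ hz
  have h5 : Commute (e : G) ((c : G) * c') :=
    commute_coe_iff.1 (Subgroup.mem_center_iff.1 hzc e : Commute e z)
  have hcc' : Commute (c : G) c' := ((hc' c hcm.1).2 (Commute.refl _)).symm
  exact hce ((commute_mul_iff hg.1 hcm.1 hc'D hem.1 hc'ne.symm hcc').1 h5).1.symm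

end Cfsg.Agent.ThreeTrans
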