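/-
Products of commuting transpositions in groups of type M(23) and M(24).

Main results:
* `pair_unique`, `triple_mem`
* `vRel_adj_trivial_of_M23`, `vRel_adj_trivial_of_M24`
-/
import Cfsg.Agent.Lib.ThreeTrans.Local
import Cfsg.Agent.S0283

namespace Cfsg.Agent.ThreeTrans

open Cfsg

variable {G : Type*} [Group G] {D : Set G}

theorem adj_eq_iff_commute {x : G} {y : G} (hx : x ∈ D) :
    y ∈ D ∧ Commute x y ↔ y = x ∨ y ∈ adj D x := by
  constructor
  · rintro ⟨hy, hc⟩
    by_cases h : y = x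
    · exact Or.inl h
    · exact Or.inr ⟨hy, h, hc⟩
  · rintro (rfl | h)
    · exact ⟨hx, Commute.refl _⟩
    · exact ⟨h.1, h.2.2⟩

/-- In a class with central 2-core a product of two commuting members determines them. -/
theorem pair_unique [Finite G] (hD : IsThreeTranspositionClass D) (hc : pCore 2 G ≤ Subgroup.center G)
    {a b c d : G} (ha : a ∈ D) (hb : b ∈ D) (hc' : c ∈ D) (hd : d ∈ D) (hab : a ≠ b) (hcd : c ≠ d)
    (c1 : Commute a b) (c2 : Commute c d) (h : a * b = c * d) : a = c ∨ a = d := by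
  have hg := group_of_class hD
  by_contra hcon
  simp only [not_or] at hcon
  have hbc : b ≠ c := fun e => hcon.2 (by
    apply mul_right_cancel (b := b)
    rw [h, c2.eq, ← e])
  have hbd : b ≠ d := fun e => hcon.1 (by
    apply mul_right_cancel (b := b)
    rw [h, e])
  -- a, b commute with c and d
  have hac := (commute_mul_iff hg.1 hc' hd ha hcd c2).1 (h ▸ (Commute.refl a).mul_right c1)
  have hbcd := (commute_mul_iff hg.1 hc' hd hb hcd c2).1 (h ▸ c1.symm.mul_right (Commute.refl b))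
  have hd' : d = c * a * b := by rw [mul_assoc, h, mul_self_cancel hg.1 hc']
  -- everything commuting with d commutes with a
  have hsub : ∀ e ∈ D, Commute d e → Commute a e := by
    intro e he hde
    rw [hd'] at hde
    exact ((commute_mul_three_iff hg.1 hc' ha hb he (Ne.symm hcon.1) (Ne.symm hbc) hab hac.1.symm
      hbcd.1.symm c1).1 hde.symm).2.1.symm
  have heq : {e | e ∈ D ∧ Commute d e} = {e | e ∈ D ∧ Commute a e} := by
    refine Set.eq_of_subset_of_ncard_le (fun e he => ⟨he.1, hsub e he.1 he.2⟩) ?_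
    obtain ⟨g, hga⟩ := class_conj hD hd ha
    refine Set.ncard_le_ncard_of_injOn (fun e => g⁻¹ * e * g) ?_
      (fun u _ v _ h => mul_left_cancel (mul_right_cancel h))
    intro e he
    refine ⟨by simpa using hg.2.1 g⁻¹ e he.1, ?_⟩
    have := he.2.map (MulAut.conj g⁻¹).toMonoidHom
    rw [← hga] at this
    simpa [mul_assoc] using this
  obtain ⟨f, hf, hdf⟩ := exists_not_commute hD ⟨a, ha, b, hb, hab⟩ hd
  apply hcon.2
  refine (vRel_eq hD ⟨a, ha, b, hb, hab⟩ hc hd ha fun e he => ?_).symm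
  have := Set.ext_iff.1 heq e
  simp only [Set.mem_ofPred_eq, he, true_and] at this
  exact this.symm

/-- No two members commute with the same members among those commuting with two given members. -/
def AdjSeparated (D : Set G) : Prop :=
  ∀ a ∈ D, ∀ b ∈ adj D a, ∀ c ∈ adj D a ∩ adj D b, ∀ d ∈ adj D a ∩ adj D b,
    (∀ y ∈ adj D a ∩ adj D b, Commute c y ↔ Commute d y) → c = d

/-- A product of three commuting members determines them. -/
theorem triple_mem [Finite G] (hD : IsThreeTranspositionClass D) (hc : pCore 2 G ≤ Subgroup.center G)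
    (hsep : AdjSeparated D) {a b c d e f : G} (ha : a ∈ D) (hb : b ∈ D) (hc' : c ∈ D) (hd : d ∈ D)
    (he : e ∈ D) (hf : f ∈ D) (hab : a ≠ b) (hac : a ≠ c) (hbc : b ≠ c) (hde : d ≠ e) (hdf : d ≠ f)
    (hef : e ≠ f) (c1 : Commute a b) (c2 : Commute a c) (c3 : Commute b c) (c4 : Commute d e)
    (c5 : Commute d f) (c6 : Commute e f) (h : a * b * c = d * e * f) : a = d ∨ a = e ∨ a = f := by
  have hg := group_of_class hD
  have hs := hg.1
  have cx : ∀ x ∈ ({a, b, c} : Set G), Commute x d ∧ Commute x e ∧ Commute x f ∧ x ∈ D := by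
    intro x hx
    have hxD : x ∈ D := by rcases hx with rfl | rfl | rfl <;> assumption
    have hxj : Commute x (d * e * f) := by
      rw [← h]
      rcases hx with rfl | rfl | rfl
      · exact ((Commute.refl _).mul_right c1).mul_right c2
      · exact (c1.symm.mul_right (Commute.refl _)).mul_right c3
      · exact (c2.symm.mul_right c3.symm).mul_right (Commute.refl _)
    obtain ⟨h1, h2, h3⟩ := (commute_mul_three_iff hs hd he hf hxD hde hdf hef c4 c5 c6).1 hxj
    exact ⟨h1, h2, h3, hxD⟩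
  obtain ⟨had, hae, haf, -⟩ := cx a (Or.inl rfl)
  obtain ⟨hbd, hbe, hbf, -⟩ := cx b (Or.inr (Or.inl rfl))
  obtain ⟨hcd, hce, hcf, -⟩ := cx c (Or.inr (Or.inr rfl))
  by_contra hcon
  simp only [not_or] at hcon
  obtain ⟨nad, nae, naf⟩ := hcon
  -- rearrangements
  have hde' : d * e * f = e * (d * f) := by rw [c4.eq, mul_assoc]
  have hdf' : d * e * f = f * (d * e) := ((c5.symm.mul_right c6.symm).eq).symm
  -- if b is one of d, e, f then so is a
  have reduce : ∀ u ∈ D, ∀ w ∈ D, u ≠ w → Commute u w → a ≠ u → a ≠ w →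
      a * c = u * w → False := fun u hu w hw huw cuw n1 n2 e1 => by
    rcases pair_unique hD hc ha hc' hu hw hac huw c2 cuw e1 with h1 | h1
    · exact n1 h1
    · exact n2 h1
  have reduce' : ∀ u ∈ D, ∀ w ∈ D, u ≠ w → Commute u w → a ≠ u → a ≠ w →
      a * b = u * w → False := fun u hu w hw huw cuw n1 n2 e1 => by
    rcases pair_unique hD hc ha hb hu hw hab huw c1 cuw e1 with h1 | h1
    · exact n1 h1
    · exact n2 h1
  have habc : a * b * c = b * (a * c) := by rw [c1.eq, mul_assoc]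
  have nbd : b ≠ d := fun e1 => reduce e he f hf hef c6 nae naf (by
    rw [habc, mul_assoc, ← e1] at h
    exact mul_left_cancel h)
  have nbe : b ≠ e := fun e1 => reduce d hd f hf hdf c5 nad naf (by
    rw [habc, hde', ← e1] at h
    exact mul_left_cancel h)
  have nbf : b ≠ f := fun e1 => reduce d hd e he hde c4 nad nae (by
    rw [habc, hdf', ← e1] at h
    exact mul_left_cancel h)
  have hcab : a * b * c = c * (a * b) := ((c2.symm.mul_right c3.symm).eq).symm
  have ncd : c ≠ d := fun e1 => reduce' e he f hf hef c6 nae naf (by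
    rw [hcab, mul_assoc d e f, ← e1] at h
    exact mul_left_cancel h)
  have nce : c ≠ e := fun e1 => reduce' d hd f hf hdf c5 nad naf (by
    rw [hcab, hde', ← e1] at h
    exact mul_left_cancel h)
  have ncf : c ≠ f := fun e1 => reduce' d hd e he hde c4 nad nae (by
    rw [hcab, hdf', ← e1] at h
    exact mul_left_cancel h)
  -- a * b = c * d * e * f
  have hab' : a * b = c * (d * e * f) := by
    rw [← h, hcab, mul_self_cancel hs hc']
  have mS : c ∈ adj D a ∩ adj D b := ⟨⟨hc', hac.symm, c2⟩, ⟨hc', hbc.symm, c3⟩⟩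
  have dS : d ∈ adj D a ∩ adj D b := ⟨⟨hd, Ne.symm nad, had⟩, ⟨hd, nbd.symm, hbd⟩⟩
  refine ncd (hsep a ha b ⟨hb, hab.symm, c1⟩ c mS d dS fun y hy => ?_)
  have hy' : Commute y (c * (d * e * f)) := hab' ▸ hy.1.2.2.symm.mul_right hy.2.2.2.symm
  have hcc : c * (d * e * f) = d * (c * e * f) := by
    calc c * (d * e * f) = (c * d) * e * f := by simp only [mul_assoc]
      _ = (d * c) * e * f := by rw [hcd.eq]
      _ = _ := by simp only [mul_assoc]
  constructor <;> intro hcy
  · have h1 : Commute y (d * e * f) := by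
      have h2 := hcy.symm.mul_right hy'
      rwa [mul_self_cancel hs hc'] at h2
    exact ((commute_mul_three_iff hs hd he hf hy.1.1 hde hdf hef c4 c5 c6).1 h1).1.symm
  · have h1 : Commute y (c * e * f) := by
      have h2 := hcy.symm.mul_right hy'
      rwa [hcc, mul_self_cancel hs hd] at h2
    exact ((commute_mul_three_iff hs hc' he hf hy.1.1 nce ncf hef hce hcf c6).1 h1).1.symm

/-- Type M(22) gives a member whose local group is simple modulo the centre. -/
theorem exists_simple_of_M22 (h : IsOfTypeM22 G D) :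
    ∃ d ∈ D, IsSimpleGroup (↥(Loc D d) ⧸ Subgroup.center ↥(Loc D d)) := by
  obtain ⟨-, d, hd, c, -, -, ⟨F, _, _, hF, ⟨e⟩⟩, -⟩ := h
  refine ⟨d, hd, ?_⟩
  have hs : IsSimpleGroup (PSU 6 F 2) := S0283.result (q := 2) (by rw [hF]; norm_num) 6 (by norm_num) (by norm_num)
  exact e.isSimpleGroup

/-- In a group of type M(22), neighbourhoods separate points. -/
theorem exists_sep_of_M22 [Finite G] (hD : IsThreeTranspositionClass D) (hc : CentralCores G)
    (h : IsOfTypeM22 G D) :
    ∃ q ∈ D, ∀ u ∈ adj D q, ∀ v ∈ adj D q,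
      (∀ y ∈ adj D q, Commute u y ↔ Commute v y) → u = v := by
  obtain ⟨q, hq, hs⟩ := exists_simple_of_M22 h
  have hne := adj_nonempty_of_simple_quotient hs
  have hL := loc_class hD hc hq hne
  refine ⟨q, hq, fun u hu v hv huv => ?_⟩
  have hcore := pCore_two_le_center_of_simple_quotient hL.1 hL.2.2 hs
    (exists_noncommuting_of_simple_quotient hL.2.2 hs)
  have := vRel_eq hL (loc_two hD hc hq hne) hcore
    (show (⟨u, Subgroup.subset_closure hu⟩ : Loc D q) ∈ locSet D q from hu)
    (show (⟨v, Subgroup.subset_closure hv⟩ : Loc D q) ∈ locSet D q from hv)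
    fun y hy => by
      rw [commute_coe_iff, commute_coe_iff]
      exact (huv y hy).symm
  exact congrArg Subtype.val this

/-- In a group of type M(23), neighbourhoods separate points. -/
theorem exists_sep_of_M23 [Finite G] (hD : IsThreeTranspositionClass D) (hc : CentralCores G)
    (h : IsOfTypeM23 G D) :
    ∃ q ∈ D, ∀ u ∈ adj D q, ∀ v ∈ adj D q,
      (∀ y ∈ adj D q, Commute u y ↔ Commute v y) → u = v := by
  obtain ⟨-, q, hq, c, -, -, h22, -⟩ := h
  change IsOfTypeM22 (↥(Loc D q) ⧸ Subgroup.center ↥(Loc D q)) (toQ ↥(Loc D q) '' locSet D q) at h22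
  have hne : (adj D q).Nonempty := by
    obtain ⟨d', ⟨x, hx, rfl⟩, -⟩ := exists_simple_of_M22 h22
    exact ⟨_, hx⟩
  have hL := loc_class hD hc hq hne
  have hL2 := loc_two hD hc hq hne
  have hQ := class_quotient hL hL2
  obtain ⟨d', hd', hs⟩ := exists_simple_of_M22 h22
  refine ⟨q, hq, fun u hu v hv huv => ?_⟩
  have hU : (⟨u, Subgroup.subset_closure hu⟩ : Loc D q) ∈ locSet D q := hu
  have hV : (⟨v, Subgroup.subset_closure hv⟩ : Loc D q) ∈ locSet D q := hv
  have := vRel_trivial_of_local_simple hQ hd' hs ⟨_, hU, rfl⟩ ⟨_, hV, rfl⟩ (by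
    rintro _ ⟨y, hy, rfl⟩
    constructor <;> intro hh
    · have h1 := commute_coe_iff.1 (commute_of_commute_mk hL hL2 hV hy hh)
      exact (commute_coe_iff.2 ((huv _ hy).2 h1)).map _
    · have h1 := commute_coe_iff.1 (commute_of_commute_mk hL hL2 hU hy hh)
      exact (commute_coe_iff.2 ((huv _ hy).1 h1)).map _)
  exact congrArg Subtype.val (mk_inj hL hL2 hU hV this)

/-- The basic consequences of the hypotheses of the statements about M(22), M(23), M(24). -/
theorem mtype_setup [Finite G] (hD : IsThreeTranspositionGroup D) (hprim : IsPrimitiveUnderConj D)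
    {d : G} (hd : d ∈ D) (hne : (adj D d).Nonempty) :
    IsThreeTranspositionClass D ∧ CentralCores G := by
  obtain ⟨y, hy⟩ := hne
  exact ⟨class_of_primitive hD hprim,
    centralCores_of_primitive hD hprim ⟨d, hd, y, hy.1, hy.2.1.symm, hy.2.2⟩⟩

theorem adjSeparated_of_type [Finite G] (hD : IsThreeTranspositionClass D) (hc : CentralCores G)
    {d₀ : G} (hd₀ : d₀ ∈ D) (hne : (adj D d₀).Nonempty) (hl : CentralCores (Loc D d₀))
    (h : IsOfTypeM23 G D ∨ IsOfTypeM24 G D) : AdjSeparated D := by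
  have hcl : ∀ a ∈ D, CentralCores (Loc D a) := fun a ha => centralCores_loc_transport hD hd₀ ha hl
  -- one point suffices, by conjugation
  have key : ∀ a ∈ D, (toQ ↥(Loc D a) '' locSet D a).Nonempty →
      IsThreeTranspositionClass (toQ ↥(Loc D a) '' locSet D a) ∧
        CentralCores (↥(Loc D a) ⧸ Subgroup.center ↥(Loc D a)) := by
    intro a ha _
    have hne' := adj_nonempty_all hD hd₀ ha hne
    exact ⟨class_quotient (loc_class hD hc ha hne') (loc_two hD hc ha hne'),
      centralCores_of_trivialRadical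
        (trivialRadical_quotient (group_of_class (loc_class hD hc ha hne')) (hcl a ha))⟩
  -- a member with separation in the quotient of its local group
  obtain ⟨a₀, ha₀, q, hq, hsep⟩ : ∃ a₀ ∈ D, ∃ q ∈ toQ ↥(Loc D a₀) '' locSet D a₀,
      ∀ u ∈ adj (toQ ↥(Loc D a₀) '' locSet D a₀) q, ∀ v ∈ adj (toQ ↥(Loc D a₀) '' locSet D a₀) q,
        (∀ y ∈ adj (toQ ↥(Loc D a₀) '' locSet D a₀) q, Commute u y ↔ Commute v y) → u = v := by
    rcases h with h | h
    · obtain ⟨-, a, ha, c, -, -, h22, -⟩ := h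
      change IsOfTypeM22 (↥(Loc D a) ⧸ Subgroup.center ↥(Loc D a)) (toQ ↥(Loc D a) '' locSet D a) at h22
      obtain ⟨x, hx, -⟩ := exists_simple_of_M22 h22
      obtain ⟨k1, k2⟩ := key a ha ⟨x, hx⟩
      exact ⟨a, ha, exists_sep_of_M22 k1 k2 h22⟩
    · obtain ⟨-, a, ha, c, -, -, h23, -⟩ := h
      change IsOfTypeM23 (↥(Loc D a) ⧸ Subgroup.center ↥(Loc D a)) (toQ ↥(Loc D a) '' locSet D a) at h23
      obtain ⟨k1, k2⟩ := key a ha (by obtain ⟨-, x, hx, -⟩ := h23; exact ⟨x, hx⟩)
      exact ⟨a, ha, exists_sep_of_M23 k1 k2 h23⟩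
  -- transport separation to every member
  obtain ⟨x, hx, rfl⟩ := hq
  have hsep' : ∀ c ∈ adj D a₀ ∩ adj D (x : G), ∀ d ∈ adj D a₀ ∩ adj D (x : G),
      (∀ y ∈ adj D a₀ ∩ adj D (x : G), Commute c y ↔ Commute d y) → c = d := by
    intro c hcS d hdS hrel
    have hne' := adj_nonempty_all hD hd₀ ha₀ hne
    have hL := loc_class hD hc ha₀ hne'
    have hL2 := loc_two hD hc ha₀ hne'
    have inA : ∀ {z : ↥(Loc D a₀)}, (z : G) ∈ adj D a₀ ∩ adj D (x : G) →
        toQ _ z ∈ adj (toQ ↥(Loc D a₀) '' locSet D a₀) (toQ _ x) := by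
      intro z hz
      rw [adj_quotient hL hL2 hx]
      exact ⟨z, ⟨hz.1, fun e => hz.2.2.1 (congrArg Subtype.val e), Subtype.ext hz.2.2.2⟩, rfl⟩
    let cL : ↥(Loc D a₀) := ⟨c, Subgroup.subset_closure hcS.1⟩
    let dL : ↥(Loc D a₀) := ⟨d, Subgroup.subset_closure hdS.1⟩
    have := hsep (toQ _ cL) (inA hcS) (toQ _ dL) (inA hdS) (by
      intro z hz
      rw [adj_quotient hL hL2 hx] at hz
      obtain ⟨y, ⟨hy1, hy2, hy3⟩, rfl⟩ := hz
      have hyS : (y : G) ∈ adj D a₀ ∩ adj D (x : G) :=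
        ⟨hy1, hy1.1, fun e => hy2 (Subtype.ext e), commute_coe_iff.1 hy3⟩
      constructor <;> intro hh
      · have h1 := commute_of_commute_mk hL hL2 (show cL ∈ locSet D a₀ from hcS.1) hy1 hh
        exact (show Commute dL y from Subtype.ext ((hrel y hyS).1 (commute_coe_iff.1 h1))).map _
      · have h1 := commute_of_commute_mk hL hL2 (show dL ∈ locSet D a₀ from hdS.1) hy1 hh
        exact (show Commute cL y from Subtype.ext ((hrel y hyS).2 (commute_coe_iff.1 h1))).map _)
    exact congrArg Subtype.val (mk_inj hL hL2 (show cL ∈ locSet D a₀ from hcS.1) hdS.1 this)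
  intro a ha b hb c hcS d hdS hrel
  have hg := group_of_class hD
  have h2 : ∃ u ∈ D, ∃ v ∈ D, u ≠ v := ⟨a, ha, b, hb.1, hb.2.1.symm⟩
  obtain ⟨g₁, hg₁⟩ := class_conj hD ha₀ ha
  have hx₁ : g₁ * (x : G) * g₁⁻¹ ∈ adj D a := by
    rw [← hg₁, adj_conj_image hg.2.1]; exact ⟨x, hx, rfl⟩
  obtain ⟨g₂, hg₂a, hg₂⟩ := commuting_transitive_of_centralCores hD h2 hc ha hx₁ hb
  set g := g₂ * g₁ with hgdef
  have ea : g * a₀ * g⁻¹ = a := by
    calc g * a₀ * g⁻¹ = g₂ * (g₁ * a₀ * g₁⁻¹) * g₂⁻¹ := by rw [hgdef]; group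
      _ = a := by rw [hg₁, hg₂a.eq, mul_assoc, mul_inv_cancel, mul_one]
  have eb : g * (x : G) * g⁻¹ = b := by rw [← hg₂, hgdef]; group
  have tr : ∀ z, z ∈ adj D a ∩ adj D b ↔ g⁻¹ * z * g ∈ adj D a₀ ∩ adj D (x : G) := by
    intro z
    rw [← ea, ← eb, Set.mem_inter_iff, Set.mem_inter_iff, conj_adj hg.2.1, conj_adj hg.2.1]
  have := hsep' _ ((tr c).1 hcS) _ ((tr d).1 hdS) (by
    intro y hy
    have hy' : g * y * g⁻¹ ∈ adj D a ∩ adj D b := (tr _).2 (by simpa [mul_assoc] using hy)
    have t : ∀ u, Commute (g⁻¹ * u * g) y ↔ Commute u (g * y * g⁻¹) := by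
      intro u
      constructor <;> intro hh
      · simpa [mul_assoc] using hh.map (MulAut.conj g).toMonoidHom
      · simpa [mul_assoc] using hh.map (MulAut.conj g⁻¹).toMonoidHom
    rw [t, t]
    exact hrel _ hy')
  exact mul_left_cancel (mul_right_cancel this)

end Cfsg.Agent.ThreeTrans
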