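/-
The generalised Fitting subgroup of a group generated by a class of 3-transpositions.

Main results:
* `layer_eq_bot_of_core`, `not_both_cores`, `layer_ne_bot`
* `component_normal`, `component_unique`, `genFitting_eq`, `inv_mul_mem_component`, `width_one_mod_component`
* `connected_iff`, `index_le_two_of_connected`, `connected_of_index_le_two`, `primitive_of_connected`
* `connected_of_primitive`, `eq_top_of_contains_local`
-/
import Cfsg.Agent.Lib.ThreeTrans.Local
import Cfsg.Agent.Lib.ThreeTrans.WidthOne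
import Cfsg.Agent.Lib.Components.GenFitting

namespace Cfsg.Agent.ThreeTrans

open Cfsg Cfsg.Agent.ThreeTransRank Cfsg.Agent.Components Relation
open scoped commutatorElement

variable {G : Type*} [Group G] {D : Set G}

/-! ### cores and the layer -/

theorem exists_pair_of_not_central (hD : IsThreeTranspositionClass D) {R : Subgroup G} [R.Normal]
    (hR : ¬ R ≤ Subgroup.center G) {d : G} (hd : d ∈ D) : ∃ v ∈ D, v ≠ d ∧ d⁻¹ * v ∈ R := by
  have hg := group_of_class hD
  by_contra hcon
  apply hR
  intro n hn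
  refine commute_all_of_gen hD.2.2 fun e he => ?_
  by_contra hne
  apply hcon
  obtain ⟨g, hge⟩ := class_conj hD he hd
  refine ⟨g * (n * e * n⁻¹) * g⁻¹, hg.2.1 g _ (hg.2.1 n e he), ?_, ?_⟩
  · rw [← hge]
    intro h
    apply hne
    have h' := mul_left_cancel (mul_right_cancel h)
    show e * n = n * e
    calc e * n = n * e * n⁻¹ * n := by rw [h']
      _ = n * e := by group
  · rw [← hge]
    exact (conj_coset R g e _).2 (inv_mul_conj_mem hn)

theorem not_both_cores [Finite G] (hD : IsThreeTranspositionClass D)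
    (h2 : ∃ a ∈ D, ∃ b ∈ D, a ≠ b) (hn2 : ¬ pCore 2 G ≤ Subgroup.center G) :
    pCore 3 G ≤ Subgroup.center G := by
  by_contra hn3
  have hg := group_of_class hD
  obtain ⟨d, hd, -, -, -⟩ := id h2
  obtain ⟨v, hv, hvd, hvR⟩ := exists_pair_of_not_central hD hn2 hd
  obtain ⟨w, hw, hwd, hwR⟩ := exists_pair_of_not_central hD hn3 hd
  have hV := vRel_of_mem_pCore_two hg.1 hd hv hvR
  have hW := adj_eq_of_mem_pCore_three hg.1 hd hw hwR
  have hdv : Commute d v := ((hV d hd).2 (Commute.refl d)).symm
  have hmem : v ∈ adj D d := ⟨hv, hvd, hdv⟩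
  rw [hW] at hmem
  exact not_commute_of_adj_eq hw hW hwd.symm ((hV w hw).1 hmem.2.2.symm)

theorem layer_eq_bot_of_core [Finite G] (hgen : Subgroup.closure D = ⊤) (R : Subgroup G) [R.Normal]
    (hR : Group.IsSolvable R)
    (h : ∀ d ∈ D, ∀ k ∈ Subgroup.centralizer (R : Set G), d⁻¹ * (k * d * k⁻¹) ∈ R) :
    layer G = ⊥ := by
  rw [layer_eq_bot_iff]
  intro K hK
  have hcent : layer G ≤ Subgroup.centralizer (R : Set G) :=
    layer_le_centralizer_of_solvable hR (by rw [Subgroup.normalizer_eq_top]; exact le_top)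
  have hsurj : Function.Surjective (QuotientGroup.mk' R) := QuotientGroup.mk'_surjective R
  refine IsComponent.not_le_of_isSolvable hK hR ?_
  rw [← IsComponent.perfect hK, Subgroup.commutator_le]
  intro a ha b _
  have hc : QuotientGroup.mk' R a ∈ Subgroup.center (G ⧸ R) := by
    refine commute_all_of_gen (D := QuotientGroup.mk' R '' D)
      (by rw [← MonoidHom.map_closure, hgen, Subgroup.map_top_of_surjective _ hsurj]) ?_
    rintro _ ⟨d, hd, rfl⟩
    have e : QuotientGroup.mk' R d = QuotientGroup.mk' R (a * d * a⁻¹) :=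
      QuotientGroup.eq.2 (h d hd a (hcent (IsComponent.le_layer hK ha)))
    rw [map_mul, map_mul, map_inv, eq_mul_inv_iff_mul_eq] at e
    exact e
  rw [← QuotientGroup.eq_one_iff (N := R), ← QuotientGroup.mk'_apply, map_commutatorElement,
    commutatorElement_eq_one_iff_commute]
  exact (Subgroup.mem_center_iff.1 hc _).symm

theorem conj_commute_iff {k r x : G} (hk : Commute k r) :
    Commute r (k⁻¹ * x * k) ↔ Commute r x := by
  have e : k * r * k⁻¹ = r := by rw [hk.eq, mul_assoc, mul_inv_cancel, mul_one]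
  have e' : k⁻¹ * r * k = r := by rw [mul_assoc, ← hk.eq, inv_mul_cancel_left]
  constructor <;> intro h
  · have := h.map (MulAut.conj k).toMonoidHom
    simpa [mul_assoc, e, hk.eq] using (by simpa [mul_assoc] using this : Commute (k * r * k⁻¹) x)
  · have := h.map (MulAut.conj k⁻¹).toMonoidHom
    simpa [mul_assoc, e'] using (by simpa using this : Commute (k⁻¹ * r * k) (k⁻¹ * x * k))

theorem layer_eq_bot_of_pCore_two [Finite G] (hD : IsThreeTranspositionClass D)
    (hn : ¬ pCore 2 G ≤ Subgroup.center G) : layer G = ⊥ := by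
  have : Fact (Nat.Prime 2) := ⟨Nat.prime_two⟩
  have hg := group_of_class hD
  refine layer_eq_bot_of_core hD.2.2 (pCore 2 G) ?_ fun d hd k hk => ?_
  · have := (Cores.isPGroup_pCore 2 G).isNilpotent
    infer_instance
  obtain ⟨v, hv, hvd, hvR⟩ := exists_pair_of_not_central hD hn hd
  have hV := vRel_of_mem_pCore_two hg.1 hd hv hvR
  have hdv : Commute d v := ((hV d hd).2 (Commute.refl d)).symm
  have hr : d * v ∈ pCore 2 G := by rwa [inv_eq hg.1 hd] at hvR
  have key : ∀ e ∈ D, Commute d e ↔ Commute (d * v) e := fun e he =>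
    ⟨fun h => ((commute_mul_iff hg.1 hd hv he hvd.symm hdv).2
        ⟨h.symm, ((hV e he).2 h).symm⟩).symm,
      fun h => ((commute_mul_iff hg.1 hd hv he hvd.symm hdv).1 h.symm).1.symm⟩
  have hkr : Commute k (d * v) := (Subgroup.mem_centralizer_iff.1 hk _ hr).symm
  rw [inv_eq hg.1 hd]
  refine mul_mem_pCore_two_of_vRel hg.1 hg.2.1 hd (hg.2.1 k d hd) fun e he => ?_
  have he' : k⁻¹ * e * k ∈ D := by simpa using hg.2.1 k⁻¹ e he
  rw [key e he, ← conj_commute_iff hkr, ← key _ he']
  constructor <;> intro h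
  · simpa [mul_assoc] using h.map (MulAut.conj k⁻¹).toMonoidHom
  · simpa [mul_assoc] using h.map (MulAut.conj k).toMonoidHom

theorem layer_eq_bot_of_pCore_three [Finite G] (hD : IsThreeTranspositionClass D)
    (hn : ¬ pCore 3 G ≤ Subgroup.center G) : layer G = ⊥ := by
  have : Fact (Nat.Prime 3) := ⟨Nat.prime_three⟩
  have hg := group_of_class hD
  refine layer_eq_bot_of_core hD.2.2 (pCore 3 G) ?_ fun d hd k hk => ?_
  · have := (Cores.isPGroup_pCore 3 G).isNilpotent
    infer_instance
  obtain ⟨w, hw, hwd, hwR⟩ := exists_pair_of_not_central hD hn hd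
  have hW := adj_eq_of_mem_pCore_three hg.1 hd hw hwR
  have hn' := not_commute_of_adj_eq hw hW hwd.symm
  have hr : d * w ∈ pCore 3 G := by rwa [inv_eq hg.1 hd] at hwR
  have key : ∀ e ∈ D, e ∈ adj D d ↔ Commute (d * w) e := by
    intro e he
    refine ⟨fun h => ?_, fun h => ?_⟩
    · have h' : e ∈ adj D w := hW ▸ h
      exact h.2.2.mul_left h'.2.2
    · have k1 : w * e * w = d * e * d := by
        calc w * e * w = d * (d * w * e) * w := by
              simp only [mul_assoc, mul_self_cancel hg.1 hd]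
          _ = d * (e * (d * w)) * w := by rw [h.eq]
          _ = d * e * d := by simp only [mul_assoc, mul_self hg.1 hw, mul_one]
      by_cases hc : Commute d e
      · refine ⟨he, ?_, hc⟩
        rintro rfl
        apply hn'
        have := (Commute.refl e).mul_left h
        rwa [mul_self_cancel hg.1 hd, Commute.symm_iff] at this
      · exfalso
        by_cases hc' : Commute w e
        · rw [conj_conj_of_commute hg.1 hw hc'] at k1
          exact hc (commute_of_conj_eq hg.1 hd k1.symm)
        · rw [braid hg.1 hw he hc', braid hg.1 hd he hc] at k1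
          exact hwd (mul_left_cancel (mul_right_cancel k1))
  have hkr : Commute k (d * w) := (Subgroup.mem_centralizer_iff.1 hk _ hr).symm
  rw [inv_eq hg.1 hd]
  refine mul_mem_pCore_three_of_adj_eq hg.1 hg.2.1 hd (hg.2.1 k d hd) ?_
  ext e
  rw [conj_adj hg.2.1]
  constructor <;> intro h
  · exact (key _ (by simpa using hg.2.1 k⁻¹ e h.1)).2 ((conj_commute_iff hkr).2 ((key e h.1).1 h))
  · have he : e ∈ D := by simpa [mul_assoc] using hg.2.1 k _ h.1
    exact (key e he).2 ((conj_commute_iff hkr).1 ((key _ h.1).1 h))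

theorem fitting_eq_center [Finite G] (hD : IsThreeTranspositionGroup D) (hc : CentralCores G) :
    fittingSubgroup G = Subgroup.center G :=
  le_antisymm (fitting_le_center hD hc) Cores.center_le_fittingSubgroup

theorem layer_ne_bot [Finite G] (hD : IsThreeTranspositionClass D)
    (h2 : ∃ a ∈ D, ∃ b ∈ D, a ≠ b) (hc : CentralCores G) : layer G ≠ ⊥ := by
  intro h
  have hF := fitting_eq_center (group_of_class hD) hc
  have h1 := layer_eq_bot_iff_centralizer_fitting_le.2 h
  rw [hF] at h1
  obtain ⟨a, ha, -, -, -⟩ := id h2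
  obtain ⟨e, he, hne⟩ := exists_not_commute hD h2 ha
  apply hne
  have : a ∈ Subgroup.center G := h1 (Subgroup.mem_centralizer_iff.2 fun g hg =>
    (Subgroup.mem_center_iff.1 hg a).symm)
  exact (Subgroup.mem_center_iff.1 this e).symm

/-! ### components -/

theorem component_normal [Finite G] (hD : IsThreeTranspositionClass D) {K : Subgroup G}
    (hK : IsComponent K) : K.Normal := by
  have hg := group_of_class hD
  refine normal_of_generators hg K fun d hd => ?_
  suffices hKd : K.map (MulAut.conj d).toMonoidHom = K by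
    intro l hl
    have h : (MulAut.conj d).toMonoidHom l ∈ K.map (MulAut.conj d).toMonoidHom := ⟨l, hl, rfl⟩
    rw [hKd] at h
    exact h
  by_contra hne
  have hcomm := Subgroup.commutator_eq_bot_iff_le_centralizer.1
    (IsComponent.commutator_eq_bot hK (IsComponent.conj hK d) (Ne.symm hne))
  have hcl : ∀ l ∈ K, ∀ u ∈ K, Commute l (d * u * d⁻¹) := fun l hl u hu =>
    (Subgroup.mem_centralizer_iff.1 (hcomm hl) _ ⟨u, hu, rfl⟩).symm
  apply IsQuasisimple.not_isSolvable hK.2
  have hQ : Group.IsSolvable (↥K ⧸ Subgroup.center ↥K) := by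
    refine isSolvable_of_pow_two_or_three fun q => ?_
    obtain ⟨l, rfl⟩ := QuotientGroup.mk'_surjective _ q
    have key : ∀ n : ℕ, (d * ((l : G) * d * (l : G)⁻¹)) ^ n = 1 →
        QuotientGroup.mk' (Subgroup.center ↥K) l ^ n = 1 := by
      intro n hn
      have hz : d * ((l : G) * d * (l : G)⁻¹) = (d * (l : G) * d⁻¹) * (l : G)⁻¹ := by
        rw [inv_eq hg.1 hd]; simp only [mul_assoc]
      rw [hz, ((hcl _ l.2 _ l.2).symm.inv_right).mul_pow, conj_pow, inv_pow,
        mul_inv_eq_one] at hn
      rw [← map_pow]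
      refine (QuotientGroup.eq_one_iff _).2 (Subgroup.mem_center_iff.2 fun u => Subtype.ext ?_)
      have := hcl _ u.2 _ (K.pow_mem l.2 n)
      rw [hn] at this
      simpa using this.eq
    exact (hg.1.2 d hd _ (hg.2.1 l d hd)).imp (key 2) (key 3)
  have : Group.IsSolvable ↥(Subgroup.center ↥K) := Group.isSolvable_of_comm fun a b =>
    Subtype.ext (Subgroup.mem_center_iff.1 b.2 (a : ↥K))
  exact Group.isSolvable_of_ker_le_range (Subgroup.center ↥K).subtype
    (QuotientGroup.mk' (Subgroup.center ↥K)) (by rw [QuotientGroup.ker_mk', Subgroup.range_subtype])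

theorem exists_not_centralized (hD : IsThreeTranspositionClass D) {K : Subgroup G} [K.Normal]
    (hK : ¬ K ≤ Subgroup.center G) {d : G} (hd : d ∈ D) : ∃ k ∈ K, ¬ Commute d k := by
  by_contra hcon
  apply hK
  intro k hk
  refine commute_all_of_gen hD.2.2 fun e he => ?_
  obtain ⟨g, rfl⟩ := class_conj hD hd he
  by_contra hne
  apply hcon
  refine ⟨g⁻¹ * k * g, by simpa using Subgroup.Normal.conj_mem inferInstance k hk g⁻¹, fun h => hne ?_⟩
  simpa [mul_assoc] using h.map (MulAut.conj g).toMonoidHom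

theorem component_not_central [Finite G] {K : Subgroup G} (hK : IsComponent K) :
    ¬ K ≤ Subgroup.center G := fun h =>
  IsComponent.not_le_centralizer hK (h.trans (Subgroup.center_le_centralizer _))

theorem solvable_of_cubeSet [Finite G] {S : Set G} (hS : CubeSet S)
    (hgen : Subgroup.closure S = ⊤) : Group.IsSolvable G := by
  have : Fact (Nat.Prime 3) := ⟨Nat.prime_three⟩
  have hnil := (Cores.isPGroup_pCore 3 G).isNilpotent
  have hR : Group.IsSolvable (pCore 3 G) := inferInstance
  have hQ : Group.IsSolvable (G ⧸ pCore 3 G) := by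
    refine Group.isSolvable_of_comm fun x y => ?_
    refine (Subgroup.mem_center_iff.1 ?_ x : x * y = y * x)
    have hgen' : Subgroup.closure (QuotientGroup.mk' (pCore 3 G) '' S) = ⊤ := by
      rw [← MonoidHom.map_closure, hgen,
        Subgroup.map_top_of_surjective _ (QuotientGroup.mk'_surjective _)]
    have hy : y ∈ Subgroup.closure (QuotientGroup.mk' (pCore 3 G) '' S) := by
      rw [hgen']; exact Subgroup.mem_top y
    refine (Subgroup.closure_le _).2 ?_ hy
    rintro _ ⟨b, hb, rfl⟩
    refine commute_all_of_gen hgen' ?_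
    rintro _ ⟨a, ha, rfl⟩
    have e : QuotientGroup.mk' (pCore 3 G) a = QuotientGroup.mk' (pCore 3 G) b :=
      QuotientGroup.eq.2 (by rw [hS.inv_eq ha]; exact hS.mul_mem_pCore_three ha hb)
    rw [e]
  exact Group.isSolvable_of_ker_le_range (pCore 3 G).subtype
    (QuotientGroup.mk' (pCore 3 G)) (by rw [QuotientGroup.ker_mk', Subgroup.range_subtype])

/-- Both kinds of pairs occur inside an orbit of a component. -/
theorem component_pairs [Finite G] (hD : IsThreeTranspositionClass D) {K : Subgroup G}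
    (hK : IsComponent K) {d : G} (hd : d ∈ D) :
    (∃ k ∈ K, ¬ Commute d (k * d * k⁻¹)) ∧
      ∃ k ∈ K, k * d * k⁻¹ ≠ d ∧ Commute d (k * d * k⁻¹) := by
  have hg := group_of_class hD
  have hKn := component_normal hD hK
  set S : Set G := {x | ∃ k ∈ K, k * d * k⁻¹ = x} with hS
  set A : Subgroup G := Subgroup.closure S with hA
  have hSD : ∀ x ∈ S, x ∈ D := by rintro x ⟨k, -, rfl⟩; exact hg.2.1 k d hd
  have hdS : d ∈ S := ⟨1, K.one_mem, by simp⟩
  have hSK : ∀ k ∈ K, ∀ x ∈ S, k * x * k⁻¹ ∈ S := by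
    rintro k hk x ⟨l, hl, rfl⟩
    exact ⟨k * l, K.mul_mem hk hl, by group⟩
  have hnorm : K ≤ Subgroup.normalizer (A : Set G) := by
    have hmap : ∀ k ∈ K, ∀ a ∈ A, k * a * k⁻¹ ∈ A := by
      intro k hk a ha
      induction ha using Subgroup.closure_induction with
      | mem x hx => exact Subgroup.subset_closure (hSK k hk x hx)
      | one => simp
      | mul u v _ _ hu hv => simpa [mul_assoc] using mul_mem hu hv
      | inv u _ hu => simpa [mul_assoc] using inv_mem hu
    intro k hk
    rw [Subgroup.mem_normalizer_iff]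
    refine fun a => ⟨hmap k hk a, fun h => ?_⟩
    simpa [mul_assoc] using hmap k⁻¹ (K.inv_mem hk) _ h
  have main : ¬ Group.IsSolvable A := by
    intro hsol
    obtain ⟨k, hk, hne⟩ := exists_not_centralized hD (component_not_central hK) hd
    exact hne (Subgroup.mem_centralizer_iff.1
      (Subgroup.commutator_eq_bot_iff_le_centralizer.1
        (IsComponent.commutator_solvable hK hsol hnorm) hk) d (Subgroup.subset_closure hdS))
  constructor
  · by_contra hcon
    apply main
    have hall : ∀ x ∈ S, ∀ y ∈ S, Commute x y := by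
      rintro _ ⟨k, hk, rfl⟩ _ ⟨l, hl, rfl⟩
      by_contra hne
      refine hcon ⟨k⁻¹ * l, K.mul_mem (K.inv_mem hk) hl, fun h => hne ?_⟩
      simpa [mul_assoc] using h.map (MulAut.conj k).toMonoidHom
    refine Group.isSolvable_of_comm fun u v => Subtype.ext ?_
    have hle : A ≤ Subgroup.centralizer (A : Set G) := by
      rw [hA, Subgroup.closure_le]
      intro y hy
      rw [SetLike.mem_coe, Subgroup.centralizer_closure, Subgroup.mem_centralizer_iff]
      exact fun x hx => hall x hx y hy
    exact (Subgroup.mem_centralizer_iff.1 (hle u.2) v v.2).symm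
  · by_contra hcon
    apply main
    set S' : Set A := {a | (a : G) ∈ S} with hS'
    refine solvable_of_cubeSet (S := S') ⟨fun a ha => ?_, fun a x hx => ?_, fun u hu v hv => ?_⟩
      (Subgroup.closure_closure_coe_preimage (k := S))
    · rw [← Subgroup.orderOf_coe]; exact hg.1.1 _ (hSD _ ha)
    · show (a : G) * x * (a : G)⁻¹ ∈ S
      have : ∀ a : G, a ∈ A → ∀ x ∈ S, a * x * a⁻¹ ∈ S := by
        intro a ha
        induction ha using Subgroup.closure_induction_left with
        | one => intro x hx; simpa using hx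
        | mul_left s hs u _ hu =>
          intro x hx
          obtain ⟨l, hl, rfl⟩ := hs
          obtain ⟨m, hm, hmx⟩ := hu x hx
          refine ⟨l * (d * (l⁻¹ * m) * d⁻¹), K.mul_mem hl
            (hKn.conj_mem _ (K.mul_mem (K.inv_mem hl) hm) d), ?_⟩
          calc l * (d * (l⁻¹ * m) * d⁻¹) * d * (l * (d * (l⁻¹ * m) * d⁻¹))⁻¹
              = l * d * l⁻¹ * (m * d * m⁻¹) * (l * d * l⁻¹)⁻¹ := by group
            _ = _ := by rw [hmx]; group
        | inv_mul_cancel s hs u _ hu =>
          intro x hx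
          obtain ⟨l, hl, rfl⟩ := hs
          obtain ⟨m, hm, hmx⟩ := hu x hx
          refine ⟨l * (d⁻¹ * (l⁻¹ * m) * d), K.mul_mem hl
            (by simpa using hKn.conj_mem _ (K.mul_mem (K.inv_mem hl) hm) d⁻¹), ?_⟩
          calc l * (d⁻¹ * (l⁻¹ * m) * d) * d * (l * (d⁻¹ * (l⁻¹ * m) * d))⁻¹
              = (l * d * l⁻¹)⁻¹ * (m * d * m⁻¹) * (l * d * l⁻¹) := by group
            _ = _ := by rw [hmx]; group
      exact this a a.2 x hx
    · obtain ⟨k, hk, hu'⟩ := hu
      obtain ⟨l, hl, hv'⟩ := hv
      apply Subtype.ext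
      show ((u : G) * (v : G)) ^ 3 = 1
      rcases eq_or_ne (u : G) v with he | hne
      · rw [he, mul_self hg.1 (hSD _ ⟨l, hl, hv'⟩), one_pow]
      · refine pow_three_of_not_commute hg.1 (hSD _ ⟨k, hk, hu'⟩) (hSD _ ⟨l, hl, hv'⟩) fun h => ?_
        refine hcon ⟨k⁻¹ * l, K.mul_mem (K.inv_mem hk) hl, fun he => hne ?_, ?_⟩
        · rw [← hu', ← hv']
          have := congrArg (fun z => k * z * k⁻¹) he
          simpa [mul_assoc] using this.symm
        · rw [← hu', ← hv'] at h
          simpa [mul_assoc] using h.map (MulAut.conj k⁻¹).toMonoidHom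

theorem component_unique [Finite G] (hD : IsThreeTranspositionClass D) {K M : Subgroup G}
    (hK : IsComponent K) (hM : IsComponent M) : K = M := by
  by_contra hne
  have hg := group_of_class hD
  obtain ⟨d, hd, -⟩ := id hD.2.1
  obtain ⟨k, hk, hkn⟩ := (component_pairs hD hK hd).1
  obtain ⟨m, hm, hmd, hmc⟩ := (component_pairs hD hM hd).2
  set x := k * d * k⁻¹ with hx
  set y := m * d * m⁻¹ with hy
  have hxD : x ∈ D := hg.2.1 k d hd
  have hyD : y ∈ D := hg.2.1 m d hd
  have hKn := component_normal hD hK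
  have hMn := component_normal hD hM
  have ha : d * x ∈ K := by
    have := K.mul_mem (hKn.conj_mem k hk d) (K.inv_mem hk)
    rw [inv_eq hg.1 hd] at this
    simpa [hx, mul_assoc] using this
  have hb : d * y ∈ M := by
    have := M.mul_mem (hMn.conj_mem m hm d) (M.inv_mem hm)
    rw [inv_eq hg.1 hd] at this
    simpa [hy, mul_assoc] using this
  have hab : Commute (d * x) (d * y) :=
    (Subgroup.mem_centralizer_iff.1 (Subgroup.commutator_eq_bot_iff_le_centralizer.1
      (IsComponent.commutator_eq_bot hK hM hne) ha) _ hb).symm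
  have e : x * y = (d * x)⁻¹ * (d * y) := by
    simp only [mul_inv_rev, inv_eq hg.1 hd, inv_eq hg.1 hxD, mul_assoc, mul_self_cancel hg.1 hd]
  have ha3 := pow_three_of_not_commute hg.1 hd hxD hkn
  have hb2 := (commute_iff_sq hg.1 hd hyD).1 hmc
  rcases hg.1.2 x hxD y hyD with h | h
  · rw [e, hab.inv_left.mul_pow, hb2, mul_one, inv_pow, inv_eq_one] at h
    have h1 : d * x = 1 := by
      rw [pow_succ, h, one_mul] at ha3
      exact ha3
    rw [mul_eq_one_iff_eq_inv, inv_eq hg.1 hxD] at h1
    exact hkn (h1 ▸ Commute.refl d)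
  · rw [e, hab.inv_left.mul_pow, inv_pow, ha3, inv_one, one_mul] at h
    have h1 : d * y = 1 := by
      rw [pow_succ, hb2, one_mul] at h
      exact h
    rw [mul_eq_one_iff_eq_inv, inv_eq hg.1 hyD] at h1
    exact hmd h1.symm

theorem exists_component [Finite G] (hD : IsThreeTranspositionClass D)
    (h2 : ∃ a ∈ D, ∃ b ∈ D, a ≠ b) (hc : CentralCores G) :
    ∃ L : Subgroup G, IsComponent L ∧ L.Normal ∧ layer G = L := by
  obtain ⟨L, hL⟩ : ∃ L : Subgroup G, IsComponent L := by
    by_contra h
    exact layer_ne_bot hD h2 hc (layer_eq_bot_iff.2 fun K hK => h ⟨K, hK⟩)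
  exact ⟨L, hL, component_normal hD hL, le_antisymm
    (layer_le fun K hK => (component_unique hD hK hL).le) (IsComponent.le_layer hL)⟩

theorem genFitting_eq [Finite G] (hD : IsThreeTranspositionClass D) (hc : CentralCores G)
    {L : Subgroup G} (hL : IsComponent L) :
    generalizedFittingSubgroup G = L ⊔ Subgroup.center G := by
  rw [generalizedFittingSubgroup, fitting_eq_center (group_of_class hD) hc,
    le_antisymm (layer_le fun K hK => (component_unique hD hK hL).le) (IsComponent.le_layer hL)]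

theorem centralizer_component_le_center [Finite G] (hD : IsThreeTranspositionClass D)
    (hc : CentralCores G) {L : Subgroup G} (hL : IsComponent L) :
    Subgroup.centralizer (L : Set G) ≤ Subgroup.center G := by
  refine le_trans ?_ (centralizer_genFitting_le_fitting.trans
    (fitting_eq_center (group_of_class hD) hc).le)
  rw [genFitting_eq hD hc hL, Subgroup.le_centralizer_iff]
  exact sup_le (Subgroup.le_centralizer_iff.1 le_rfl) (Subgroup.center_le_centralizer _)

/-- Commuting members are congruent modulo the component. -/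
theorem inv_mul_mem_component [Finite G] (hD : IsThreeTranspositionClass D)
    (h2 : ∃ a ∈ D, ∃ b ∈ D, a ≠ b) (hc : CentralCores G) {L : Subgroup G} (hL : IsComponent L)
    {a b : G} (ha : a ∈ D) (hb : b ∈ D) (hab : Commute a b) : a⁻¹ * b ∈ L := by
  rcases eq_or_ne b a with rfl | hne
  · simp
  have hLn := component_normal hD hL
  have hg := group_of_class hD
  obtain ⟨k, hk, hkne, hkc⟩ := (component_pairs hD hL ha).2
  obtain ⟨g, hga, hgb⟩ := commuting_transitive_of_centralCores hD h2 hc ha
    (b := k * a * k⁻¹) ⟨hg.2.1 k a ha, hkne, hkc⟩ (b' := b) ⟨hb, hne, hab⟩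
  have h1 : a⁻¹ * (k * a * k⁻¹) ∈ L := inv_mul_conj_mem hk
  have h2' := (conj_coset L g a _).2 h1
  rwa [hgb, show g * a * g⁻¹ = a by rw [hga.eq, mul_assoc, mul_inv_cancel, mul_one]] at h2'

theorem width_one_mod_component [Finite G] (hD : IsThreeTranspositionClass D)
    (h2 : ∃ a ∈ D, ∃ b ∈ D, a ≠ b) (hc : CentralCores G) {L : Subgroup G} (hL : IsComponent L)
    {a b : G} (ha : a ∈ D) (hb : b ∈ D) (h : a * b * a⁻¹ * b⁻¹ ∈ L) : a⁻¹ * b ∈ L := by
  by_cases hab : Commute a b
  · exact inv_mul_mem_component hD h2 hc hL ha hb hab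
  have hs := (group_of_class hD).1
  rw [inv_eq hs ha, inv_eq hs hb] at h
  rw [inv_eq hs ha]
  have h4 := L.mul_mem h h
  have h3 := pow_three_of_not_commute hs ha hb hab
  have e : a * b * a * b * (a * b * a * b) = a * b :=
    calc a * b * a * b * (a * b * a * b) = (a * b) ^ 3 * (a * b) := by
          simp only [pow_succ, pow_zero, one_mul, mul_assoc]
      _ = a * b := by rw [h3, one_mul]
  rwa [e] at h4

/-! ### connectedness and primitivity -/

theorem reachable_iff {x y : D} : (commutingGraph D).Reachable x y ↔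
    ReflTransGen (fun u v => u ∈ D ∧ v ∈ D ∧ Commute u v) (x : G) (y : G) := by
  rw [SimpleGraph.reachable_iff_reflTransGen]
  constructor
  · intro h
    refine h.lift _ fun u v huv => ⟨u.2, v.2, ?_⟩
    obtain ⟨-, h | h⟩ := (SimpleGraph.fromRel_adj _ _ _).1 huv
    exacts [h, h.symm]
  · obtain ⟨x, hx⟩ := x
    obtain ⟨y, hy⟩ := y
    intro h
    dsimp only at h
    induction h with
    | refl => exact ReflTransGen.refl
    | @tail u v _ huv ih =>
      rcases eq_or_ne u v with rfl | hne
      · exact ih huv.1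
      · exact (ih huv.1).tail ((SimpleGraph.fromRel_adj _ _ _).2
          ⟨fun e => hne (congrArg Subtype.val e), Or.inl huv.2.2⟩)

theorem connected_iff : (commutingGraph D).Connected ↔ D.Nonempty ∧ ConnectedComm D := by
  rw [SimpleGraph.connected_iff]
  constructor
  · rintro ⟨h, ⟨x⟩⟩
    exact ⟨⟨x, x.2⟩, fun u hu v hv => reachable_iff.1 (h ⟨u, hu⟩ ⟨v, hv⟩)⟩
  · rintro ⟨⟨x, hx⟩, h⟩
    exact ⟨fun u v => reachable_iff.2 (h u u.2 v v.2), ⟨⟨x, hx⟩⟩⟩

theorem index_le_two_of_connected [Finite G] (hD : IsThreeTranspositionClass D)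
    (h2 : ∃ a ∈ D, ∃ b ∈ D, a ≠ b) (hc : CentralCores G) (hconn : ConnectedComm D)
    {L : Subgroup G} [L.Normal] (hL : IsComponent L) : L.index ≤ 2 := by
  obtain ⟨d, hd, -⟩ := id hD.2.1
  have hall : ∀ x, ReflTransGen (fun u v => u ∈ D ∧ v ∈ D ∧ Commute u v) d x → d⁻¹ * x ∈ L := by
    intro x hx
    induction hx with
    | refl => simp
    | @tail u v _ huv ih =>
      have := L.mul_mem ih (inv_mul_mem_component hD h2 hc hL huv.1 huv.2.1 huv.2.2)
      simpa [mul_assoc] using this
  set π := QuotientGroup.mk' L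
  have hsq : π d * π d = 1 := by rw [← map_mul, mul_self hD.1 hd, map_one]
  have himg : π '' D ⊆ {π d} := by
    rintro _ ⟨e, he, rfl⟩
    exact (QuotientGroup.eq.2 (hall e (hconn d hd e he))).symm
  have htop : Subgroup.zpowers (π d) = ⊤ := by
    rw [eq_top_iff, ← Subgroup.map_top_of_surjective π (QuotientGroup.mk'_surjective L), ← hD.2.2,
      MonoidHom.map_closure, Subgroup.zpowers_eq_closure]
    exact Subgroup.closure_mono himg
  rw [Subgroup.index_eq_card, ← Subgroup.card_top, ← htop, Nat.card_zpowers]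
  exact orderOf_le_of_pow_eq_one two_pos (by rw [pow_two, hsq])

theorem commutator_le_of_index_le_two [Finite G] (L : Subgroup G) [L.Normal] (h : L.index ≤ 2) :
    commutator G ≤ L := by
  rw [commutator_def, Subgroup.commutator_le]
  intro a _ b _
  rw [← QuotientGroup.eq_one_iff (N := L), ← QuotientGroup.mk'_apply, map_commutatorElement,
    commutatorElement_eq_one_iff_commute]
  have h0 : L.index ≠ 0 := Subgroup.index_ne_zero_of_finite
  interval_cases hn : L.index
  · exact absurd rfl h0
  · have : Subsingleton (G ⧸ L) := (Nat.card_eq_one_iff_unique.1 (by rw [← Subgroup.index_eq_card, hn])).1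
    exact Subsingleton.elim _ _
  · have : Fact (Nat.Prime 2) := ⟨Nat.prime_two⟩
    have : IsCyclic (G ⧸ L) := isCyclic_of_prime_card (p := 2) (by rw [← Subgroup.index_eq_card, hn])
    exact mul_comm' _ _

theorem component_le_commutator {L : Subgroup G} (hL : IsComponent L) : L ≤ commutator G := by
  rw [← IsComponent.perfect hL, commutator_def]
  exact Subgroup.commutator_mono le_top le_top

theorem connected_of_index_le_two [Finite G] (hD : IsThreeTranspositionClass D)
    (h2 : ∃ a ∈ D, ∃ b ∈ D, a ≠ b) (hc : CentralCores G) {L : Subgroup G} [L.Normal]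
    (hL : IsComponent L) (hi : L.index ≤ 2) : ConnectedComm D := by
  refine connected_of_dichotomy hD h2 hc.2 fun N hN => ?_
  rcases IsComponent.le_or_commutes hL hN.isSubnormal with h | h
  · exact Or.inl ((commutator_le_of_index_le_two L hi).trans h)
  · right
    refine le_trans ?_ (centralizer_component_le_center hD hc hL)
    exact Subgroup.le_centralizer_iff.1 (Subgroup.commutator_eq_bot_iff_le_centralizer.1 h)

theorem primitive_of_connected [Finite G] (hD : IsThreeTranspositionClass D)
    (h2 : ∃ a ∈ D, ∃ b ∈ D, a ≠ b) (hc : CentralCores G) (hconn : ConnectedComm D) :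
    IsPrimitiveUnderConj D := by
  have hg := group_of_class hD
  refine ⟨fun a ha b hb => class_conj hD ha hb, h2, fun B hBD hblock => ?_⟩
  refine or_iff_not_imp_left.2 fun hB => ?_
  obtain ⟨a, haB, b, hbB, hab⟩ := Set.not_subsingleton_iff.1 hB
  have hfix : ∀ g : G, ∀ x ∈ B, g * x * g⁻¹ = x → ∀ y ∈ B, g * y * g⁻¹ ∈ B := by
    intro g x hx hgx y hy
    rcases hblock g with h | h
    · exact h ▸ ⟨y, hy, rfl⟩
    · exact absurd hx (Set.disjoint_left.1 h ⟨x, hx, hgx⟩)
  have hcomm : ∀ g x : G, Commute g x → g * x * g⁻¹ = x := fun g x h => by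
    rw [h.eq, mul_assoc, mul_inv_cancel, mul_one]
  -- a block with one pair of a kind has all pairs of that kind, at every member
  have hmove : ∀ x ∈ B, ∀ y ∈ B, ∀ x' ∈ B, ∃ g : G, g * x * g⁻¹ = x' ∧ g * y * g⁻¹ ∈ B := by
    intro x hx y hy x' hx'
    obtain ⟨g, hgx⟩ := class_conj hD (hBD hx) (hBD hx')
    refine ⟨g, hgx, ?_⟩
    rcases hblock g with h | h
    · exact h ▸ ⟨y, hy, rfl⟩
    · exact absurd hx' (Set.disjoint_left.1 h ⟨x, hx, hgx⟩)
  refine Set.eq_of_subset_of_subset hBD fun z hz => ?_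
  by_cases hcab : Commute a b
  · have hadj : ∀ u ∈ B, ∀ v ∈ adj D u, v ∈ B := by
      intro u hu v hv
      obtain ⟨g, hga, hgb⟩ := hmove a haB b hbB u hu
      have hmem : g * b * g⁻¹ ∈ adj D u := by
        rw [← hga, adj_conj_image hg.2.1]
        exact ⟨b, ⟨hBD hbB, hab.symm, hcab⟩, rfl⟩
      obtain ⟨h, hhu, hhe⟩ := commuting_transitive_of_centralCores hD h2 hc (hBD hu) hmem hv
      exact hhe ▸ hfix h u hu (hcomm h u hhu) _ hgb
    have := hconn a (hBD haB) z hz
    induction this with
    | refl => exact haB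
    | @tail u v _ huv ih =>
      have hu := ih huv.1
      rcases eq_or_ne v u with rfl | hne
      · exact hu
      · exact hadj u hu v ⟨huv.2.1, hne, huv.2.2⟩
  · have hnon : ∀ u ∈ B, ∀ v ∈ D, ¬ Commute u v → v ∈ B := by
      intro u hu v hv huv
      obtain ⟨g, hga, hgb⟩ := hmove a haB b hbB u hu
      have hn : ¬ Commute u (g * b * g⁻¹) := by
        rw [← hga]
        intro h
        apply hcab
        simpa [mul_assoc] using h.map (MulAut.conj g⁻¹).toMonoidHom
      obtain ⟨h, hhu, hhe⟩ := noncommuting_transitive_of_centralCores hD hc hconn (hBD hu)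
        (hBD hgb) hv hn huv
      exact hhe ▸ hfix h u hu (hcomm h u hhu) _ hgb
    have hclosed : ∀ e ∈ D, ∀ x ∈ B, e * x * e ∈ B := by
      intro e he x hx
      by_cases h : Commute e x
      · rwa [conj_conj_of_commute hg.1 he h]
      · have heB := hnon x hx e he fun h' => h h'.symm
        refine hnon e heB _ (conj_mem hg.1 hg.2.1 he (hBD hx)) fun h' => h ?_
        have h4 := h'.map (MulAut.conj e).toMonoidHom
        simpa [inv_eq hg.1 he, mul_assoc, mul_self hg.1 he, mul_self_cancel hg.1 he] using h4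
    obtain ⟨g, rfl⟩ := class_conj hD (hBD haB) hz
    have key : ∀ g : G, ∀ x ∈ B, g * x * g⁻¹ ∈ B := by
      intro g
      have hgm : g ∈ Subgroup.closure D := by rw [hD.2.2]; exact Subgroup.mem_top g
      induction hgm using Subgroup.closure_induction_left with
      | one => intro x hx; simpa using hx
      | mul_left e he u _ hu =>
        intro x hx
        have := hclosed e he _ (hu x hx)
        simpa [mul_assoc, inv_eq hg.1 he] using this
      | inv_mul_cancel e he u _ hu =>
        intro x hx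
        have := hclosed e he _ (hu x hx)
        simpa [mul_assoc, inv_eq hg.1 he] using this
    exact key g a haB

theorem connected_of_primitive (hD : IsThreeTranspositionGroup D)
    (hprim : IsPrimitiveUnderConj D) (hw : ∃ a ∈ D, ∃ b ∈ D, a ≠ b ∧ Commute a b) :
    ConnectedComm D := by
  obtain ⟨a, ha, b, hb, hab, hc⟩ := hw
  let R : G → G → Prop := fun u v => u ∈ D ∧ v ∈ D ∧ Commute u v
  have rsymm : ∀ {u v}, ReflTransGen R u v → ReflTransGen R v u := by
    intro u v h
    induction h with
    | refl => exact ReflTransGen.refl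
    | @tail w z _ h ih => exact ReflTransGen.head ⟨h.2.1, h.1, h.2.2.symm⟩ ih
  set B := {x | x ∈ D ∧ ReflTransGen R a x} with hB
  have hblock : ∀ g : G, (fun x => g * x * g⁻¹) '' B = B ∨
      Disjoint ((fun x => g * x * g⁻¹) '' B) B := by
    intro g
    have rconj : ∀ g : G, ∀ {u v}, ReflTransGen R u v →
        ReflTransGen R (g * u * g⁻¹) (g * v * g⁻¹) := fun g {u v} h =>
      h.lift (fun z => g * z * g⁻¹) fun w z hwz =>
        ⟨hD.2.1 g w hwz.1, hD.2.1 g z hwz.2.1, hwz.2.2.map (MulAut.conj g).toMonoidHom⟩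
    by_cases h : ReflTransGen R a (g * a * g⁻¹)
    · left
      ext x
      constructor
      · rintro ⟨y, ⟨hy, hy'⟩, rfl⟩
        exact ⟨hD.2.1 g y hy, h.trans (rconj g hy')⟩
      · rintro ⟨hx, hx'⟩
        refine ⟨g⁻¹ * x * g, ⟨by simpa using hD.2.1 g⁻¹ x hx, ?_⟩, by group⟩
        simpa [mul_assoc] using rconj g⁻¹ ((rsymm h).trans hx')
    · right
      rw [Set.disjoint_left]
      rintro x ⟨y, ⟨hy, hy'⟩, rfl⟩ ⟨-, hx'⟩
      exact h (hx'.trans (rsymm (rconj g hy')))
  rcases hprim.2.2 B (fun x hx => hx.1) hblock with h | h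
  · exact absurd (h ⟨ha, ReflTransGen.refl⟩ ⟨hb, ReflTransGen.single ⟨ha, hb, hc⟩⟩) hab
  · intro u hu v hv
    have hu' : u ∈ B := h.symm ▸ hu
    have hv' : v ∈ B := h.symm ▸ hv
    exact (rsymm hu'.2).trans hv'.2

/-- The members commuting with one member generate a maximal subgroup among those generated by members. -/
theorem eq_top_of_contains_local [Finite G] (hD : IsThreeTranspositionClass D)
    (h2 : ∃ a ∈ D, ∃ b ∈ D, a ≠ b) (hc : CentralCores G) (hconn : ConnectedComm D)
    {H : Subgroup G} {d e : G} (hd : d ∈ D) (he : e ∈ D) (hdH : d ∈ H) (heH : e ∈ H)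
    (hA : adj D d ⊆ (H : Set G)) (hde : ¬ Commute d e) : H = ⊤ := by
  have hg := group_of_class hD
  set O : Set G := {x | ∃ h ∈ H, h * d * h⁻¹ = x} with hO
  have hOD : O ⊆ D := by rintro x ⟨h, -, rfl⟩; exact hg.2.1 h d hd
  have hOH : O ⊆ (H : Set G) := by
    rintro x ⟨h, hh, rfl⟩
    exact H.mul_mem (H.mul_mem hh hdH) (H.inv_mem hh)
  have hdO : d ∈ O := ⟨1, H.one_mem, by simp⟩
  have hline : ∀ x ∈ O, ∀ y ∈ D, y ∈ H → ¬ Commute x y → y ∈ O := by
    intro x hx y hy hyH hxy
    have hxD := hOD hx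
    have hxH := hOH hx
    obtain ⟨h, hh, rfl⟩ := hx
    set x := h * d * h⁻¹ with hxdef
    refine ⟨x * y * h, H.mul_mem (H.mul_mem hxH hyH) hh, ?_⟩
    calc x * y * h * d * (x * y * h)⁻¹ = x * y * (h * d * h⁻¹) * (y⁻¹ * x⁻¹) := by group
      _ = x * (y * x * y) * x := by
          rw [← hxdef, inv_eq hg.1 hy, inv_eq hg.1 hxD]; simp only [mul_assoc]
      _ = y := by
          rw [braid hg.1 hy hxD fun h => hxy h.symm]
          simp only [mul_assoc, mul_self hg.1 hxD, mul_one, mul_self_cancel hg.1 hxD]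
  have heO : e ∈ O := hline d hdO e he heH hde
  have hAO : adj D d ⊆ O := by
    by_cases hne : ∃ b ∈ adj D d, b ∈ O
    · obtain ⟨b, hb, hbO⟩ := hne
      intro b' hb'
      obtain ⟨g, hgm, hge⟩ := loc_transitive hD h2 hc hd hb hb'
      have hgH : g ∈ H := (Subgroup.closure_le H).2 hA hgm
      obtain ⟨h, hh, rfl⟩ := hbO
      exact ⟨g * h, H.mul_mem hgH hh, by rw [← hge]; group⟩
    · exfalso
      have hsub : adj D d ⊆ adj D e := by
        intro b hb
        have hce : Commute e b := by
          by_contra h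
          exact hne ⟨b, hb, hline e heO b hb.1 (hA hb) h⟩
        exact ⟨hb.1, fun h => hne ⟨b, hb, h ▸ heO⟩, hce⟩
      have heq : adj D d = adj D e :=
        Set.eq_of_subset_of_ncard_le hsub (by rw [ncard_adj_eq hD hd he])
      exact hde (adj_inj hD h2 hc.2 hd he heq ▸ Commute.refl d)
  have hall : D ⊆ O := by
    intro x hx
    have := hconn d hd x hx
    induction this with
    | refl => exact hdO
    | @tail u v _ huv ih =>
      obtain ⟨h, hh, rfl⟩ := ih huv.1
      rcases eq_or_ne v (h * d * h⁻¹) with rfl | hne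
      · exact ⟨h, hh, rfl⟩
      have hm := (conj_adj hg.2.1 h d v).1 ⟨huv.2.1, hne, huv.2.2⟩
      obtain ⟨k, hk, hke⟩ := hAO hm
      refine ⟨h * k, H.mul_mem hh hk, ?_⟩
      calc h * k * d * (h * k)⁻¹ = h * (k * d * k⁻¹) * h⁻¹ := by group
        _ = v := by rw [hke]; group
  rw [eq_top_iff, ← hD.2.2, Subgroup.closure_le]
  exact hall.trans hOH

end Cfsg.Agent.ThreeTrans
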