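/-
The reflection classes of a quadratic space over the field with three elements.

Main results:
* `reflClass_threeTrans` : the reflections of one norm are a class of 3-transpositions of the group
  they generate
* `reflSub_index` : that group has index two
* `commutator_reflSub`, `reflSub_structure`
-/
import Cfsg.Agent.Lib.ThreeTrans.Structure
import Cfsg.Agent.Lib.Orth.Simple
import Cfsg.Agent.Lib.Orth.Spinor

namespace Cfsg.Agent.ThreeTrans

open Cfsg Cfsg.Agent.Orth
open QuadraticMap (polar)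

variable {ι : Type} [Fintype ι] [DecidableEq ι] {Q : QuadraticForm (ZMod 3) (ι → ZMod 3)}
  {c : ZMod 3}

theorem reflectionsOfNorm_eq : reflectionsOfNorm (⇑Q) c = refl Q '' {v | Q v = c} := by
  ext g
  constructor
  · rintro ⟨v, hv, h⟩
    exact ⟨v, hv, (eq_refl_of_mat Q h).symm⟩
  · rintro ⟨v, hv, rfl⟩
    exact ⟨v, hv, rfl⟩

theorem refl_mem_norm {v : ι → ZMod 3} (hv : Q v = c) :
    refl Q v ∈ reflectionsOfNorm (⇑Q) c := by
  rw [reflectionsOfNorm_eq]
  exact ⟨v, hv, rfl⟩

theorem refl_mem_reflSub {v : ι → ZMod 3} (hv : Q v = c) :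
    refl Q v ∈ reflectionSubgroup (⇑Q) c :=
  Subgroup.subset_closure (refl_mem_norm hv)

theorem zmod_three_qc {a b : ZMod 3} (ha : a ≠ 0) (hb : b ≠ 0)
    (h : quadraticChar (ZMod 3) a = quadraticChar (ZMod 3) b) : a = b := by
  revert h hb ha
  revert a b
  decide +kernel

theorem zmod_three_sq : ∀ t : ZMod 3, t ≠ 0 → t * t = 1 := by decide +kernel

theorem zmod_three_neg_eq : ∀ a : ZMod 3, -a = a → a = 0 := by decide +kernel

theorem zmod_three_other : ∀ c : ZMod 3, c ≠ 0 → ∃ d : ZMod 3, d ≠ 0 ∧ d ≠ c := by decide +kernel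

theorem spin_refl3 (hQ : Q.polarBilin.Nondegenerate) {v : ι → ZMod 3} (hv : Q v ≠ 0) :
    spin (refl Q v) = quadraticChar (ZMod 3) (Q v) := by
  convert spin_refl hQ hv

theorem good_three (hQ : Q.polarBilin.Nondegenerate) : Good Q :=
  Good.of_two_ne_zero hQ (by decide)

/-- A vector of given norm orthogonal to a given one. -/
theorem exists_orth_norm (hQ : Q.polarBilin.Nondegenerate) (hn : 3 ≤ Fintype.card ι)
    {u : ι → ZMod 3} (hu : Q u ≠ 0) (e : ZMod 3) : ∃ w, polar ⇑Q u w = 0 ∧ Q w = e := by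
  set W := LinearMap.ker (Q.polarBilin u)
  have hW : ∀ x ∈ W, x ≠ 0 → ∃ y ∈ W, polar ⇑Q x y ≠ 0 := by
    intro x hx hx0
    obtain ⟨y, hy⟩ := exists_polar_ne hQ hx0
    refine ⟨y - (polar ⇑Q u y / (2 * Q u)) • u, ?_, ?_⟩
    · show polar ⇑Q u _ = 0
      rw [pl_sub_right, pl_smul_right, pl_self,
        div_mul_cancel₀ _ (mul_ne_zero (by decide) hu), sub_self]
    · rw [pl_sub_right, pl_smul_right, pl_comm Q x u, show polar ⇑Q u x = 0 from hx, mul_zero,
        sub_zero]
      exact hy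
  obtain ⟨w, hw, hQw⟩ := exists_Q_eq_in W hW (by
    have h1 := LinearMap.finrank_range_add_finrank_ker (Q.polarBilin u)
    have h2 := Submodule.finrank_le (LinearMap.range (Q.polarBilin u))
    rw [finrank_space] at h1
    rw [Module.finrank_self] at h2
    change 2 ≤ Module.finrank (ZMod 3) (LinearMap.ker (Q.polarBilin u))
    omega) e
  exact ⟨w, hw, hQw⟩

theorem refl_braid (_hc : c ≠ 0) {u v : ι → ZMod 3} (hu : Q u = c) (hv : Q v = c) :
    (refl Q u * refl Q v) ^ 2 = 1 ∨ (refl Q u * refl Q v) ^ 3 = 1 := by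
  have e1 : refl Q u * refl Q v * refl Q u = refl Q (v - (c⁻¹ * polar ⇑Q u v) • u) := by
    have := conj_refl (refl Q u) v
    rwa [refl_inv, refl_ap, hu] at this
  have e2 : refl Q v * refl Q u * refl Q v = refl Q (u - (c⁻¹ * polar ⇑Q u v) • v) := by
    have := conj_refl (refl Q v) u
    rwa [refl_inv, refl_ap, hv, pl_comm Q v u] at this
  generalize c⁻¹ * polar ⇑Q u v = t at e1 e2
  by_cases ht : t = 0
  · left
    subst ht
    rw [zero_smul, sub_zero] at e1
    rw [pow_two, ← mul_assoc, e1, refl_mul_self]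
  · right
    have ht2 : t * t = 1 := zmod_three_sq t ht
    have e3 : refl Q (v - t • u) = refl Q (u - t • v) := by
      have : v - t • u = (-t) • (u - t • v) := by
        rw [smul_sub, smul_smul, neg_mul, ht2]; module
      rw [this, refl_smul Q (neg_ne_zero.2 ht)]
    calc (refl Q u * refl Q v) ^ 3
        = (refl Q u * refl Q v * refl Q u) * (refl Q v * refl Q u * refl Q v) := by
          simp only [pow_succ, pow_zero, one_mul, mul_assoc]
      _ = 1 := by rw [e1, e2, e3, refl_mul_self]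

theorem refl_ne_one (hQ : Q.polarBilin.Nondegenerate) {v : ι → ZMod 3} (hv : Q v ≠ 0) :
    refl Q v ≠ 1 := fun h => by
  have := dick_refl hQ hv
  rw [h, dick_one] at this
  exact absurd this (by decide)

/-- Products of two reflections of one norm lie in `Ω`. -/
theorem refl_mul_refl_mem_omega (hQ : Q.polarBilin.Nondegenerate) (hc : c ≠ 0)
    {u v : ι → ZMod 3} (hu : Q u = c) (hv : Q v = c) :
    refl Q u * refl Q v ∈ Omega (ZMod 3) ⇑Q := by
  obtain ⟨g, -, hg⟩ := exists_ap_eq hQ (good_three hQ).ex (show Q u ≠ 0 from hu ▸ hc)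
    (hv.trans hu.symm)
  rw [← hg]
  exact refl_mul_refl_ap_mem_omega g u

theorem exists_two_refl (hQ : Q.polarBilin.Nondegenerate) (hn : 3 ≤ Fintype.card ι) (hc : c ≠ 0) :
    ∃ u v : ι → ZMod 3, Q u = c ∧ Q v = c ∧ polar ⇑Q u v = 0 ∧ refl Q u ≠ refl Q v := by
  obtain ⟨u, hu⟩ := exists_Q_eq hQ (by omega) c
  obtain ⟨v, huv, hv⟩ := exists_orth_norm hQ hn (show Q u ≠ 0 from hu ▸ hc) c
  refine ⟨u, v, hu, hv, huv, fun h => ?_⟩
  have h1 : ap (refl Q v) u = u := refl_ap_of_orth Q (by rw [pl_comm]; exact huv)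
  rw [← h, refl_ap_self Q (hu ▸ hc)] at h1
  have hu0 : u ≠ 0 := fun e => hc (by rw [← hu, e]; exact map_zero Q)
  apply hu0
  funext i
  exact zmod_three_neg_eq _ (congrFun h1 i)

theorem omega_le_reflSub (hQ : Q.polarBilin.Nondegenerate) (hn : 5 ≤ Fintype.card ι) (hc : c ≠ 0) :
    Omega (ZMod 3) ⇑Q ≤ reflectionSubgroup (⇑Q) c := by
  have hG := good_three hQ
  set R := reflectionSubgroup (⇑Q) c with hR
  have hRn : R.Normal := by
    refine ⟨fun x hx g => ?_⟩
    induction hx using Subgroup.closure_induction with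
    | mem z hz =>
      rw [reflectionsOfNorm_eq] at hz
      obtain ⟨v, hv, rfl⟩ := hz
      rw [conj_refl]
      exact refl_mem_reflSub (by rw [Q_ap]; exact hv)
    | one => simp
    | mul a b _ _ ha hb => simpa [mul_assoc] using mul_mem ha hb
    | inv a _ ha => simpa [mul_assoc] using inv_mem ha
  have hperf : ⁅Omega (ZMod 3) ⇑Q, Omega (ZMod 3) ⇑Q⁆ = Omega (ZMod 3) ⇑Q :=
    le_antisymm (Subgroup.commutator_le_self _) (omega_le_commutator_omega hG hn)
  have := Subgroup.isPerfect_iff.2 hperf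
  have hsimp := isSimpleGroup_pomega hQ hn
  have hq : IsQuasisimple ↥(Omega (ZMod 3) ⇑Q) := ⟨this, hsimp⟩
  rcases Components.IsQuasisimple.normal_eq_top_or_le_center hq (R.subgroupOf (Omega (ZMod 3) ⇑Q))
    with h | h
  · exact Subgroup.subgroupOf_eq_top.1 h
  · exfalso
    obtain ⟨u, v, hu, hv, -, hne⟩ := exists_two_refl hQ (by omega) hc
    have hm := refl_mul_refl_mem_omega hQ hc hu hv
    have hz := h (show (⟨_, hm⟩ : Omega (ZMod 3) ⇑Q) ∈ R.subgroupOf (Omega (ZMod 3) ⇑Q) from
      Subgroup.mul_mem R (refl_mem_reflSub hu) (refl_mem_reflSub hv))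
    obtain ⟨a, -, ha⟩ := (mem_center_omega_iff hQ (by omega)
      (omega_eq_eichGen hG (by omega) (.inr hn)).ge _).1 hz
    obtain ⟨x, hx0, hx⟩ := exists_mem_orth (Q := Q) (k := 2) ![u, v] (by omega)
    have hxu : polar ⇑Q u x = 0 := hx 0
    have hxv : polar ⇑Q v x = 0 := hx 1
    have h1 := ha x
    rw [ap_mul, refl_ap_of_orth Q hxv, refl_ap_of_orth Q hxu] at h1
    have ha1 : a = 1 := by
      obtain ⟨i, hi⟩ := Function.ne_iff.1 hx0
      have h2 := congrFun h1 i
      rw [Pi.smul_apply, smul_eq_mul] at h2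
      exact mul_right_cancel₀ hi (by rw [← h2, one_mul])
    apply hne
    have : refl Q u * refl Q v = 1 := ext_ap fun y => by rw [ha y, ha1, one_smul, ap_one]
    rw [mul_eq_one_iff_eq_inv, refl_inv] at this
    exact this

theorem reflSub_eq (hQ : Q.polarBilin.Nondegenerate) (hn : 5 ≤ Fintype.card ι) (hc : c ≠ 0)
    {u : ι → ZMod 3} (hu : Q u = c) :
    reflectionSubgroup (⇑Q) c = Omega (ZMod 3) ⇑Q ⊔ Subgroup.zpowers (refl Q u) := by
  refine le_antisymm ?_ (sup_le (omega_le_reflSub hQ hn hc)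
    (Subgroup.zpowers_le.2 (refl_mem_reflSub hu)))
  rw [reflectionSubgroup, Subgroup.closure_le, reflectionsOfNorm_eq]
  rintro _ ⟨v, hv, rfl⟩
  have e : refl Q v = refl Q u * (refl Q u * refl Q v) := by
    rw [← mul_assoc, refl_mul_self, one_mul]
  rw [e]
  exact mul_mem (Subgroup.mem_sup_right (Subgroup.mem_zpowers _))
    (Subgroup.mem_sup_left (refl_mul_refl_mem_omega hQ hc hu hv))

theorem mem_reflSub_iff (hQ : Q.polarBilin.Nondegenerate) (hn : 5 ≤ Fintype.card ι) (hc : c ≠ 0)
    (g : IsoGrp Q) : g ∈ reflectionSubgroup (⇑Q) c ↔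
      spin g = if dick g = 1 then 1 else quadraticChar (ZMod 3) c := by
  have hG := good_three hQ
  obtain ⟨u, hu⟩ := exists_Q_eq hQ (by omega) c
  have hsu : spin (refl Q u) = quadraticChar (ZMod 3) c := by rw [spin_refl3 hQ (hu ▸ hc), hu]
  have hdu : dick (refl Q u) = -1 := dick_refl hQ (hu ▸ hc)
  have hsq : quadraticChar (ZMod 3) c * quadraticChar (ZMod 3) c = 1 := by
    rw [← sq]; exact quadraticChar_sq_one hc
  constructor
  · intro hg
    induction hg using Subgroup.closure_induction with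
    | mem z hz =>
      rw [reflectionsOfNorm_eq] at hz
      obtain ⟨v, hv, rfl⟩ := hz
      rw [dick_refl hQ (hv ▸ hc), if_neg (by decide), spin_refl3 hQ (hv ▸ hc)]
      exact congrArg (quadraticChar (ZMod 3)) hv
    | one => rw [dick_one, if_pos rfl, spin_one]
    | mul a b _ _ ha hb =>
      rw [spin_mul hG, dick_mul hG, ha, hb]
      rcases dick_eq_or a with h | h <;> rcases dick_eq_or b with h' | h' <;>
        simp [h, h', hsq, -quadraticChar_apply]
    | inv a _ ha =>
      have h1 := dick_mul hG a a⁻¹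
      have h2 := spin_mul hG a a⁻¹
      rw [mul_inv_cancel, dick_one] at h1
      rw [mul_inv_cancel, spin_one, ha] at h2
      rcases dick_eq_or a with h | h <;> rw [h] at h1
      · rw [h, if_pos rfl, one_mul] at h2
        rw [one_mul] at h1
        rw [← h1, ← h2, if_pos rfl]
      · rw [h, if_neg (by decide)] at h2
        rw [neg_mul, one_mul, eq_neg_iff_add_eq_zero] at h1
        rw [show dick a⁻¹ = -1 by omega, if_neg (by decide)]
        calc spin a⁻¹ = quadraticChar (ZMod 3) c * quadraticChar (ZMod 3) c * spin a⁻¹ := by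
              rw [hsq, one_mul]
          _ = quadraticChar (ZMod 3) c := by rw [mul_assoc, ← h2, mul_one]
  · intro hg
    rw [reflSub_eq hQ hn hc hu]
    rcases dick_eq_or g with h | h
    · rw [h, if_pos rfl] at hg
      exact Subgroup.mem_sup_left ((mem_omega_iff hG g).2 ⟨h, hg⟩)
    · rw [h, if_neg (by decide)] at hg
      have h' : refl Q u * g ∈ Omega (ZMod 3) ⇑Q :=
        (mem_omega_iff hG _).2 ⟨by rw [dick_mul hG, hdu, h]; norm_num,
          by rw [spin_mul hG, hsu, hg, hsq]⟩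
      have e : g = refl Q u * (refl Q u * g) := by rw [← mul_assoc, refl_mul_self, one_mul]
      rw [e]
      exact mul_mem (Subgroup.mem_sup_right (Subgroup.mem_zpowers _)) (Subgroup.mem_sup_left h')

theorem reflSub_index (hQ : Q.polarBilin.Nondegenerate) (hn : 5 ≤ Fintype.card ι) (hc : c ≠ 0) :
    (reflectionSubgroup (⇑Q) c).index = 2 := by
  have hG := good_three hQ
  obtain ⟨u, hu⟩ := exists_Q_eq hQ (by omega) c
  obtain ⟨d, hd, hdc⟩ := zmod_three_other c hc
  obtain ⟨w, -, hw⟩ := exists_orth_norm hQ (by omega) (show Q u ≠ 0 from hu ▸ hc) d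
  rw [Subgroup.index_eq_two_iff]
  refine ⟨refl Q w, fun b => ?_⟩
  have hsw : spin (refl Q w) = -quadraticChar (ZMod 3) c := by
    rw [spin_refl3 hQ (hw ▸ hd), hw]
    rcases quadraticChar_dichotomy hc with h | h <;> rcases quadraticChar_dichotomy hd with h' | h' <;>
      first
        | exact absurd (zmod_three_qc hd hc (h'.trans h.symm)) hdc
        | simp [h, h', -quadraticChar_apply]
  rw [mem_reflSub_iff hQ hn hc, mem_reflSub_iff hQ hn hc, spin_mul hG, dick_mul hG, hsw,
    dick_refl hQ (hw ▸ hd)]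
  rcases dick_eq_or b with h | h <;> rcases spin_eq_or hG b with h' | h' <;>
    rcases quadraticChar_dichotomy hc with h'' | h'' <;> simp [h, h', h'', -quadraticChar_apply]

/-- The reflections of norm `c`, inside the group they generate. -/
abbrev reflSet (Q : QuadraticForm (ZMod 3) (ι → ZMod 3)) (c : ZMod 3) :
    Set ↥(reflectionSubgroup (⇑Q) c) :=
  {g | (g : IsoGrp Q) ∈ reflectionsOfNorm (⇑Q) c}

theorem reflClass_threeTrans (hQ : Q.polarBilin.Nondegenerate) (hn : 5 ≤ Fintype.card ι)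
    (hc : c ≠ 0) : IsThreeTranspositionClass (reflSet Q c) := by
  have hG := good_three hQ
  refine ⟨⟨fun g hg => ?_, fun g hg h hh => ?_⟩, ?_, ?_⟩
  · change (g : IsoGrp Q) ∈ reflectionsOfNorm (⇑Q) c at hg
    rw [reflectionsOfNorm_eq] at hg
    obtain ⟨v, hv, hgv⟩ := hg
    rw [← Subgroup.orderOf_coe, ← hgv]
    exact orderOf_eq_prime (by rw [pow_two, refl_mul_self]) (refl_ne_one hQ (hv ▸ hc))
  · change (g : IsoGrp Q) ∈ reflectionsOfNorm (⇑Q) c at hg
    change (h : IsoGrp Q) ∈ reflectionsOfNorm (⇑Q) c at hh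
    rw [reflectionsOfNorm_eq] at hg hh
    obtain ⟨u, hu, hgu⟩ := hg
    obtain ⟨v, hv, hhv⟩ := hh
    rcases refl_braid hc hu hv with h1 | h1 <;> rw [hgu, hhv] at h1
    · exact Or.inl (Subtype.ext h1)
    · exact Or.inr (Subtype.ext h1)
  · obtain ⟨u, hu⟩ := exists_Q_eq hQ (by omega) c
    refine ⟨⟨refl Q u, refl_mem_reflSub hu⟩,
      refl_mem_norm hu, ?_⟩
    ext g
    constructor
    · intro hg
      change (g : IsoGrp Q) ∈ reflectionsOfNorm (⇑Q) c at hg
      rw [reflectionsOfNorm_eq] at hg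
      obtain ⟨v, hv, hgv⟩ := hg
      obtain ⟨k, -, hk⟩ := exists_ap_eq hQ hG.ex (show Q u ≠ 0 from hu ▸ hc)
        ((show Q v = c from hv).trans hu.symm)
      by_cases hkR : k ∈ reflectionSubgroup (⇑Q) c
      · refine isConj_iff.2 ⟨⟨k, hkR⟩, Subtype.ext ?_⟩
        show k * refl Q u * k⁻¹ = g
        rw [conj_refl, hk, hgv]
      · -- correct by a reflection fixing `u` outside the subgroup
        obtain ⟨d, hd, hdc⟩ := zmod_three_other c hc
        obtain ⟨w, huw, hw⟩ := exists_orth_norm hQ (by omega) (show Q u ≠ 0 from hu ▸ hc) d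
        have hwR : refl Q w ∉ reflectionSubgroup (⇑Q) c := by
          rw [mem_reflSub_iff hQ hn hc, dick_refl hQ (hw ▸ hd), if_neg (by decide),
            spin_refl3 hQ (hw ▸ hd), hw]
          exact fun h => hdc (zmod_three_qc hd hc h)
        have hkw : k * refl Q w ∈ reflectionSubgroup (⇑Q) c :=
          (Subgroup.mul_mem_iff_of_index_two (reflSub_index hQ hn hc)).2
            ⟨fun h => absurd h hkR, fun h => absurd h hwR⟩
        refine isConj_iff.2 ⟨⟨k * refl Q w, hkw⟩, Subtype.ext ?_⟩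
        show k * refl Q w * refl Q u * (k * refl Q w)⁻¹ = g
        rw [conj_refl, ap_mul, refl_ap_of_orth Q (by rw [pl_comm]; exact huw), hk, hgv]
    · intro hg
      obtain ⟨k, rfl⟩ := isConj_iff.1 (show IsConj (⟨refl Q u, refl_mem_reflSub hu⟩ :
        ↥(reflectionSubgroup (⇑Q) c)) g from hg)
      show (k : IsoGrp Q) * refl Q u * (k : IsoGrp Q)⁻¹ ∈ reflectionsOfNorm (⇑Q) c
      rw [conj_refl, reflectionsOfNorm_eq]
      exact ⟨_, by show Q _ = c; rw [Q_ap]; exact hu, rfl⟩
  · exact Subgroup.closure_closure_coe_preimage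

theorem map_commutator_reflSub (hQ : Q.polarBilin.Nondegenerate) (hn : 5 ≤ Fintype.card ι)
    (hc : c ≠ 0) : (commutator ↥(reflectionSubgroup (⇑Q) c)).map (reflectionSubgroup (⇑Q) c).subtype
      = Omega (ZMod 3) ⇑Q := by
  rw [Subgroup.map_subtype_commutator]
  refine le_antisymm (Subgroup.commutator_mono le_top le_top) ?_
  exact (omega_le_commutator_omega (good_three hQ) hn).trans
    (Subgroup.commutator_mono (omega_le_reflSub hQ hn hc) (omega_le_reflSub hQ hn hc))

theorem quasisimple_commutator_reflSub (hQ : Q.polarBilin.Nondegenerate)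
    (hn : 5 ≤ Fintype.card ι) (hc : c ≠ 0) :
    IsQuasisimple ↥(commutator ↥(reflectionSubgroup (⇑Q) c)) := by
  have hperf : ⁅Omega (ZMod 3) ⇑Q, Omega (ZMod 3) ⇑Q⁆ = Omega (ZMod 3) ⇑Q :=
    le_antisymm (Subgroup.commutator_le_self _) (omega_le_commutator_omega (good_three hQ) hn)
  have hq : IsQuasisimple ↥(Omega (ZMod 3) ⇑Q) :=
    ⟨Subgroup.isPerfect_iff.2 hperf, isSimpleGroup_pomega hQ hn⟩
  exact (Components.isQuasisimple_congr
    ((Subgroup.equivMapOfInjective _ _ (Subgroup.subtype_injective _)).trans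
      (MulEquiv.subgroupCongr (map_commutator_reflSub hQ hn hc)))).2 hq

theorem index_commutator_reflSub (hQ : Q.polarBilin.Nondegenerate)
    (hn : 5 ≤ Fintype.card ι) (hc : c ≠ 0) :
    (commutator ↥(reflectionSubgroup (⇑Q) c)).index = 2 := by
  have h1 := Subgroup.relIndex_mul_index (omega_le_reflSub hQ hn hc)
  rw [reflSub_index hQ hn hc, omega_index_odd (good_three hQ) (by omega) (by decide)] at h1
  have h2 : (Omega (ZMod 3) ⇑Q).relIndex (reflectionSubgroup (⇑Q) c) = 2 := by omega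
  rw [Subgroup.relIndex, ← map_commutator_reflSub hQ hn hc, Subgroup.subgroupOf,
    Subgroup.comap_map_eq_self_of_injective (Subgroup.subtype_injective _)] at h2
  exact h2

theorem reflSub_structure (hQ : Q.polarBilin.Nondegenerate) (hn : 5 ≤ Fintype.card ι) (hc : c ≠ 0) :
    generalizedFittingSubgroup ↥(reflectionSubgroup (⇑Q) c) =
        Subgroup.center ↥(reflectionSubgroup (⇑Q) c) ⊔ commutator ↥(reflectionSubgroup (⇑Q) c) ∧
      IsPrimitiveUnderConj (reflSet Q c) := by
  have hD := reflClass_threeTrans hQ hn hc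
  have hL : IsComponent (commutator ↥(reflectionSubgroup (⇑Q) c)) :=
    ⟨Subgroup.Normal.isSubnormal inferInstance, quasisimple_commutator_reflSub hQ hn hc⟩
  have h2 : ∃ a ∈ reflSet Q c, ∃ b ∈ reflSet Q c, a ≠ b := by
    obtain ⟨u, v, hu, hv, -, hne⟩ := exists_two_refl hQ (by omega) hc
    exact ⟨⟨_, refl_mem_reflSub hu⟩, refl_mem_norm hu,
      ⟨_, refl_mem_reflSub hv⟩, refl_mem_norm hv,
      fun h => hne (congrArg Subtype.val h)⟩
  have hlayer : layer ↥(reflectionSubgroup (⇑Q) c) ≠ ⊥ := fun h =>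
    Components.layer_eq_bot_iff.1 h _ hL
  have hcc : CentralCores ↥(reflectionSubgroup (⇑Q) c) :=
    ⟨by_contra fun h => hlayer (layer_eq_bot_of_pCore_two hD h),
      by_contra fun h => hlayer (layer_eq_bot_of_pCore_three hD h)⟩
  refine ⟨(genFitting_eq hD hcc hL).trans (sup_comm _ _), primitive_of_connected hD h2 hcc
    (connected_of_index_le_two hD h2 hcc hL (index_commutator_reflSub hQ hn hc).le)⟩

end Cfsg.Agent.ThreeTrans
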