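/-
The commuting graph of a class of 3-transpositions generating a group with perfect derived subgroup
is connected.

Main result: `connected_of_perfect`.
-/
import Cfsg.Agent.Lib.ThreeTrans.RankThree

namespace Cfsg.Agent.ThreeTrans

open Cfsg Cfsg.Agent.ThreeTransRank Relation
open scoped commutatorElement

variable {G : Type*} [Group G] {D : Set G}

/-- A normal subgroup containing the product of every commuting pair of the class contains a
perfect derived subgroup. -/
theorem commutator_le_of_commuting_pairs [Finite G] (hD : IsThreeTranspositionClass D)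
    (hperf : ⁅commutator G, commutator G⁆ = commutator G) (N : Subgroup G) [N.Normal]
    (hN : ∀ u ∈ D, ∀ v ∈ D, Commute u v → u * v ∈ N) : commutator G ≤ N := by
  have hg := group_of_class hD
  by_cases hone : ∃ d ∈ D, d ∈ N
  · obtain ⟨d, hd, hdN⟩ := hone
    have htop : N = ⊤ := by
      rw [eq_top_iff, ← hD.2.2, Subgroup.closure_le]
      intro v hv
      obtain ⟨g, rfl⟩ := class_conj hD hd hv
      exact ‹N.Normal›.conj_mem d hdN g
    rw [htop]
    exact le_top
  push Not at hone
  set π : G →* G ⧸ N := QuotientGroup.mk' N with hπ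
  have hsurj : Function.Surjective π := QuotientGroup.mk'_surjective _
  have hcube : CubeSet (π '' D) := by
    refine ⟨?_, ?_, ?_⟩
    · rintro _ ⟨d, hd, rfl⟩
      refine orderOf_eq_prime (by rw [← map_pow, pow_two, mul_self hD.1 hd, map_one]) fun h => ?_
      exact hone d hd ((QuotientGroup.eq_one_iff _).1 h)
    · intro q
      rintro _ ⟨d, hd, rfl⟩
      obtain ⟨g, rfl⟩ := hsurj q
      exact ⟨g * d * g⁻¹, hg.2.1 g d hd, by rw [map_mul, map_mul, map_inv]⟩
    · rintro _ ⟨u, hu, rfl⟩ _ ⟨v, hv, rfl⟩
      rw [← map_mul, ← map_pow]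
      by_cases huv : Commute u v
      · exact (QuotientGroup.eq_one_iff _).2 (pow_mem (hN u hu v hv huv) 3)
      · rw [pow_three_of_not_commute hD.1 hu hv huv, map_one]
  -- the derived subgroup of the quotient is a perfect 3-group
  set C := (commutator G).map π with hC
  have hCperf : ⁅C, C⁆ = C := by rw [hC, ← Subgroup.map_commutator, hperf]
  have hC3 : C ≤ pCore 3 (G ⧸ N) := by
    have : (pCore 3 (G ⧸ N)).Normal := Cores.pCore_normal 3 (G ⧸ N)
    set ρ : G →* (G ⧸ N) ⧸ pCore 3 (G ⧸ N) := (QuotientGroup.mk' _).comp π with hρ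
    have hall : ∀ u ∈ D, ∀ v ∈ D, ρ u = ρ v := by
      intro u hu v hv
      refine (QuotientGroup.eq (s := pCore 3 (G ⧸ N))).2 ?_
      rw [← map_inv, inv_eq hD.1 hu]
      exact hcube.mul_mem_pCore_three ⟨u, hu, rfl⟩ ⟨v, hv, rfl⟩
    have hab : commutator G ≤ ρ.ker := by
      obtain ⟨d₀, hd₀⟩ : ∃ d₀, d₀ ∈ D := by
        obtain ⟨-, ⟨d₀, -, e⟩, -⟩ := hD
        exact ⟨d₀, e ▸ IsConj.refl d₀⟩
      have hz : ∀ g : G, ρ g ∈ Subgroup.zpowers (ρ d₀) := by
        intro g
        have : g ∈ Subgroup.closure D := by rw [hD.2.2]; trivial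
        induction this using Subgroup.closure_induction with
        | mem u hu => rw [hall u hu d₀ hd₀]; exact Subgroup.mem_zpowers _
        | one => rw [map_one]; exact one_mem _
        | mul u v _ _ hu hv => rw [map_mul]; exact mul_mem hu hv
        | inv u _ hu => rw [map_inv]; exact inv_mem hu
      rw [commutator_def, Subgroup.commutator_le]
      intro g _ k _
      rw [MonoidHom.mem_ker, map_commutatorElement, commutatorElement_eq_one_iff_commute]
      obtain ⟨m, hm⟩ := Subgroup.mem_zpowers_iff.1 (hz g)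
      obtain ⟨n, hn⟩ := Subgroup.mem_zpowers_iff.1 (hz k)
      rw [← hm, ← hn]
      exact Commute.zpow_zpow_self _ _ _
    rintro _ ⟨g, hg', rfl⟩
    exact (QuotientGroup.eq_one_iff (π g)).1 (hab hg')
  have : Fact (Nat.Prime 3) := ⟨Nat.prime_three⟩
  have hCbot : C = ⊥ := by
    have := ((Cores.isPGroup_pCore 3 (G ⧸ N)).to_le hC3).isNilpotent
    have hsol : Group.IsSolvable C := inferInstance
    by_contra hne
    have : Nontrivial C := (Subgroup.nontrivial_iff_ne_bot C).2 hne
    apply (Group.IsSolvable.commutator_lt_top_of_nontrivial C).ne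
    apply Subgroup.map_injective C.subtype_injective
    rw [Subgroup.map_subtype_commutator, ← MonoidHom.range_eq_map, Subgroup.range_subtype, hCperf]
  intro g hg'
  have : π g ∈ C := ⟨g, hg', rfl⟩
  rw [hCbot, Subgroup.mem_bot] at this
  exact (QuotientGroup.eq_one_iff g).1 this

/-- The commuting graph is connected if the derived subgroup is perfect. -/
theorem connected_of_perfect [Finite G] (hD : IsThreeTranspositionClass D)
    (hperf : ⁅commutator G, commutator G⁆ = commutator G) : ConnectedComm D := by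
  have hg := group_of_class hD
  let R : G → G → Prop := fun u v => u ∈ D ∧ v ∈ D ∧ Commute u v
  have rsymm : ∀ {u v}, ReflTransGen R u v → ReflTransGen R v u := by
    intro u v h
    induction h with
    | refl => exact ReflTransGen.refl
    | @tail w z _ h ih => exact ReflTransGen.head ⟨h.2.1, h.1, h.2.2.symm⟩ ih
  have rconj : ∀ g {u v}, ReflTransGen R u v →
      ReflTransGen R (g * u * g⁻¹) (g * v * g⁻¹) := by
    intro g u v h
    induction h with
    | refl => exact ReflTransGen.refl
    | @tail w z _ h ih =>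
      exact ih.tail ⟨hg.2.1 g w h.1, hg.2.1 g z h.2.1, h.2.2.map (MulAut.conj g).toMonoidHom⟩
  let N : Subgroup G :=
    { carrier := {g | ∀ x ∈ D, ReflTransGen R x (g * x * g⁻¹)}
      one_mem' := fun x _ => by simpa using ReflTransGen.refl
      mul_mem' := fun {g h} hgm hhm x hx => by
        have := (hhm x hx).trans (hgm _ (hg.2.1 h x hx))
        simpa [mul_assoc] using this
      inv_mem' := fun {g} hgm x hx => by
        have := rsymm (hgm _ (hg.2.1 g⁻¹ x hx))
        simpa [mul_assoc] using this }
  have hNn : N.Normal := ⟨fun n hn g x hx => by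
    have := rconj g (hn _ (hg.2.1 g⁻¹ x hx))
    simpa [mul_assoc] using this⟩
  have hxyN : ∀ x ∈ D, ∀ y ∈ D, Commute x y → x * y ∈ N := by
    intro x hx y hy hc z hz
    have e : x * y * z * (x * y)⁻¹ = x * (y * z * y) * x := by
      rw [mul_inv_rev, inv_eq hg.1 hx, inv_eq hg.1 hy]; simp only [mul_assoc]
    rw [e]
    have m1 := conj_mem hg.1 hg.2.1 hy hz
    have m2 := conj_mem hg.1 hg.2.1 hx m1
    by_cases h1 : Commute y z
    · rw [conj_conj_of_commute hg.1 hy h1]
      have m3 := conj_mem hg.1 hg.2.1 hx hz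
      by_cases h3 : Commute x z
      · rw [conj_conj_of_commute hg.1 hx h3]
      · refine ReflTransGen.trans (ReflTransGen.single ⟨hz, hy, h1.symm⟩)
          (ReflTransGen.single ⟨hy, m3, ?_⟩)
        have h4 := h1.map (MulAut.conj x).toMonoidHom
        simpa [inv_eq hg.1 hx, conj_conj_of_commute hg.1 hx hc] using h4
    by_cases h3 : Commute x z
    · refine ReflTransGen.trans (ReflTransGen.single ⟨hz, hx, h3.symm⟩)
        (ReflTransGen.single ⟨hx, m2, ?_⟩)
      have h4 := (h3.map (MulAut.conj y).toMonoidHom).map (MulAut.conj x).toMonoidHom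
      simpa [inv_eq hg.1 hx, inv_eq hg.1 hy, conj_conj_of_commute hg.1 hy hc.symm,
        mul_self hg.1 hx] using h4
    obtain ⟨φ, k0, k1, k2⟩ := exists_hom_four hg.1 hx hz hy hc h3 fun h => h1 h.symm
    refine ReflTransGen.single ⟨hz, m2, ?_⟩
    rw [← k0, ← k1, ← k2, ← map_mul, ← map_mul, ← map_mul, ← map_mul]
    exact (show Commute (Equiv.swap (1 : Fin 4) 2) (Equiv.swap 0 1 *
      (Equiv.swap 2 3 * Equiv.swap 1 2 * Equiv.swap 2 3) * Equiv.swap 0 1) by
        rw [commute_iff_eq]; decide +kernel).map φ
  have hGN := commutator_le_of_commuting_pairs hD hperf N hxyN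
  have line : ∀ u ∈ D, ∀ v ∈ D, ReflTransGen R u (v * u * v) := by
    intro u hu v hv
    obtain ⟨g, hgv⟩ := class_conj hD hu hv
    have hmem : v * u ∈ N := hGN (by
      have e : v * u = ⁅g, u⁆ := by rw [commutatorElement_def, hgv, inv_eq hg.1 hu]
      rw [e]
      exact Subgroup.commutator_mem_commutator (Subgroup.mem_top g) (Subgroup.mem_top u))
    have := hmem u hu
    simpa [mul_assoc, inv_eq hg.1 hu, inv_eq hg.1 hv, mul_self_cancel hg.1 hu] using this
  intro u hu v hv
  show ReflTransGen R u v
  by_cases huv : Commute u v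
  · exact ReflTransGen.single ⟨hu, hv, huv⟩
  have h1 := line u hu _ (conj_mem hg.1 hg.2.1 hu hv)
  have e : (u * v * u) * u * (u * v * u) = v := by
    have hb := braid hg.1 hu hv huv
    calc u * v * u * u * (u * v * u) = u * v * (u * v * u) := by
          simp only [mul_assoc, mul_self_cancel hg.1 hu]
      _ = u * v * (v * u * v) := by rw [hb]
      _ = v := by simp only [mul_assoc, mul_self_cancel hg.1 hv, mul_self_cancel hg.1 hu]
  rwa [e] at h1

end Cfsg.Agent.ThreeTrans
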