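/-
The normaliser of the product of two non-commuting 3-transpositions, under two hypotheses on the graph.

Main results (namespace `Cfsg.Agent.ThreeTrans.Line`): `LineCtx`, `commute_of_line`, `inverting_mem`,
`inter_centralizer_line`, `normalizer_line`, `closure_pair_sym`.
-/
import Cfsg.Agent.Lib.ThreeTrans.RankThree
import Cfsg.Agent.Lib.ThreeTrans.SymmPresentation

set_option autoImplicit false

namespace Cfsg.Agent.ThreeTrans.Line

open Cfsg.Agent.ThreeTrans

variable {G : Type*} [Group G] {D : Set G}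

theorem commute_conj {g x y : G} (h : Commute x y) : Commute (g * x * g⁻¹) (g * y * g⁻¹) :=
  h.map (MulAut.conj g).toMonoidHom

/-- A conjugation-closed set of 3-transpositions in which non-commuting members have a common neighbour and
lines are determined inside a neighbourhood. -/
structure LineCtx (D : Set G) : Prop where
  set : Cfsg.IsThreeTranspositionSet D
  conj : ∀ (g : G) {d : G}, d ∈ D → g * d * g⁻¹ ∈ D
  common_nonempty : ∀ {a d : G}, a ∈ D → d ∈ D → ¬ Commute a d → (common D a d).Nonempty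
  line_three : ∀ {q a x z : G}, q ∈ D → a ∈ adj D q → x ∈ adj D q → ¬ Commute a x → z ∈ adj D q →
    (∀ y ∈ adj D q, Commute y a → Commute y x → Commute y z) → z = a ∨ z = x ∨ z = a * x * a

theorem line_pow_three (C : LineCtx D) {a d : G} (ha : a ∈ D) (hd : d ∈ D) (had : ¬ Commute a d) :
    (a * d) ^ 3 = 1 :=
  pow_three_of_not_commute C.set ha hd had

theorem line_ne_one (C : LineCtx D) {a d : G} (_ha : a ∈ D) (hd : d ∈ D) (had : ¬ Commute a d) :
    a * d ≠ 1 := fun h => had (by
  rw [eq_inv_of_mul_eq_one_left h, inv_eq C.set hd])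

/-- Not both centralised and inverted. -/
theorem line_not_both (C : LineCtx D) {a d g : G} (ha : a ∈ D) (hd : d ∈ D) (had : ¬ Commute a d)
    (h1 : Commute g (a * d)) (h2 : g * (a * d) * g⁻¹ = (a * d)⁻¹) : False := by
  rw [h1.eq, mul_inv_cancel_right] at h2
  have h3 := line_pow_three C ha hd had
  have : (a * d) * (a * d) = 1 := by
    conv_lhs => arg 2; rw [h2]
    exact mul_inv_cancel _
  exact line_ne_one C ha hd had (by rw [pow_succ, pow_two, this, one_mul] at h3; exact h3)

theorem conj_line_left (C : LineCtx D) {a d : G} (ha : a ∈ D) (hd : d ∈ D) :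
    a * (a * d) * a⁻¹ = (a * d)⁻¹ := by
  rw [mul_inv_rev, inv_eq C.set ha, inv_eq C.set hd, mul_self_cancel C.set ha]

theorem conj_line_right (C : LineCtx D) {a d : G} (ha : a ∈ D) (hd : d ∈ D) :
    d * (a * d) * d⁻¹ = (a * d)⁻¹ := by
  rw [mul_inv_rev, inv_eq C.set ha, inv_eq C.set hd, ← mul_assoc, mul_assoc (d * a), mul_self C.set hd,
    mul_one]

/-- A member commuting with `a * d` commutes with `a` and with `d`. -/
theorem commute_of_line (C : LineCtx D) {a d q : G} (ha : a ∈ D) (hd : d ∈ D) (had : ¬ Commute a d)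
    (hq : q ∈ D) (h : Commute q (a * d)) : Commute q a ∧ Commute q d := by
  by_cases hqa : Commute q a
  · refine ⟨hqa, ?_⟩
    have := hqa.mul_right h
    rwa [← mul_assoc, mul_self C.set ha, one_mul] at this
  exfalso
  set x := a * d with hx
  have hc : (q * a) * x * (q * a)⁻¹ = x⁻¹ := by
    rw [show (q * a) * x * (q * a)⁻¹ = q * (a * x * a⁻¹) * q⁻¹ by group, hx, conj_line_left C ha hd, ← hx,
      h.inv_right.eq, mul_inv_cancel_right]
  have h3 : (q * a) ^ 3 = 1 := pow_three_of_not_commute C.set hq ha hqa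
  have hinv : (q * a) * x⁻¹ * (q * a)⁻¹ = x := by
    rw [← conj_inv, hc, inv_inv]
  have : (q * a) ^ 3 * x * ((q * a) ^ 3)⁻¹ = x⁻¹ := by
    rw [show (q * a) ^ 3 * x * ((q * a) ^ 3)⁻¹
      = (q * a) * ((q * a) * ((q * a) * x * (q * a)⁻¹) * (q * a)⁻¹) * (q * a)⁻¹ by
        simp only [pow_succ, pow_zero, one_mul, mul_inv_rev, mul_assoc], hc, hinv, hc]
  rw [h3, one_mul, inv_one, mul_one] at this
  exact line_not_both C ha hd had (Commute.one_left _) (by rw [one_mul, inv_one, mul_one]; exact this)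

/-- The members inverting `a * d` are the three members of the line. -/
theorem inverting_mem (C : LineCtx D) {a d e : G} (ha : a ∈ D) (hd : d ∈ D) (had : ¬ Commute a d)
    (he : e ∈ D) (h : e * (a * d) * e⁻¹ = (a * d)⁻¹) : e = a ∨ e = d ∨ e = a * d * a := by
  obtain ⟨q, hq⟩ := C.common_nonempty ha hd had
  have hD := C.set
  have H : ∀ y ∈ D, Commute y a → Commute y d → Commute y e := by
    intro y hy hya hyd
    by_contra hye
    have hyx : Commute y (a * d) := hya.mul_right hyd
    have hxy : Commute (e * y * e⁻¹) (a * d) := by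
      have h1 := (commute_conj (g := e) hyx)
      rw [h] at h1
      simpa using h1.inv_right
    have heq : e = y * (e * y * e⁻¹) * y := by
      rw [inv_eq hD he, ← braid hD hy he hye]
      simp only [mul_assoc, mul_self_cancel hD hy, mul_self hD hy, mul_one]
    refine line_not_both C ha hd had ?_ h
    rw [heq]
    exact (hyx.mul_left hxy).mul_left hyx
  have hqe : e ∈ adj D q := by
    refine ⟨he, fun e' => ?_, (H q hq.1.1 hq.1.2.2.symm hq.2.2.2.symm)⟩
    rw [e'] at h
    exact line_not_both C ha hd had (hq.1.2.2.symm.mul_right hq.2.2.2.symm) h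
  exact C.line_three hq.1.1 ⟨ha, hq.1.2.1.symm, hq.1.2.2.symm⟩ ⟨hd, hq.2.2.1.symm, hq.2.2.2.symm⟩ had hqe
    fun y hy => H y hy.1

/-- The members centralising `a * d`. -/
theorem inter_centralizer_line (C : LineCtx D) {a d : G} (ha : a ∈ D) (hd : d ∈ D) (had : ¬ Commute a d) :
    D ∩ (Subgroup.centralizer ((Subgroup.zpowers (a * d) : Subgroup G) : Set G) : Set G) = common D a d := by
  ext q
  constructor
  · rintro ⟨hq, hc⟩
    obtain ⟨h1, h2⟩ := commute_of_line C ha hd had hq
      ((Subgroup.mem_centralizer_iff.1 hc (a * d) (Subgroup.mem_zpowers _)).symm)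
    exact ⟨⟨hq, fun e => had (e ▸ h2), h1.symm⟩, hq, fun e => had (e ▸ h1).symm, h2.symm⟩
  · intro hq
    refine ⟨hq.1.1, Subgroup.mem_centralizer_iff.2 fun x hx => ?_⟩
    obtain ⟨i, rfl⟩ := Subgroup.mem_zpowers_iff.1 hx
    exact (((hq.1.2.2.symm.mul_right hq.2.2.2.symm).zpow_right i).symm)

theorem mem_normalizer_of_conj {g x : G} (h : g * x * g⁻¹ = x ∨ g * x * g⁻¹ = x⁻¹) :
    g ∈ Subgroup.normalizer ((Subgroup.zpowers x : Subgroup G) : Set G) := by
  have hm : (Subgroup.zpowers x).map (MulAut.conj g).toMonoidHom = Subgroup.zpowers x := by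
    rw [MonoidHom.map_zpowers]
    rcases h with h | h
    · exact congrArg _ h
    · exact (congrArg _ h).trans Subgroup.zpowers_inv
  rw [Subgroup.mem_normalizer_iff]
  intro y
  constructor
  · intro hy
    rw [← hm]
    exact ⟨y, hy, rfl⟩
  · intro hy
    rw [← hm] at hy
    obtain ⟨z, hz, e⟩ := hy
    rwa [← (MulAut.conj g).injective e]

/-- The normaliser of the line. -/
theorem normalizer_line (C : LineCtx D) {a d : G} (ha : a ∈ D) (hd : d ∈ D) (had : ¬ Commute a d) :
    Subgroup.closure ({a, d} : Set G) ⊔ (Subgroup.centralizer ({a} : Set G) ⊓ Subgroup.centralizer {d})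
      = Subgroup.normalizer ((Subgroup.zpowers (a * d) : Subgroup G) : Set G) := by
  have hD := C.set
  refine le_antisymm (sup_le ((Subgroup.closure_le _).2 ?_) ?_) fun g hg => ?_
  · rintro _ (rfl | rfl)
    exacts [mem_normalizer_of_conj (Or.inr (conj_line_left C ha hd)),
      mem_normalizer_of_conj (Or.inr (conj_line_right C ha hd))]
  · rintro g ⟨h1, h2⟩
    refine mem_normalizer_of_conj (Or.inl ?_)
    have c1 : Commute g a := Subgroup.mem_centralizer_singleton_iff.1 h1
    have c2 : Commute g d := Subgroup.mem_centralizer_singleton_iff.1 h2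
    have h : Commute g (a * d) := c1.mul_right c2
    rw [h.eq, mul_inv_cancel_right]
  -- the images of `a` and `d` invert the line
  have inv : ∀ e, e ∈ D → e * (a * d) * e⁻¹ = (a * d)⁻¹ →
      g * e * g⁻¹ = a ∨ g * e * g⁻¹ = d ∨ g * e * g⁻¹ = a * d * a := by
    intro e he h
    refine inverting_mem C ha hd had (C.conj g he) ?_
    obtain ⟨i, hi⟩ := Subgroup.mem_zpowers_iff.1
      ((Subgroup.mem_normalizer_iff.1 (inv_mem hg) (a * d)).1 (Subgroup.mem_zpowers _))
    rw [inv_inv] at hi
    have e1 : a * d = g * (a * d) ^ i * g⁻¹ := by rw [hi]; group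
    calc g * e * g⁻¹ * (a * d) * (g * e * g⁻¹)⁻¹ = g * (e * (g⁻¹ * (a * d) * g) * e⁻¹) * g⁻¹ := by group
      _ = g * ((a * d) ^ i)⁻¹ * g⁻¹ := by rw [← hi, ← conj_zpow, h, inv_zpow]
      _ = (a * d)⁻¹ := by rw [← conj_inv, ← e1]
  have ca := inv a ha (conj_line_left C ha hd)
  have cd := inv d hd (conj_line_right C ha hd)
  have hne : g * a * g⁻¹ ≠ g * d * g⁻¹ := fun e => had ((MulAut.conj g).injective e ▸ Commute.refl a)
  have hb : a * d * a = d * a * d := braid hD ha hd had
  suffices h : ∃ s ∈ Subgroup.closure ({a, d} : Set G), s * a * s⁻¹ = g * a * g⁻¹ ∧ s * d * s⁻¹ = g * d * g⁻¹ by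
    obtain ⟨s, hs, h1, h2⟩ := h
    rw [← mul_inv_cancel_left s g]
    refine Subgroup.mul_mem_sup hs ⟨Subgroup.mem_centralizer_singleton_iff.2 ?_,
      Subgroup.mem_centralizer_singleton_iff.2 ?_⟩ <;> apply mul_inv_eq_iff_eq_mul.1
    · rw [show s⁻¹ * g * a * (s⁻¹ * g)⁻¹ = s⁻¹ * (g * a * g⁻¹) * s by group, ← h1]; group
    · rw [show s⁻¹ * g * d * (s⁻¹ * g)⁻¹ = s⁻¹ * (g * d * g⁻¹) * s by group, ← h2]; group
  have ma : a ∈ Subgroup.closure ({a, d} : Set G) := Subgroup.subset_closure (Set.mem_insert _ _)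
  have md : d ∈ Subgroup.closure ({a, d} : Set G) := Subgroup.subset_closure (Set.mem_insert_of_mem _ rfl)
  have ia := inv_eq hD ha
  have idd := inv_eq hD hd
  have hb' : ∀ x, a * (d * (a * x)) = d * (a * (d * x)) := fun x => by
    rw [← mul_assoc, ← mul_assoc, hb, mul_assoc, mul_assoc]
  have hb'' : a * (d * a) = d * (a * d) := by rw [← mul_assoc, hb, mul_assoc]
  have norm : ∀ s ∈ Subgroup.closure ({a, d} : Set G), ∀ u w, s * a * s⁻¹ = u → s * d * s⁻¹ = w →
      g * a * g⁻¹ = u → g * d * g⁻¹ = w →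
      ∃ s ∈ Subgroup.closure ({a, d} : Set G), s * a * s⁻¹ = g * a * g⁻¹ ∧ s * d * s⁻¹ = g * d * g⁻¹ :=
    fun s hs u w h1 h2 h3 h4 => ⟨s, hs, h1.trans h3.symm, h2.trans h4.symm⟩
  rcases ca with e1 | e1 | e1 <;> rcases cd with e2 | e2 | e2
  all_goals first | exact absurd (e1.trans e2.symm) hne | skip
  case inl.inr.inl => exact norm 1 (one_mem _) a d (by group) (by group) e1 e2
  case inl.inr.inr => exact norm a ma a _ (by group) (by rw [ia]) e1 e2
  case inr.inl.inl =>
    refine norm _ (mul_mem (mul_mem ma md) ma) d a ?_ ?_ e1 e2 <;>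
      simp only [mul_inv_rev, ia, idd, mul_assoc, mul_self_cancel hD ha, mul_self_cancel hD hd, mul_self hD ha,
        mul_self hD hd, hb', hb'', mul_one, one_mul]
  case inr.inl.inr.inr =>
    refine norm _ (mul_mem ma md) d _ ?_ ?_ e1 e2 <;>
      simp only [mul_inv_rev, ia, idd, mul_assoc, mul_self_cancel hD ha, mul_self_cancel hD hd, mul_self hD ha,
        mul_self hD hd, hb', hb'', mul_one, one_mul]
  case inr.inr.inl =>
    refine norm _ (mul_mem md ma) _ a ?_ ?_ e1 e2 <;>
      simp only [mul_inv_rev, ia, idd, mul_assoc, mul_self_cancel hD ha, mul_self_cancel hD hd, mul_self hD ha,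
        mul_self hD hd, hb', hb'', mul_one, one_mul]
  case inr.inr.inr.inl =>
    refine norm d md _ d ?_ ?_ e1 e2 <;>
      simp only [mul_inv_rev, ia, idd, mul_assoc, mul_self_cancel hD ha, mul_self_cancel hD hd, mul_self hD ha,
        mul_self hD hd, hb', hb'', mul_one, one_mul]

/-- `Sym(3)`. -/
theorem closure_pair_sym (C : LineCtx D) {a d : G} (ha : a ∈ D) (hd : d ∈ D) (had : ¬ Commute a d) :
    Nonempty (↥(Subgroup.closure ({a, d} : Set G)) ≃* Equiv.Perm (Fin 3)) ∧
      Subgroup.closure ({a, d} : Set G) ⊓ (Subgroup.centralizer ({a} : Set G) ⊓ Subgroup.centralizer {d}) = ⊥ := by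
  have hD := C.set
  set t : ℕ → G := fun i => if i = 0 then a else d with ht
  obtain ⟨φ, hφ⟩ := exists_hom_perm (t := t) (n := 2) ⟨fun i _ => by
      rw [ht]; dsimp only; split <;> [exact mul_self hD ha; exact mul_self hD hd],
    fun i hi => by
      obtain rfl : i = 0 := by omega
      simpa [ht] using braid hD ha hd had,
    fun i j h1 h2 => by omega⟩
  have hr : φ.range = Subgroup.closure ({a, d} : Set G) := by
    rw [range_hom_perm hφ]
    congr 1
    ext x
    simp only [Set.mem_image, Set.mem_Iio, Set.mem_insert_iff, Set.mem_singleton_iff, ht]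
    constructor
    · rintro ⟨i, -, rfl⟩
      split <;> simp
    · rintro (rfl | rfl)
      exacts [⟨0, by norm_num, by simp⟩, ⟨1, by norm_num, by simp⟩]
  have h0 : φ (Equiv.swap 0 1) = a := by simpa [ht] using hφ 0
  have h1 : φ (Equiv.swap 1 2) = d := by simpa [ht] using hφ 1
  have hinj : Function.Injective φ := injective_perm_three (by rw [map_mul, h0, h1]; exact line_ne_one C ha hd had)
  refine ⟨⟨((MonoidHom.ofInjective hinj).trans (MulEquiv.subgroupCongr hr)).symm⟩, ?_⟩
  rw [eq_bot_iff]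
  rintro x ⟨hx, hxa, hxd⟩
  rw [SetLike.mem_coe, ← hr] at hx
  obtain ⟨σ, rfl⟩ := hx
  have c0 : σ * Equiv.swap 0 1 = Equiv.swap 0 1 * σ := hinj (by
    rw [map_mul, map_mul, h0]; exact Subgroup.mem_centralizer_singleton_iff.1 hxa)
  have c1 : σ * Equiv.swap 1 2 = Equiv.swap 1 2 * σ := hinj (by
    rw [map_mul, map_mul, h1]; exact Subgroup.mem_centralizer_singleton_iff.1 hxd)
  have key : ∀ τ : Equiv.Perm (Fin 3), τ * Equiv.swap 0 1 = Equiv.swap 0 1 * τ →
      τ * Equiv.swap 1 2 = Equiv.swap 1 2 * τ → τ = 1 := by decide +kernel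
  rw [key σ c0 c1, map_one]
  exact one_mem _

end Cfsg.Agent.ThreeTrans.Line
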