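/-
A 3-transposition group with trivial radical and perfect derived subgroup in which the odd core of
some `⟨D_x⟩` is not central in `⟨D_x⟩` is the symmetric group of degree five.

Main result: `equiv_perm_five`.
-/
import Cfsg.Agent.Lib.ThreeTrans.SymFrame
import Cfsg.Agent.Lib.ThreeTrans.ConnectedPerfect
import Cfsg.Agent.Lib.Cores.Basic

namespace Cfsg.Agent.ThreeTrans.CoreNoncentral

open Cfsg Cfsg.Agent.ThreeTransRank Cfsg.Agent.ThreeTrans.Frames
open Cfsg.Agent.ThreeTrans.LocalThree (commute_line)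
open Relation

variable {G : Type*} [Group G] {D : Set G}

/-- the odd core of `⟨D_x⟩`, as a subgroup of the whole group -/
def coreK (D : Set G) (x : G) : Subgroup G :=
  (oddCore ↥(Subgroup.closure (adj D x))).map (Subgroup.closure (adj D x)).subtype

theorem coreK_le (D : Set G) (x : G) : coreK D x ≤ Subgroup.closure (adj D x) :=
  Subgroup.map_subtype_le _

theorem coreK_conj {x h u : G} (hh : h ∈ Subgroup.closure (adj D x)) (hu : u ∈ coreK D x) :
    h * u * h⁻¹ ∈ coreK D x := by
  obtain ⟨w, hw, rfl⟩ := hu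
  exact ⟨⟨h, hh⟩ * w * ⟨h, hh⟩⁻¹, (Cores.pPrimeCore_normal 2 _).conj_mem w hw _, rfl⟩

theorem coreK_sq [Finite G] {x u : G} (hu : u ∈ coreK D x) (h : u * u = 1) : u = 1 := by
  obtain ⟨w, hw, rfl⟩ := hu
  have h1 : (⟨w, hw⟩ : oddCore ↥(Subgroup.closure (adj D x))) ^ 2 = 1 :=
    Subtype.ext (Subtype.ext (by simpa [pow_two] using h))
  have h2 := pow_card_eq_one' (x := (⟨w, hw⟩ : oddCore ↥(Subgroup.closure (adj D x))))
  have h3 := eq_one_of_pow_coprime h1 h2 (Cores.coprime_card_pPrimeCore 2).symm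
  rw [Subtype.ext_iff] at h3
  exact congrArg Subtype.val h3

theorem conj_adj_self (hconj : ∀ g : G, ∀ d ∈ D, g * d * g⁻¹ ∈ D) {x h a : G}
    (hh : h ∈ Subgroup.closure (adj D x)) (ha : a ∈ adj D x) : h * a * h⁻¹ ∈ adj D x := by
  have hc : Commute h x := commute_of_mem_closure_nbr hh
  have h2 := (conj_adj hconj h x (h * a * h⁻¹)).2 (by simpa [mul_assoc] using ha)
  rwa [hc.eq, mul_inv_cancel_right] at h2

/-- two non-commuting members of `D_x` congruent modulo the odd core -/
structure Pair (D : Set G) (x a b : G) : Prop where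
  left : a ∈ adj D x
  right : b ∈ adj D x
  ncomm : ¬ Commute a b
  core : a * b ∈ coreK D x

variable {x a b : G}

theorem Pair.symm (hD : IsThreeTranspositionSet D) (h : Pair D x a b) : Pair D x b a := by
  refine ⟨h.right, h.left, fun e => h.ncomm e.symm, ?_⟩
  have := inv_mem h.core
  rwa [mul_inv_rev, inv_eq hD h.left.1, inv_eq hD h.right.1] at this

/-- the third member of the line -/
theorem Pair.line (hD : IsThreeTranspositionSet D)
    (hconj : ∀ g : G, ∀ d ∈ D, g * d * g⁻¹ ∈ D) (h : Pair D x a b) :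
    Pair D x b (a * b * a) := by
  have h3 : a * b * a ∈ adj D x := by
    have := conj_adj_self hconj (Subgroup.subset_closure h.left) h.right
    rwa [inv_eq hD h.left.1] at this
  refine ⟨h.right, h3, fun e => h.ncomm ?_, ?_⟩
  · rw [braid hD h.left.1 h.right.1 h.ncomm] at e
    have h4 := e.map (MulAut.conj b).toMonoidHom
    have h5 : Commute b a := by
      simpa [inv_eq hD h.right.1, mul_assoc, mul_self hD h.right.1,
        mul_self_cancel hD h.right.1] using h4
    exact h5.symm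
  · have e : b * (a * b * a) = b * a * (b * a) := by simp only [mul_assoc]
    rw [e]
    exact mul_mem (h.symm hD).core (h.symm hD).core

/-- A member commuting with `x` and one end of a pair commutes with the other end. -/
theorem Pair.theta [Finite G] (hD : IsThreeTranspositionSet D)
    (hconj : ∀ g : G, ∀ d ∈ D, g * d * g⁻¹ ∈ D) (h : Pair D x a b) {e : G} (he : e ∈ D)
    (hex : Commute e x) (hea : e ≠ a) (_heb : e ≠ b) (hc : Commute e a) : Commute e b := by
  rcases eq_or_ne e x with rfl | hne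
  · exact h.right.2.2
  by_contra hn
  have heH : e ∈ Subgroup.closure (adj D x) :=
    Subgroup.subset_closure ⟨he, hne, hex.symm⟩
  set p := a * b * a with hp
  set q := e * b * e with hq
  have hpq : p * q ∈ coreK D x := by
    have hk := mul_mem h.core (coreK_conj heH h.core)
    rw [inv_eq hD he] at hk
    have e1 : p * q = a * b * (e * (a * b) * e) := by
      calc p * q = a * b * (a * e) * b * e := by rw [hp, hq]; simp only [mul_assoc]
        _ = a * b * (e * a) * b * e := by rw [hc.eq]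
        _ = _ := by simp only [mul_assoc]
    rwa [← e1] at hk
  have hb' := braid hD h.left.1 h.right.1 h.ncomm
  have hb'' := braid hD he h.right.1 hn
  have hcom : Commute p q := by
    rw [hp, hq, hb', hb'']
    have := hc.symm.map (MulAut.conj b).toMonoidHom
    simpa [inv_eq hD h.right.1] using this
  have h1 : p * q = 1 := coreK_sq hpq (by
    calc p * q * (p * q) = p * (q * p) * q := by simp only [mul_assoc]
      _ = (p * p) * (q * q) := by rw [← hcom.eq]; simp only [mul_assoc]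
      _ = 1 := by
        rw [mul_self hD (conj_mem hD hconj h.left.1 h.right.1),
          mul_self hD (conj_mem hD hconj he h.right.1), one_mul])
  apply hea
  rw [hp, hq, hb', hb''] at h1
  have h2 : a * e = 1 := by
    calc a * e = b * (b * a * b * (b * e * b)) * b := by
          simp only [mul_assoc, mul_self_cancel hD h.right.1, mul_self hD h.right.1, mul_one]
      _ = 1 := by rw [h1, mul_one, mul_self hD h.right.1]
  rw [eq_inv_of_mul_eq_one_right h2, inv_eq hD h.left.1]

theorem Pair.conj (hconj : ∀ g : G, ∀ d ∈ D, g * d * g⁻¹ ∈ D) (h : Pair D x a b) {g : G}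
    (hg : g ∈ Subgroup.closure (adj D x)) : Pair D x (g * a * g⁻¹) (g * b * g⁻¹) := by
  refine ⟨conj_adj_self hconj hg h.left, conj_adj_self hconj hg h.right, fun e => h.ncomm ?_, ?_⟩
  · simpa [mul_assoc] using e.map (MulAut.conj g⁻¹).toMonoidHom
  · have := coreK_conj hg h.core
    simpa [mul_assoc] using this

theorem exists_pair [Finite G] (hD : IsThreeTranspositionSet D)
    (hconj : ∀ g : G, ∀ d ∈ D, g * d * g⁻¹ ∈ D)
    (h : ¬ oddCore ↥(Subgroup.closure (adj D x)) ≤ Subgroup.center ↥(Subgroup.closure (adj D x))) :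
    ∃ a b, Pair D x a b := by
  obtain ⟨u, hu, hnu⟩ := SetLike.not_le_iff_exists.1 h
  by_contra hno
  apply hnu
  have hall : ∀ d ∈ adj D x, Commute d (u : G) := by
    intro d hd
    by_contra hdu
    apply hno
    have huH : (u : G) ∈ Subgroup.closure (adj D x) := u.2
    have hd' := conj_adj_self hconj huH hd
    have hcore : d * ((u : G) * d * (u : G)⁻¹) ∈ coreK D x := by
      have h1 : (u : G) ∈ coreK D x := ⟨u, hu, rfl⟩
      have h2 := mul_mem (coreK_conj (Subgroup.subset_closure hd) h1) (inv_mem h1)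
      rw [inv_eq hD hd.1] at h2
      simpa [mul_assoc] using h2
    refine ⟨d, _, hd, hd', fun hc => hdu ?_, hcore⟩
    have h2 : d * ((u : G) * d * (u : G)⁻¹) = 1 := coreK_sq hcore (by
      calc _ = d * (((u : G) * d * (u : G)⁻¹) * d) * ((u : G) * d * (u : G)⁻¹) := by
            simp only [mul_assoc]
        _ = (d * d) * (((u : G) * d * (u : G)⁻¹) * ((u : G) * d * (u : G)⁻¹)) := by
            rw [← hc.eq]; simp only [mul_assoc]
        _ = 1 := by rw [mul_self hD hd.1, mul_self hD hd'.1, one_mul])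
    have h3 := eq_inv_of_mul_eq_one_right h2
    rw [inv_eq hD hd.1] at h3
    show d * (u : G) = (u : G) * d
    calc d * (u : G) = (u : G) * d * (u : G)⁻¹ * (u : G) := by rw [h3]
      _ = _ := by group
  rw [Subgroup.mem_center_iff]
  intro g
  apply Subtype.ext
  show Commute (g : G) (u : G)
  obtain ⟨g, hg⟩ := g
  show Commute g (u : G)
  induction hg using Subgroup.closure_induction with
  | mem e he => exact hall e he
  | one => exact Commute.one_left _
  | mul p q _ _ hp hq => exact hp.mul_left hq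
  | inv p _ hp => exact hp.inv_left

variable {φ : Equiv.Perm (Fin 5) →* G}

theorem good_of_pair [Finite G] (hD : IsThreeTranspositionSet D)
    (hconj : ∀ g : G, ∀ d ∈ D, g * d * g⁻¹ ∈ D) {i j k l m : Fin 5}
    (h5 : Five i j k l m) (hp : Pair D (T φ i j) (T φ k l) (T φ k m)) : Good D φ :=
  good_of_one hconj h5 fun _v hv n1 n2 _ c1 c2 => hp.theta hD hconj hv c1 n1 n2 c2

/-- all six ordered pairs of the triangle opposite `(0 1)` -/
theorem triangle_pairs (hD : IsThreeTranspositionSet D)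
    (hconj : ∀ g : G, ∀ d ∈ D, g * d * g⁻¹ ∈ D)
    (hp : Pair D x (T φ 2 3) (T φ 3 4)) {k l m : Fin 5} (h5 : Five 0 1 k l m) :
    Pair D x (T φ k l) (T φ l m) := by
  have p1 : Pair D x (T φ 4 3) (T φ 3 2) := by
    rw [T_symm φ 4 3, T_symm φ 3 2]; exact hp.symm hD
  have p2 : Pair D x (T φ 3 2) (T φ 2 4) := by
    have := p1.line hD hconj
    rwa [T_conj φ (by decide) (by decide), T_symm φ 4 2] at this
  have p3 : Pair D x (T φ 4 2) (T φ 2 3) := by
    rw [T_symm φ 4 2, T_symm φ 2 3]; exact p2.symm hD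
  have p4 : Pair D x (T φ 3 4) (T φ 4 2) := by
    have := hp.line hD hconj
    rwa [T_conj φ (by decide) (by decide), T_symm φ 2 4] at this
  have p5 : Pair D x (T φ 2 4) (T φ 4 3) := by
    rw [T_symm φ 2 4, T_symm φ 4 3]; exact p4.symm hD
  have key : ∀ k l m : Fin 5, (0 ≠ k ∧ 1 ≠ k ∧ 0 ≠ l ∧ 1 ≠ l ∧ 0 ≠ m ∧ 1 ≠ m ∧ k ≠ l ∧ k ≠ m ∧
      l ≠ m) → (k = 2 ∧ l = 3 ∧ m = 4) ∨ (k = 4 ∧ l = 3 ∧ m = 2) ∨ (k = 3 ∧ l = 2 ∧ m = 4) ∨
      (k = 4 ∧ l = 2 ∧ m = 3) ∨ (k = 3 ∧ l = 4 ∧ m = 2) ∨ (k = 2 ∧ l = 4 ∧ m = 3) := by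
    decide +kernel
  rcases key k l m ⟨h5.ik, h5.jk, h5.il, h5.jl, h5.im, h5.jm, h5.kl, h5.km, h5.lm⟩ with
    ⟨rfl, rfl, rfl⟩ | ⟨rfl, rfl, rfl⟩ | ⟨rfl, rfl, rfl⟩ | ⟨rfl, rfl, rfl⟩ | ⟨rfl, rfl, rfl⟩ |
    ⟨rfl, rfl, rfl⟩
  exacts [hp, p1, p2, p3, p4, p5]

/-- A member of `D_x` outside the triangle cannot commute with the member `(j k)` next to `x`. -/
theorem kill [Finite G] (hD : IsThreeTranspositionClass D) (hc : pCore 3 G ≤ Subgroup.center G)
    (hf : Frame D φ) (hg : Good D φ) {i j k l m : Fin 5} (h5 : Five i j k l m)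
    (hp : Pair D (T φ i j) (T φ k l) (T φ l m)) {z : G} (hz : z ∈ adj D (T φ i j))
    (hza : ¬ Commute z (T φ l m)) (hzb : ¬ Commute z (T φ k l))
    (hzy : Commute z (T φ j k)) : False := by
  obtain ⟨hD', hconj, -⟩ := group_of_class hD
  set x := T φ i j with hx
  set y := T φ j k with hy
  set a := T φ l m with ha
  set b := T φ k l with hb
  have hxD : x ∈ D := hf.mem i j h5.ij
  have hyD : y ∈ D := hf.mem j k h5.jk
  have haD : a ∈ D := hf.mem l m h5.lm
  have hbD : b ∈ D := hf.mem k l h5.kl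
  have hxy : ¬ Commute x y := hf.meet i j k h5.ij h5.jk h5.ik
  have hyb : ¬ Commute y b := hf.meet j k l h5.jk h5.kl h5.jl
  have hya : Commute y a := T_commute φ h5.jl.symm h5.kl.symm h5.jm.symm h5.km.symm
  have hba : ¬ Commute b a := hf.meet k l m h5.kl h5.lm h5.km
  have hxa : Commute x a := T_commute φ h5.il.symm h5.jl.symm h5.im.symm h5.jm.symm
  -- the conjugate of `z` by `a b`
  have habH : a * b ∈ Subgroup.closure (adj D x) :=
    mul_mem (Subgroup.subset_closure hp.right) (Subgroup.subset_closure hp.left)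
  set z' := a * b * z * (a * b)⁻¹ with hz'
  have hz'mem : z' ∈ adj D x := conj_adj_self hconj habH hz
  have hcore : z' * z ∈ coreK D x := by
    have h1 : a * b ∈ coreK D x := (hp.symm hD').core
    have h2 := mul_mem h1 (coreK_conj (Subgroup.subset_closure hz) (inv_mem h1))
    rw [inv_eq hD' hz.1] at h2
    simpa [hz', mul_assoc] using h2
  have hne : z' ≠ z := fun e => hza (by
    have h1 : Commute z (a * b) := by
      show z * (a * b) = a * b * z
      calc z * (a * b) = z' * (a * b) := by rw [e]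
        _ = a * b * z := by rw [hz']; group
    exact (commute_line hD' haD hbD hz.1 (fun h => hba h.symm) h1).1)
  have hnc : ¬ Commute z' z := fun hcc => hne (by
    have h2 : z' * z = 1 := coreK_sq hcore (by
      calc z' * z * (z' * z) = z' * (z * z') * z := by simp only [mul_assoc]
        _ = (z' * z') * (z * z) := by rw [← hcc.eq]; simp only [mul_assoc]
        _ = 1 := by rw [mul_self hD' hz'mem.1, mul_self hD' hz.1, one_mul])
    rw [eq_inv_of_mul_eq_one_left h2, inv_eq hD' hz.1])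
  have hyz' : ¬ Commute y z' := by
    intro hcc
    apply hzb
    have e24 : b * a * y * a * b = T φ j l := by
      calc b * a * y * a * b = b * (a * y * a) * b := by simp only [mul_assoc]
        _ = b * y * b := by rw [conj_conj_of_commute hD' haD hya.symm]
        _ = y * b * y := (braid hD' hyD hbD hyb).symm
        _ = T φ j l := T_conj φ h5.jl.symm h5.kl.symm
    have h1 := hcc.map (MulAut.conj (a * b)⁻¹).toMonoidHom
    have h2 : Commute z (T φ j l) := by
      rw [← e24]
      have : Commute (b * a * y * a * b) z := by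
        simpa [hz', mul_assoc, inv_eq hD' haD, inv_eq hD' hbD, mul_self_cancel hD' haD,
          mul_self_cancel hD' hbD, mul_self hD' haD, mul_self hD' hbD] using h1
      exact this.symm
    rw [hb]
    refine line h5.kl.symm h5.jl.symm ?_ h2
    rw [T_symm φ k j]; exact hzy
  -- the frame through `z'`, good since `z', z` is a pair
  obtain ⟨ψ, hfψ, q01, q12, q23, q34⟩ := exists_frame hD' hconj hxD hyD hz'mem.1 hz.1 hz'mem.2.2
    hz.2.2 hzy.symm hxy hyz' hnc
  have hgψ : Good D ψ := by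
    have hp' : Pair D x z' z := ⟨hz'mem, hz, hnc, hcore⟩
    refine good_of_pair hD' hconj (φ := ψ) five_std.s23 ?_
    rw [T_symm ψ 3 2, q01, q23, q34]
    exact hp'
  -- the frame through `b`
  obtain ⟨χ, hfχ, r01, r12, r23, r34⟩ := exists_frame hD' hconj hxD hyD hbD hz.1
    (T_commute φ h5.ik.symm h5.jk.symm h5.il.symm h5.jl.symm) hz.2.2 hzy.symm hxy hyb
    fun h => hzb h.symm
  have r02 : T χ 0 2 = T φ i k := by
    rw [← T_conj χ (by decide : (2 : Fin 5) ≠ 0) (by decide : (2 : Fin 5) ≠ 1), r01, r12, hx, hy,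
      T_conj φ h5.ik.symm h5.jk.symm]
  have r02' : T χ 0 2 = T ψ 0 2 := by
    rw [← T_conj χ (by decide : (2 : Fin 5) ≠ 0) (by decide : (2 : Fin 5) ≠ 1),
      ← T_conj ψ (by decide : (2 : Fin 5) ≠ 0) (by decide : (2 : Fin 5) ≠ 1), r01, r12, q01, q12]
  have h34012 : Five 3 4 0 1 2 := by constructor <;> decide
  have hgχ : Good D χ := by
    refine good_of_one hconj h34012 ?_
    intro v hv n1 n2 n3 c1 c2
    rw [r34, ← q34] at c1
    rw [r01, ← q01] at c2 n1
    rw [r02'] at n2 ⊢
    rw [r12, ← q12] at n3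
    exact hgψ 3 4 0 1 2 h34012 v hv n1 n2 n3 c1 c2
  have r13 : T χ 1 3 = T φ j l := by
    rw [← T_conj χ (by decide : (3 : Fin 5) ≠ 1) (by decide : (3 : Fin 5) ≠ 2), r12, r23, hy, hb,
      T_conj φ h5.jl.symm h5.kl.symm]
  have r03 : T χ 0 3 = T φ i l := by
    rw [← T_conj χ (by decide : (3 : Fin 5) ≠ 0) (by decide : (3 : Fin 5) ≠ 1), r01, r13, hx,
      T_conj φ h5.il.symm h5.jl.symm]
  -- every neighbour of `a` is a neighbour of `z`
  have hsub : adj D a ⊆ adj D z := by
    intro v hv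
    refine ⟨hv.1, fun e => hza (e ▸ hv.2.2.symm), ?_⟩
    suffices hgoal : Commute v z from hgoal.symm
    -- a neighbour commuting with one of the three members of the plane of the letters `i, j, k`
    have key : Commute v (T φ i j) → Commute v z := by
      intro c1
      have n1 : v ≠ T φ l m := hv.2.1
      have n2 : v ≠ T φ l k := fun e => hba (by
        rw [hb, T_symm φ k l, ← e]; exact hv.2.2.symm)
      have n3 : v ≠ T φ m k := fun e => hf.meet k m l h5.km h5.lm.symm h5.kl (by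
        rw [T_symm φ k m, ← e, T_symm φ m l]; exact hv.2.2.symm)
      have c2 : Commute v b := by
        rw [hb, T_symm φ k l]
        exact hg i j l m k h5.s23.s34 v hv.1 n1 n2 n3 c1 hv.2.2.symm
      rw [← r34, T_symm χ 3 4]
      refine line (by decide : (3 : Fin 5) ≠ 4) (by decide : (3 : Fin 5) ≠ 2) ?_
        (by rw [r23]; exact c2)
      rw [T_symm χ 4 2]
      refine hgχ 0 1 2 3 4 five_std v hv.1 ?_ ?_ ?_ (by rw [r01]; exact c1) (by rw [r23]; exact c2)
      · rw [r23]; exact fun e => hba (e ▸ hv.2.2.symm)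
      · intro e
        exact hfχ.meet 4 2 3 (by decide) (by decide) (by decide)
          (by rw [T_symm χ 4 2, ← e, r23]; exact c2)
      · rw [r34]; exact fun e => hza (e ▸ hv.2.2.symm)
    have plane02 : Commute z (T φ i k) :=
      line h5.ik.symm h5.jk.symm hz.2.2.symm hzy
    by_cases m2 : v = T φ i k
    · exact m2 ▸ plane02.symm
    by_cases m3 : v = T φ j k
    · exact m3 ▸ hzy.symm
    by_cases m1 : v = T φ i j
    · exact m1 ▸ hz.2.2
    by_cases c1 : Commute v (T φ i j)
    · exact key c1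
    by_cases c2 : Commute v (T φ i k)
    · exact absurd (hg l m i k j
        ⟨h5.lm, h5.il.symm, h5.kl.symm, h5.jl.symm, h5.im.symm, h5.km.symm, h5.jm.symm, h5.ik,
          h5.ij, h5.jk.symm⟩ v hv.1 m2 m1 (by rw [T_symm φ k j]; exact m3) hv.2.2.symm c2) c1
    by_cases c3 : Commute v (T φ j k)
    · refine absurd ?_ c1
      rw [T_symm φ i j]
      exact hg l m j k i
        ⟨h5.lm, h5.jl.symm, h5.kl.symm, h5.il.symm, h5.jm.symm, h5.km.symm, h5.im.symm, h5.jk,
          h5.ij.symm, h5.ik.symm⟩ v hv.1 m3 (by rw [T_symm φ j i]; exact m1)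
          (by rw [T_symm φ k i]; exact m2) hv.2.2.symm c3
    have step : ∀ {p q r : Fin 5}, Five p q 4 r 3 → v ≠ T χ r 3 → Commute v (T χ r 3) →
        ¬ Commute v (T χ p r) → ¬ Commute v (T χ q r) → Commute v z := by
      intro p q r h hne' hc' np nq
      rcases exists_third hD' hconj hfχ hgχ h ⟨hv.1, hne', hc'.symm⟩ with
        ⟨h1, -⟩ | ⟨h1, -⟩ | ⟨-, h1⟩
      · exact absurd h1 np
      · exact absurd h1 nq
      · rw [← r34, T_symm χ 3 4]; exact h1
    have r12' : ¬ Commute v (T χ 1 2) := by rw [r12]; exact c3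
    have r02'' : ¬ Commute v (T χ 0 2) := by rw [r02]; exact c2
    have r01' : ¬ Commute v (T χ 0 1) := by rw [r01]; exact c1
    -- no neighbour of `a` is one of the members joining `l`
    have hnl : ∀ {n : Fin 5}, n ≠ l → n ≠ m → v ≠ T φ n l := fun hnl hnm e =>
      hf.meet _ l m hnl h5.lm hnm (e ▸ hv.2.2.symm)
    rcases exists_third hD' hconj hf hg h5 hv with ⟨h1, -⟩ | ⟨h1, -⟩ | ⟨h1, -⟩
    · exact step (p := 1) (q := 2) (r := 0) (by constructor <;> decide)
        (by rw [r03]; exact hnl h5.il h5.im) (by rw [r03]; exact h1)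
        (by rw [T_symm χ 1 0]; exact r01') (by rw [T_symm χ 2 0]; exact r02'')
    · exact step (p := 0) (q := 2) (r := 1) (by constructor <;> decide)
        (by rw [r13]; exact hnl h5.jl h5.jm) (by rw [r13]; exact h1)
        r01' (by rw [T_symm χ 2 1]; exact r12')
    · exact step (p := 0) (q := 1) (r := 2) (by constructor <;> decide)
        (by rw [r23]; exact hnl h5.kl h5.km) (by rw [r23]; exact h1)
        r02'' r12'
  have heq : adj D a = adj D z :=
    Set.eq_of_subset_of_ncard_le hsub (ncard_adj_eq hD hz.1 haD).le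
  exact hza (adj_inj hD ⟨x, hxD, y, hyD, fun e => hxy (e ▸ Commute.refl x)⟩ hc haD hz.1 heq ▸
    Commute.refl a)

/-- The neighbours of `x` are exactly the three members of its triangle. -/
theorem adj_eq_triangle [Finite G] (hD : IsThreeTranspositionClass D) (hrad : TrivialRadical G)
    (hf : Frame D φ) (hp : Pair D (T φ 0 1) (T φ 2 3) (T φ 3 4)) :
    adj D (T φ 0 1) = {T φ 2 3, T φ 2 4, T φ 3 4} := by
  obtain ⟨hD', hconj, -⟩ := group_of_class hD
  have hg : Good D φ := by
    refine good_of_pair hD' hconj five_std.s23 ?_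
    rw [T_symm φ 3 2]
    exact hp
  have hL : ∀ {k l m : Fin 5}, Five 0 1 k l m → T φ k l ∈ ({T φ 2 3, T φ 2 4, T φ 3 4} : Set G) := by
    intro k l m h
    have key : ∀ k l : Fin 5, (0 ≠ k ∧ 1 ≠ k ∧ 0 ≠ l ∧ 1 ≠ l ∧ k ≠ l) →
        (k = 2 ∧ l = 3) ∨ (k = 2 ∧ l = 4) ∨ (k = 3 ∧ l = 4) ∨
        (k = 3 ∧ l = 2) ∨ (k = 4 ∧ l = 2) ∨ (k = 4 ∧ l = 3) := by decide +kernel
    rcases key k l ⟨h.ik, h.jk, h.il, h.jl, h.kl⟩ with
      ⟨rfl, rfl⟩ | ⟨rfl, rfl⟩ | ⟨rfl, rfl⟩ | ⟨rfl, rfl⟩ | ⟨rfl, rfl⟩ | ⟨rfl, rfl⟩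
    · exact Or.inl rfl
    · exact Or.inr (Or.inl rfl)
    · exact Or.inr (Or.inr rfl)
    · exact Or.inl (T_symm φ 3 2)
    · exact Or.inr (Or.inl (T_symm φ 4 2))
    · exact Or.inr (Or.inr (T_symm φ 4 3))
  have hp24 := triangle_pairs hD' hconj hp (k := 2) (l := 4) (m := 3) five_std.s34
  have hthree : ({T φ 2 3, T φ 2 4, T φ 3 4} : Set G) ⊆ adj D (T φ 0 1) := by
    rintro u (rfl | rfl | rfl)
    exacts [hp.left, hp24.left, hp.right]
  -- a member outside the triangle commutes with all of it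
  have hout : ∀ z ∈ adj D (T φ 0 1), z ∉ ({T φ 2 3, T φ 2 4, T φ 3 4} : Set G) →
      Commute z (T φ 2 3) ∧ Commute z (T φ 2 4) ∧ Commute z (T φ 3 4) := by
    intro z hz hzL
    by_contra hno
    simp only [Set.mem_insert_iff, Set.mem_singleton_iff, not_or] at hzL
    obtain ⟨n1, n2, n3⟩ := hzL
    -- commuting with one forces commuting with all
    have e1 : Commute z (T φ 2 3) → Commute z (T φ 3 4) := fun c =>
      hp.theta hD' hconj hz.1 hz.2.2.symm n1 n3 c
    have e2 : Commute z (T φ 3 4) → Commute z (T φ 2 3) := fun c =>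
      (hp.symm hD').theta hD' hconj hz.1 hz.2.2.symm n3 n1 c
    have e3 : Commute z (T φ 2 4) → Commute z (T φ 3 4) := fun c => by
      rw [T_symm φ 3 4]
      exact hp24.theta hD' hconj hz.1 hz.2.2.symm n2 (by rw [T_symm φ 4 3]; exact n3) c
    have h34 : ¬ Commute z (T φ 3 4) := fun c => hno
      ⟨e2 c, line (by decide) (by decide) (e2 c) c, c⟩
    have h23 : ¬ Commute z (T φ 2 3) := fun c => h34 (e1 c)
    have h24 : ¬ Commute z (T φ 2 4) := fun c => h34 (e3 c)
    have hno' : ∀ {k l m : Fin 5}, Five 0 1 k l m → ¬ Commute z (T φ k l) := by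
      intro k l m h c
      rcases hL h with e | e | e <;> rw [e] at c
      exacts [h23 c, h24 c, h34 c]
    have hz0 : z ∈ adj D (T φ 0 1) := hz
    obtain ⟨k, l, m, h5, hzy⟩ : ∃ k l m, Five 0 1 k l m ∧ Commute z (T φ 1 k) := by
      have h5 : Five 2 3 4 0 1 := by constructor <;> decide
      rcases exists_third hD' hconj hf hg h5 hz with ⟨-, h⟩ | ⟨-, h⟩ | ⟨-, h⟩
      · exact ⟨2, 3, 4, five_std, by rw [T_symm φ 1 2]; exact h⟩
      · exact ⟨3, 2, 4, five_std.s23, by rw [T_symm φ 1 3]; exact h⟩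
      · exact ⟨4, 3, 2, five_std.s23.s34.s23, by rw [T_symm φ 1 4]; exact h⟩
    exact kill hD (centralCores_of_trivialRadical hrad).2 hf hg h5
      (triangle_pairs hD' hconj hp h5) hz0 (hno' h5.s23.s34) (hno' h5) hzy
  refine Set.Subset.antisymm ?_ hthree
  intro z hz
  have hreach := nbr_connected hrad hD (hf.mem 0 1 (by decide))
    (show T φ 2 3 ∈ nbr D (T φ 0 1) from hp.left) hz
  induction hreach with
  | refl => exact Or.inl rfl
  | @tail u v _ huv ih =>
    by_contra hv
    obtain ⟨c1, c2, c3⟩ := hout v huv.2.1 hv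
    rcases ih huv.1 with rfl | rfl | rfl
    exacts [huv.2.2 c1.symm, huv.2.2 c2.symm, huv.2.2 c3.symm]

theorem swap_of_conj : ∀ σ : Equiv.Perm (Fin 5), σ = 1 ∨ ∃ i j k : Fin 5, i ≠ j ∧ i ≠ k ∧ j ≠ k ∧
    σ * Equiv.swap i j * σ⁻¹ = Equiv.swap i k := by decide +kernel

/-- A frame is injective. -/
theorem frame_injective (hf : Frame D φ) : Function.Injective φ := by
  rw [injective_iff_map_eq_one]
  intro σ hσ
  rcases swap_of_conj σ with h | ⟨i, j, k, hij, hik, hjk, h⟩
  · exact h
  · exfalso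
    apply hf.meet j i k hij.symm hik hjk
    have e := map_conj_eq φ h
    rw [hσ, one_mul, inv_one, mul_one] at e
    show Commute (T φ j i) (T φ i k)
    rw [T_symm φ j i, show T φ i j = T φ i k from e]

/-- Fischer: if the odd core of some `⟨D_x⟩` is not central in it, the group is `S₅`. -/
theorem equiv_perm_five [Finite G] (hrad : TrivialRadical G)
    (hperf : ⁅commutator G, commutator G⁆ = commutator G) (hD : IsThreeTranspositionClass D)
    (hx : x ∈ D)
    (h : ¬ oddCore ↥(Subgroup.closure (adj D x)) ≤ Subgroup.center ↥(Subgroup.closure (adj D x))) :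
    Nonempty (G ≃* Equiv.Perm (Fin 5)) := by
  obtain ⟨hD', hconj, hgen⟩ := group_of_class hD
  have hc := (centralCores_of_trivialRadical hrad).2
  obtain ⟨a, b, hp⟩ := exists_pair hD' hconj h
  -- a third member tells the two members of the pair apart
  obtain ⟨a, b, y, hp, hy, hya, hyb⟩ : ∃ a b y, Pair D x a b ∧ y ∈ D ∧ y ∈ adj D a ∧
      ¬ Commute y b := by
    have h2 : ∃ u ∈ D, ∃ v ∈ D, u ≠ v :=
      ⟨a, hp.left.1, b, hp.right.1, fun e => hp.ncomm (e ▸ Commute.refl a)⟩
    have hne : adj D a ≠ adj D b := fun e =>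
      hp.ncomm (adj_inj hD h2 hc hp.left.1 hp.right.1 e ▸ Commute.refl a)
    by_contra hno
    push Not at hno
    apply hne
    apply Set.Subset.antisymm
    · intro y hy
      exact ⟨hy.1, fun e => hp.ncomm (e ▸ hy.2.2), (hno a b y hp hy.1 hy).symm⟩
    · intro y hy
      exact ⟨hy.1, fun e => hp.ncomm (e ▸ hy.2.2).symm,
        (hno b a y (hp.symm hD') hy.1 hy).symm⟩
  have hxb : Commute x b := hp.right.2.2
  have hxy : ¬ Commute x y := fun hc' => hyb
    (hp.theta hD' hconj hy hc'.symm hya.2.1 (fun e => hp.ncomm (e ▸ hya.2.2)) hya.2.2.symm)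
  obtain ⟨φ, hf, e01, e12, e23, e34⟩ := exists_frame hD' hconj hx hy hp.right.1 hp.left.1 hxb
    hp.left.2.2 hya.2.2.symm hxy hyb fun e => hp.ncomm e.symm
  have htri := adj_eq_triangle hD hrad hf (by rw [e01, e23, e34]; exact hp.symm hD')
  set S : Set G := φ '' {σ | ∃ i j : Fin 5, i ≠ j ∧ Equiv.swap i j = σ} with hS
  have hT : ∀ i j : Fin 5, i ≠ j → T φ i j ∈ S := fun i j hij => ⟨_, ⟨i, j, hij, rfl⟩, rfl⟩
  have hclosed : ∀ u ∈ S, adj D u ⊆ S := by
    rintro _ ⟨_, ⟨i, j, hij, rfl⟩, rfl⟩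
    obtain ⟨σ, s0, s1⟩ := exists_perm_pair hij
    show adj D (T φ i j) ⊆ S
    rw [← s0, ← s1, ← T_map φ σ, adj_conj_image hconj, htri]
    rintro _ ⟨u, hu, rfl⟩
    rcases hu with rfl | rfl | rfl <;>
    · show _ * T φ _ _ * _ ∈ S
      rw [T_map]
      exact hT _ _ fun e => absurd (σ.injective e) (by decide)
  have hDS : D ⊆ S := fun d hd =>
    LocalThree.reach_subset hclosed (hT 0 1 (by decide))
      (connected_of_perfect hD hperf _ (hf.mem 0 1 (by decide)) d hd)
  have htop : φ.range = ⊤ := by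
    rw [eq_top_iff, ← hgen, Subgroup.closure_le]
    intro d hd
    obtain ⟨σ, -, e⟩ := hDS hd
    exact ⟨σ, e⟩
  exact ⟨(MulEquiv.ofBijective φ ⟨frame_injective hf, MonoidHom.range_eq_top.1 htop⟩).symm⟩

end Cfsg.Agent.ThreeTrans.CoreNoncentral
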