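/-
Fischer spaces: the maps t(x) are automorphisms.

Main results:
* `lineMap_of_mem`, `lineMap_of_not`, `lineMap_lineMap`, `linePerm`
* `isIso_linePerm` (for Fischer spaces), `linePerm_conj`
-/
import Cfsg.Agent.EqLemmas

namespace Cfsg.Agent.ThreeTrans

open Cfsg Cfsg.LineSystem

variable {X : Type*} {L : Set (Set X)}

theorem line_eq (hP : IsPartialLinear L) (hT : ∀ l ∈ L, l.ncard = 3) {x y z z' : X}
    (hl : ({x, y, z} : Set X) ∈ L) (hl' : ({x, y, z'} : Set X) ∈ L) (hxy : x ≠ y) : z = z' := by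
  have h := hP _ hl _ hl' x y hxy (by simp) (by simp) (by simp) (by simp)
  have hz : z ∈ ({x, y, z'} : Set X) := by rw [← h]; simp
  have h3 := hT _ hl
  simp only [Set.mem_insert_iff, Set.mem_singleton_iff] at hz
  rcases hz with rfl | rfl | hz
  · exfalso
    have : ({z, y, z} : Set X) = {y, z} := by ext; simp only [Set.mem_insert_iff, Set.mem_singleton_iff]; tauto
    rw [this, Set.ncard_pair hxy.symm] at h3; omega
  · exfalso
    have : ({x, z, z} : Set X) = {x, z} := by simp
    rw [this, Set.ncard_pair hxy] at h3; omega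
  · exact hz

theorem line_ne (hT : ∀ l ∈ L, l.ncard = 3) {x y z : X} (hl : ({x, y, z} : Set X) ∈ L) :
    x ≠ y ∧ x ≠ z ∧ y ≠ z := by
  have h3 := hT _ hl
  refine ⟨?_, ?_, ?_⟩ <;> rintro rfl
  · have : ({x, x, z} : Set X) = {x, z} := by simp
    rw [this] at h3
    have := (Set.ncard_insert_le x ({z} : Set X))
    rw [Set.ncard_singleton] at this; omega
  · have : ({x, y, x} : Set X) = {y, x} := by ext; simp only [Set.mem_insert_iff, Set.mem_singleton_iff]; tauto
    rw [this] at h3
    have := (Set.ncard_insert_le y ({x} : Set X))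
    rw [Set.ncard_singleton] at this; omega
  · have : ({x, y, y} : Set X) = {x, y} := by simp
    rw [this] at h3
    have := (Set.ncard_insert_le x ({y} : Set X))
    rw [Set.ncard_singleton] at this; omega

theorem exists_third (hT : ∀ l ∈ L, l.ncard = 3) {l : Set X} (hl : l ∈ L) {x y : X}
    (hx : x ∈ l) (hy : y ∈ l) (hxy : x ≠ y) : ∃ z, l = {x, y, z} := by
  have hfin : l.Finite := Set.finite_of_ncard_ne_zero (by rw [hT l hl]; omega)
  have h1 : (l \ {x, y}).ncard = 1 := by
    rw [Set.ncard_sdiff (by intro a ha; simp at ha; rcases ha with rfl | rfl <;> assumption),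
      hT l hl, Set.ncard_pair hxy]
  obtain ⟨z, hz⟩ := Set.ncard_eq_one.1 h1
  refine ⟨z, ?_⟩
  ext a
  constructor
  · intro ha
    by_cases h : a ∈ ({x, y} : Set X)
    · simp at h; rcases h with rfl | rfl <;> simp
    · have : a ∈ l \ {x, y} := ⟨ha, h⟩
      rw [hz] at this; simp at this; simp [this]
  · intro ha
    simp at ha
    rcases ha with rfl | rfl | rfl
    · exact hx
    · exact hy
    · have : a ∈ l \ {x, y} := by rw [hz]; simp
      exact this.1

theorem lineMap_of_mem (hP : IsPartialLinear L) (hT : ∀ l ∈ L, l.ncard = 3) {x y z : X}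
    (hl : ({x, y, z} : Set X) ∈ L) : lineMap L x y = z := by
  obtain ⟨hxy, hxz, hyz⟩ := line_ne hT hl
  have h : ∃ w : X, w ≠ x ∧ w ≠ y ∧ x ≠ y ∧ ({x, y, w} : Set X) ∈ L :=
    ⟨z, hxz.symm, hyz.symm, hxy, hl⟩
  rw [lineMap]
  rw [dif_pos h]
  exact line_eq hP hT h.choose_spec.2.2.2 hl hxy

theorem lineMap_of_not (hT : ∀ l ∈ L, l.ncard = 3) {x y : X}
    (h : x = y ∨ ¬ Collinear L x y) : lineMap L x y = y := by
  rw [lineMap]
  rw [dif_neg]
  rintro ⟨z, -, -, hxy, hl⟩
  rcases h with h | h
  · exact hxy h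
  · exact h ⟨hxy, _, hl, by simp, by simp⟩

theorem lineMap_cases (hT : ∀ l ∈ L, l.ncard = 3) (x y : X) :
    (∃ z, ({x, y, z} : Set X) ∈ L) ∨ (x = y ∨ ¬ Collinear L x y) := by
  by_cases h : Collinear L x y
  · obtain ⟨hxy, l, hl, hx, hy⟩ := h
    obtain ⟨z, rfl⟩ := exists_third hT hl hx hy hxy
    exact Or.inl ⟨z, hl⟩
  · exact Or.inr (Or.inr h)

theorem lineMap_lineMap (hP : IsPartialLinear L) (hT : ∀ l ∈ L, l.ncard = 3) (x y : X) :
    lineMap L x (lineMap L x y) = y := by
  rcases lineMap_cases hT x y with ⟨z, hl⟩ | h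
  · rw [lineMap_of_mem hP hT hl, lineMap_of_mem hP hT (z := y)]
    have : ({x, z, y} : Set X) = {x, y, z} := by ext; simp only [Set.mem_insert_iff, Set.mem_singleton_iff]; tauto
    rw [this]; exact hl
  · rw [lineMap_of_not hT h, lineMap_of_not hT h]

/-- The map t(x) as a permutation. -/
noncomputable def linePerm (hP : IsPartialLinear L) (hT : ∀ l ∈ L, l.ncard = 3) (x : X) :
    Equiv.Perm X :=
  ⟨lineMap L x, lineMap L x, lineMap_lineMap hP hT x, lineMap_lineMap hP hT x⟩

theorem linePerm_self (hP : IsPartialLinear L) (hT : ∀ l ∈ L, l.ncard = 3) (x : X) :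
    linePerm hP hT x * linePerm hP hT x = 1 :=
  Equiv.ext (lineMap_lineMap hP hT x)

/-- Line systems in which all the maps t(x) are automorphisms. -/
def LineMapsAuto {Y : Type*} (M : Set (Set Y)) : Prop :=
  ∀ p : Y, ∀ l ∈ M, LineSystem.lineMap M p '' l ∈ M

theorem affine_partial : IsPartialLinear affinePlaneThree := by
  rintro l ⟨v, w, hw, rfl⟩ m ⟨v', w', hw', rfl⟩ x y hxy hx hy hx' hy'
  have key : ∀ v w : Fin 2 → ZMod 3, ∀ x y : Fin 2 → ZMod 3, x ≠ y →
      (∃ c : ZMod 3, x = v + c • w) → (∃ c : ZMod 3, y = v + c • w) →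
      {z : Fin 2 → ZMod 3 | ∃ c : ZMod 3, z = v + c • w} =
        {z | ∃ c : ZMod 3, z = x + c • (y - x)} := by
    rintro v w x y hne ⟨a, rfl⟩ ⟨b, rfl⟩
    have hab : b - a ≠ 0 := sub_ne_zero.2 fun h => hne (by rw [h])
    ext z
    simp only [Set.mem_ofPred_eq, add_sub_add_left_eq_sub, ← sub_smul, smul_smul, add_assoc,
      ← add_smul]
    constructor
    · rintro ⟨c, rfl⟩
      exact ⟨(c - a) / (b - a), by rw [div_mul_cancel₀ _ hab, add_sub_cancel]⟩
    · rintro ⟨c, rfl⟩
      exact ⟨_, rfl⟩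
  exact (key v w x y hxy hx hy).trans (key v' w' x y hxy hx' hy').symm

theorem affine_card : ∀ l ∈ affinePlaneThree, l.ncard = 3 := by
  rintro l ⟨v, w, hw, rfl⟩
  have : {x : Fin 2 → ZMod 3 | ∃ c : ZMod 3, x = v + c • w} =
      Set.range fun c : ZMod 3 => v + c • w := by ext; simp [eq_comm]
  rw [this, Set.ncard_range_of_injective, Nat.card_zmod]
  intro a b h
  by_contra hab
  exact hw ((smul_eq_zero.1 (show (a - b) • w = 0 by
    rw [sub_smul, sub_eq_zero]; exact add_left_cancel h)).resolve_left (sub_ne_zero.2 hab))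

theorem affine_auto : LineMapsAuto affinePlaneThree := by
  intro p l hl
  have hfun : LineSystem.lineMap affinePlaneThree p = fun q => -(p + q) := by
    funext q
    by_cases h : p = q
    · subst h
      rw [lineMap_of_not affine_card (Or.inl rfl)]
      funext i
      simp only [Pi.neg_apply, Pi.add_apply]
      generalize p i = a
      revert a; decide
    · refine lineMap_of_mem affine_partial affine_card ⟨p, q - p, sub_ne_zero.2 (Ne.symm h), ?_⟩
      ext z
      simp only [Set.mem_insert_iff, Set.mem_singleton_iff, Set.mem_ofPred_eq]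
      have h2 : p + (2 : ZMod 3) • (q - p) = -(p + q) := by
        funext i
        simp only [Pi.neg_apply, Pi.add_apply, Pi.smul_apply, Pi.sub_apply, smul_eq_mul]
        generalize p i = a
        generalize q i = b
        revert a b; decide
      constructor
      · rintro (rfl | rfl | rfl)
        · exact ⟨0, by simp⟩
        · exact ⟨1, by simp⟩
        · exact ⟨2, h2.symm⟩
      · rintro ⟨c, rfl⟩
        have hc : c = 0 ∨ c = 1 ∨ c = 2 := by clear h2; revert c; decide
        rcases hc with rfl | rfl | rfl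
        · simp
        · simp
        · simp [h2]
  rw [hfun]
  obtain ⟨v, w, hw, rfl⟩ := hl
  refine ⟨-(p + v), -w, neg_ne_zero.2 hw, ?_⟩
  ext z
  simp only [Set.mem_image, Set.mem_ofPred_eq]
  constructor
  · rintro ⟨q, ⟨c, rfl⟩, rfl⟩
    exact ⟨c, by rw [smul_neg]; abel⟩
  · rintro ⟨c, rfl⟩
    exact ⟨v + c • w, ⟨c, rfl⟩, by rw [smul_neg]; abel⟩

theorem dual_card : ∀ l ∈ dualAffinePlaneTwo, l.ncard = 3 := by
  rintro l ⟨i, rfl⟩
  rw [Set.ncard_eq_toFinset_card' ]
  revert i; decide +kernel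

theorem dual_partial : IsPartialLinear dualAffinePlaneTwo := by
  rintro l ⟨i, rfl⟩ m ⟨j, rfl⟩ x y hxy hx hy hx' hy'
  have key : ∀ (i j : Fin 4) (x y : DualAffinePoint), x ≠ y → i ∉ x.val → i ∉ y.val →
      j ∉ x.val → j ∉ y.val → i = j := by decide +kernel
  rw [key i j x y hxy hx hy hx' hy']

theorem dual_auto : LineMapsAuto dualAffinePlaneTwo := by
  intro p l hl
  -- the permutation of the four-element set exchanging the two members of `p`
  have key : ∀ p : DualAffinePoint, ∃ π : Equiv.Perm (Fin 4), π * π = 1 ∧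
      ∀ q : DualAffinePoint, ((p = q ∨ ∀ i, i ∈ p.val ∨ i ∈ q.val) ∧ q.val.image π = q.val) ∨
        ((∃ i, i ∉ p.val ∧ i ∉ q.val ∧ i ∉ q.val.image π) ∧ p ≠ q ∧
          q.val.image π ≠ p.val ∧ q.val.image π ≠ q.val) := by decide +kernel
  obtain ⟨π, hπ, hq⟩ := key p
  have himg : ∀ q : DualAffinePoint, (LineSystem.lineMap dualAffinePlaneTwo p q).val =
      q.val.image π := by
    intro q
    rcases hq q with ⟨h1, h2⟩ | ⟨⟨i, hi1, hi2, hi3⟩, hpq, h3, h4⟩
    · rw [lineMap_of_not dual_card, h2]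
      rcases h1 with h1 | h1
      · exact Or.inl h1
      · right
        rintro ⟨-, m, ⟨i, rfl⟩, hx, hy⟩
        exact (h1 i).elim hx hy
    · set r : DualAffinePoint := ⟨q.val.image π, by
        rw [Finset.card_image_of_injective _ π.injective]; exact q.2⟩ with hr
      have hl' : ({p, q, r} : Set DualAffinePoint) ∈ dualAffinePlaneTwo := by
        refine ⟨i, Set.eq_of_subset_of_ncard_le ?_ ?_ (Set.toFinite _)⟩
        · rintro a (rfl | rfl | rfl)
          · exact hi1
          · exact hi2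
          · exact hi3
        · rw [dual_card _ ⟨i, rfl⟩, Set.ncard_insert_of_notMem, Set.ncard_pair]
          · intro h; exact h4 (congrArg Subtype.val h).symm
          · simp only [Set.mem_insert_iff, Set.mem_singleton_iff, not_or]
            exact ⟨hpq, fun h => h3 (congrArg Subtype.val h).symm⟩
      rw [lineMap_of_mem dual_partial dual_card hl']
  obtain ⟨i, rfl⟩ := hl
  refine ⟨π i, ?_⟩
  have hππ : ∀ a, π (π a) = a := fun a => DFunLike.congr_fun hπ a
  ext z
  simp only [Set.mem_image, Set.mem_ofPred_eq]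
  constructor
  · rintro ⟨q, hiq, rfl⟩
    rw [himg]
    simp only [Finset.mem_image, not_exists, not_and]
    exact fun a ha h => hiq (π.injective h ▸ ha)
  · intro hz
    refine ⟨⟨z.val.image π, by rw [Finset.card_image_of_injective _ π.injective]; exact z.2⟩,
      ?_, ?_⟩
    · simp only [Finset.mem_image, not_exists, not_and]
      intro a ha h
      exact hz (by rw [← h, hππ]; exact ha)
    · apply Subtype.ext
      rw [himg]
      show (z.val.image π).image π = z.val
      rw [Finset.image_image]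
      convert Finset.image_id (s := z.val) using 2
      exact funext hππ

theorem linePerm_image (hL : IsFischerSpace L) (x : X) {l : Set X} (hl : l ∈ L) :
    lineMap L x '' l ∈ L := by
  obtain ⟨hP, hT, hplane⟩ := hL
  by_cases hxl : x ∈ l
  · have h : lineMap L x '' l = l := by
      have hsub : ∀ y ∈ l, lineMap L x y ∈ l := by
        intro y hy
        by_cases hxy : x = y
        · rw [lineMap_of_not hT (Or.inl hxy)]; exact hy
        · obtain ⟨z, rfl⟩ := exists_third hT hl hxl hy hxy
          rw [lineMap_of_mem hP hT hl]; simp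
      ext y
      constructor
      · rintro ⟨a, ha, rfl⟩; exact hsub a ha
      · intro hy; exact ⟨_, hsub y hy, lineMap_lineMap hP hT x y⟩
    rw [h]; exact hl
  by_cases hcol : ∃ y ∈ l, Collinear L x y
  · obtain ⟨y, hyl, hxy, m, hm, hxm, hym⟩ := hcol
    have hlm : l ≠ m := fun h => hxl (h ▸ hxm)
    set S := span L (l ∪ m) with hS
    have hsubS : l ∪ m ⊆ S := Set.subset_sInter fun T hT' => hT'.1
    have hSsub : IsSubspace L S := by
      intro n hn a ha b hb hab han hbn
      exact Set.subset_sInter fun T hT' =>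
        hT'.2 n hn a (ha T hT') b (hb T hT') hab han hbn
    have hxS : x ∈ S := hsubS (Or.inr hxm)
    have hlS : l ⊆ S := fun a ha => hsubS (Or.inl ha)
    -- transport to the model
    have main : ∀ {Y : Type} (M : Set (Set Y)), IsPartialLinear M → (∀ n ∈ M, n.ncard = 3) →
        LineMapsAuto M → Isomorphic (restrict L S) M → lineMap L x '' l ∈ L := by
      intro Y M hMP hMT hMA ⟨e, he⟩
      have hcorr : ∀ n ∈ L, n ⊆ S → e '' {s : S | (s : X) ∈ n} ∈ M :=
        fun n hn hnS => (he _).1 ⟨n, hn, hnS, rfl⟩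
      have hmap : ∀ s : S, lineMap L x s = (e.symm (LineSystem.lineMap M (e ⟨x, hxS⟩) (e s)) : X) := by
        intro s
        rcases lineMap_cases hT x s with ⟨z, hn⟩ | h
        · obtain ⟨hxs, -, -⟩ := line_ne hT hn
          have hnS : ({x, (s : X), z} : Set X) ⊆ S :=
            hSsub _ hn x hxS s s.2 hxs (by simp) (by simp)
          have hzS : z ∈ S := hnS (by simp)
          have himg : e '' {a : S | (a : X) ∈ ({x, (s : X), z} : Set X)} =
              {e ⟨x, hxS⟩, e s, e ⟨z, hzS⟩} := by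
            have : {a : S | (a : X) ∈ ({x, (s : X), z} : Set X)} = {⟨x, hxS⟩, s, ⟨z, hzS⟩} := by
              ext a; simp [Subtype.ext_iff]
            rw [this, Set.image_insert_eq, Set.image_pair]
          have hM := hcorr _ hn hnS
          rw [himg] at hM
          rw [lineMap_of_mem hP hT hn, lineMap_of_mem hMP hMT hM]
          simp
        · rw [lineMap_of_not hT h, lineMap_of_not hMT, Equiv.symm_apply_apply]
          rcases h with h | h
          · left; congr 1; exact Subtype.ext h
          · right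
            rintro ⟨hne, n, hn, hxn, hsn⟩
            obtain ⟨n', hn', -, heq⟩ := (he (e ⁻¹' n)).2 (by rwa [Equiv.image_preimage])
            refine h ⟨fun h' => hne (congrArg e (Subtype.ext h')), n', hn', ?_, ?_⟩
            · have : (⟨x, hxS⟩ : S) ∈ e ⁻¹' n := hxn
              rw [heq] at this; exact this
            · have : s ∈ e ⁻¹' n := hsn
              rw [heq] at this; exact this
      have hM := hMA (e ⟨x, hxS⟩) _ (hcorr l hl hlS)
      obtain ⟨n', hn', hn'S, heq⟩ := (he (e ⁻¹' _)).2 (by rwa [Equiv.image_preimage])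
      convert hn' using 1
      ext a
      constructor
      · rintro ⟨b, hb, rfl⟩
        have h1 := hmap ⟨b, hlS hb⟩
        simp only at h1
        rw [h1]
        have : e.symm (LineSystem.lineMap M (e ⟨x, hxS⟩) (e ⟨b, hlS hb⟩)) ∈
            e ⁻¹' (LineSystem.lineMap M (e ⟨x, hxS⟩) '' (e '' {s : S | (s : X) ∈ l})) := by
          rw [Set.mem_preimage, Equiv.apply_symm_apply]
          exact ⟨_, ⟨⟨b, hlS hb⟩, hb, rfl⟩, rfl⟩
        rw [heq] at this; exact this
      · intro ha
        have : (⟨a, hn'S ha⟩ : S) ∈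
            e ⁻¹' (LineSystem.lineMap M (e ⟨x, hxS⟩) '' (e '' {s : S | (s : X) ∈ l})) := by
          rw [heq]; exact ha
        obtain ⟨_, ⟨s, hs, rfl⟩, hs2⟩ := this
        exact ⟨s, hs, by rw [hmap s, hs2]; simp⟩
    rcases hplane l hl m hm hlm ⟨y, hyl, hym⟩ with h | h
    · exact main _ dual_partial dual_card dual_auto h
    · exact main _ affine_partial affine_card affine_auto h
  · have h : lineMap L x '' l = l := by
      have hfix : ∀ y ∈ l, lineMap L x y = y := fun y hy =>
        lineMap_of_not hT (Or.inr fun h => hcol ⟨y, hy, h⟩)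
      ext y
      constructor
      · rintro ⟨a, ha, rfl⟩; rw [hfix a ha]; exact ha
      · intro hy; exact ⟨y, hy, hfix y hy⟩
    rw [h]; exact hl

theorem isIso_linePerm (hL : IsFischerSpace L) (x : X) :
    IsIso L L (linePerm hL.1 hL.2.1 x) := by
  intro l
  refine ⟨linePerm_image hL x, fun h => ?_⟩
  have := linePerm_image hL x h
  have h2 : lineMap L x '' (linePerm hL.1 hL.2.1 x '' l) = l := by
    ext a
    constructor
    · rintro ⟨_, ⟨b, hb, rfl⟩, rfl⟩
      show lineMap L x (lineMap L x b) ∈ l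
      rw [lineMap_lineMap hL.1 hL.2.1]; exact hb
    · exact fun ha => ⟨_, ⟨a, ha, rfl⟩, lineMap_lineMap hL.1 hL.2.1 x a⟩
  rwa [h2] at this

theorem linePerm_conj (hP : IsPartialLinear L) (hT : ∀ l ∈ L, l.ncard = 3) {e : Equiv.Perm X}
    (he : IsIso L L e) (y : X) : e * linePerm hP hT y * e⁻¹ = linePerm hP hT (e y) := by
  rw [mul_inv_eq_iff_eq_mul]
  refine Equiv.ext fun a => ?_
  show e (lineMap L y a) = lineMap L (e y) (e a)
  rcases lineMap_cases hT y a with ⟨z, hl⟩ | h
  · have h2 := (he _).1 hl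
    rw [Set.image_insert_eq, Set.image_pair] at h2
    rw [lineMap_of_mem hP hT hl, lineMap_of_mem hP hT h2]
  · rw [lineMap_of_not hT h, lineMap_of_not hT]
    rcases h with h | h
    · exact Or.inl (by rw [h])
    · right
      rintro ⟨hne, m, hm, h1, h2⟩
      refine h ⟨fun h' => hne (by rw [h']), e ⁻¹' m, ?_, h1, h2⟩
      exact (he _).2 (by rwa [Equiv.image_preimage])

theorem linePerm_prod (hL : IsFischerSpace L) (x y : X) :
    (linePerm hL.1 hL.2.1 x * linePerm hL.1 hL.2.1 y) ^ 2 = 1 ∨
    (linePerm hL.1 hL.2.1 x * linePerm hL.1 hL.2.1 y) ^ 3 = 1 := by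
  have inv' : ∀ a, (linePerm hL.1 hL.2.1 a)⁻¹ = linePerm hL.1 hL.2.1 a :=
    fun a => inv_eq_of_mul_eq_one_left (linePerm_self _ _ a)
  have hxy := linePerm_conj hL.1 hL.2.1 (isIso_linePerm hL x) y
  have hyx := linePerm_conj hL.1 hL.2.1 (isIso_linePerm hL y) x
  rw [inv'] at hxy hyx
  rcases lineMap_cases hL.2.1 x y with ⟨z, hl⟩ | h
  · right
    have h1 : linePerm hL.1 hL.2.1 x y = z := lineMap_of_mem hL.1 hL.2.1 hl
    have h2 : linePerm hL.1 hL.2.1 y x = z := lineMap_of_mem hL.1 hL.2.1 (by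
      have : ({y, x, z} : Set X) = {x, y, z} := by ext; simp only [Set.mem_insert_iff, Set.mem_singleton_iff]; tauto
      rw [this]; exact hl)
    rw [h1] at hxy; rw [h2] at hyx
    calc (linePerm hL.1 hL.2.1 x * linePerm hL.1 hL.2.1 y) ^ 3
        = (linePerm hL.1 hL.2.1 x * linePerm hL.1 hL.2.1 y * linePerm hL.1 hL.2.1 x) *
          (linePerm hL.1 hL.2.1 y * linePerm hL.1 hL.2.1 x * linePerm hL.1 hL.2.1 y) := by
          simp only [pow_succ, pow_zero, one_mul, mul_assoc]
      _ = 1 := by rw [hxy, hyx, linePerm_self]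
  · left
    have h1 : linePerm hL.1 hL.2.1 x y = y := lineMap_of_not hL.2.1 h
    rw [h1] at hxy
    calc (linePerm hL.1 hL.2.1 x * linePerm hL.1 hL.2.1 y) ^ 2
        = linePerm hL.1 hL.2.1 x * linePerm hL.1 hL.2.1 y * linePerm hL.1 hL.2.1 x *
          linePerm hL.1 hL.2.1 y := by simp only [pow_two, mul_assoc]
      _ = 1 := by rw [hxy, linePerm_self]

end Cfsg.Agent.ThreeTrans
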