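/-
Classes in which members that commute have the same centraliser in the class.

Main results:
* `exists_sylow_normalized` : a Sylow 3-subgroup normalised by a given member
* `generated_by_sylow` : together with that member and the 2-core it generates
* `commute_conj_of_pairs` : with exactly one commuting partner, any three mutually non-commuting
  members lie in one copy of the symmetric group of degree four
-/
import Cfsg.Agent.Lib.ThreeTrans.Classes
import Cfsg.Agent.Lib.ThreeTrans.WidthOne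
import Cfsg.Agent.Lib.ThreeTrans.Central

namespace Cfsg.Agent.ThreeTrans

open Cfsg

variable {G : Type*} [Group G] {D : Set G}

/-- Commuting members have the same centraliser in `D`. -/
def CommuteIsVRel (D : Set G) : Prop := ∀ x ∈ D, ∀ y ∈ D, Commute x y → VRel D x y

theorem commuteIsVRel_of_one (hD : IsThreeTranspositionClass D) {d : G} (hd : d ∈ D)
    (h : ∀ y ∈ D, Commute d y → VRel D d y) : CommuteIsVRel D := by
  have hg := group_of_class hD
  intro x hx y hy hxy e he
  obtain ⟨g, rfl⟩ := class_conj hD hd hx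
  have tr : ∀ z u : G, Commute (g * z * g⁻¹) u ↔ Commute z (g⁻¹ * u * g) := by
    intro z u
    constructor <;> intro hh
    · simpa [mul_assoc] using hh.map (MulAut.conj g⁻¹).toMonoidHom
    · simpa [mul_assoc] using hh.map (MulAut.conj g).toMonoidHom
  have hy' : g⁻¹ * y * g ∈ D := by simpa using hg.2.1 g⁻¹ y hy
  have he' : g⁻¹ * e * g ∈ D := by simpa using hg.2.1 g⁻¹ e he
  have h1 := h _ hy' ((tr d y).1 hxy) _ he'
  have e2 : y = g * (g⁻¹ * y * g) * g⁻¹ := by group
  rw [e2, tr, tr]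
  exact h1

theorem mul_mem_of_commute [Finite G] (hD : IsThreeTranspositionGroup D) (hp : CommuteIsVRel D)
    {x y : G} (hx : x ∈ D) (hy : y ∈ D) (h : Commute x y) : x * y ∈ pCore 2 G :=
  mul_mem_pCore_two_of_vRel hD.1 hD.2.1 hx hy (hp x hx y hy h)

theorem exists_sylow_normalized [Finite G] (hD : IsThreeTranspositionGroup D) (hp : CommuteIsVRel D)
    {d f : G} (hd : d ∈ D) (hf : f ∈ D) (hdf : ¬ Commute d f) :
    ∃ P : Sylow 3 G, d ∈ Subgroup.normalizer (P : Set G) := by
  have : Fact (Nat.Prime 3) := ⟨Nat.prime_three⟩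
  have : Fact (Nat.Prime 2) := ⟨Nat.prime_two⟩
  have hdd := mul_self hD.1 hd
  have dinv := inv_eq hD.1 hd
  have norm_of : ∀ Q : Subgroup G, (∀ q ∈ Q, d * q * d⁻¹ ∈ Q) →
      d ∈ Subgroup.normalizer (Q : Set G) := by
    intro Q h
    rw [Subgroup.mem_normalizer_iff]
    refine fun q => ⟨h q, fun hq => ?_⟩
    have := h _ hq
    rw [dinv] at this
    simpa [mul_assoc, hdd, mul_self_cancel hD.1 hd] using this
  let S : Set (Subgroup G) :=
    {Q | IsPGroup 3 Q ∧ d * f ∈ Q ∧ d ∈ Subgroup.normalizer (Q : Set G)}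
  have hne : (Subgroup.zpowers (d * f)) ∈ S := by
    refine ⟨IsPGroup.of_card (n := 1) ?_, Subgroup.mem_zpowers _, norm_of _ ?_⟩
    · rw [Nat.card_zpowers, pow_one]
      refine orderOf_eq_prime (pow_three_of_not_commute hD.1 hd hf hdf) fun h => hdf ?_
      rw [mul_eq_one_iff_eq_inv, inv_eq hD.1 hf] at h
      rw [h]
    · rintro _ ⟨k, rfl⟩
      show d * (d * f) ^ k * d⁻¹ ∈ _
      rw [← conj_zpow]
      refine Subgroup.zpow_mem _ ?_ k
      have e : d * (d * f) * d⁻¹ = (d * f)⁻¹ := by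
        rw [mul_inv_rev, dinv, inv_eq hD.1 hf, mul_self_cancel hD.1 hd]
      rw [e]
      exact inv_mem (Subgroup.mem_zpowers _)
  obtain ⟨Q, ⟨hQ3, hQf, hQd⟩, hmax⟩ :=
    Set.exists_max_image S (fun Q => Nat.card Q) (Set.toFinite _) ⟨_, hne⟩
  obtain ⟨P, hQP⟩ := hQ3.exists_le_sylow
  refine ⟨P, ?_⟩
  suffices hPQ : (P : Subgroup G) = Q by
    show d ∈ Subgroup.normalizer ((P : Subgroup G) : Set G)
    rw [hPQ]; exact hQd
  by_contra hPQ
  -- the normaliser condition in the Sylow subgroup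
  obtain ⟨n, hnP, hnQ, hnN⟩ : ∃ n ∈ (P : Subgroup G), n ∉ Q ∧ n ∈ Subgroup.normalizer (Q : Set G) := by
    have hlt : Q.subgroupOf P < ⊤ := lt_top_iff_ne_top.2 fun h =>
      hPQ (le_antisymm (Subgroup.subgroupOf_eq_top.1 h) hQP)
    have := P.2.isNilpotent
    obtain ⟨n, hn, hn'⟩ := SetLike.exists_of_lt (Group.normalizerCondition_of_isNilpotent _ hlt)
    refine ⟨n, n.2, hn', ?_⟩
    rw [Subgroup.mem_normalizer_iff] at hn ⊢
    intro q
    constructor
    · intro hq
      have := (hn ⟨q, hQP hq⟩).1 hq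
      exact this
    · intro hq
      have hqP : q ∈ (P : Subgroup G) := by
        have := (P : Subgroup G).mul_mem
          ((P : Subgroup G).mul_mem ((P : Subgroup G).inv_mem n.2) (hQP hq)) n.2
        simpa [mul_assoc] using this
      exact (hn ⟨q, hqP⟩).2 hq
  have extend : ∀ z : G, z ∈ Subgroup.normalizer (Q : Set G) → IsPGroup 3 (Subgroup.zpowers z) →
      z ∉ Q → (d * z * d⁻¹ = z ∨ d * z * d⁻¹ = z⁻¹) → False := by
    intro z hzN hz3 hzQ hzd
    set Q' := Q ⊔ Subgroup.zpowers z with hQ'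
    have h' : Q' ∈ S := by
      refine ⟨IsPGroup.to_sup_of_normal_left' hQ3 hz3 (Subgroup.zpowers_le.2 hzN),
        le_sup_left (a := Q) hQf, norm_of _ ?_⟩
      have hle : Q'.map (MulAut.conj d).toMonoidHom ≤ Q' := by
        rw [hQ', Subgroup.map_sup]
        refine sup_le (le_trans ?_ le_sup_left) (le_trans ?_ le_sup_right)
        · rintro _ ⟨q, hq, rfl⟩
          exact (Subgroup.mem_normalizer_iff.1 hQd q).1 hq
        · rw [MonoidHom.map_zpowers, Subgroup.zpowers_le]
          show d * z * d⁻¹ ∈ _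
          rcases hzd with h | h <;> rw [h]
          · exact Subgroup.mem_zpowers z
          · exact inv_mem (Subgroup.mem_zpowers z)
      exact fun q hq => hle ⟨q, hq, rfl⟩
    have hlt : Q < Q' := lt_of_le_of_ne le_sup_left fun h =>
      hzQ (h ▸ (le_sup_right (a := Q) (Subgroup.mem_zpowers z)))
    exact absurd (hmax Q' h') (not_le.2 (by
      by_contra hh
      exact hlt.ne (Subgroup.eq_of_le_of_card_ge hlt.le (not_lt.1 hh))))
  have central : ∀ m ∈ (P : Subgroup G), m ∉ Q → m ∈ Subgroup.normalizer (Q : Set G) →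
      Commute d m → False := by
    intro m hmP hmQ hmN hdm
    refine extend m hmN (P.2.to_le (Subgroup.zpowers_le.2 hmP)) hmQ (Or.inl ?_)
    rw [hdm.eq, mul_assoc, mul_inv_cancel, mul_one]
  set e := n * d * n⁻¹ with he
  have heD : e ∈ D := hD.2.1 n d hd
  have hzN : d * e ∈ Subgroup.normalizer (Q : Set G) :=
    mul_mem hQd (mul_mem (mul_mem hnN hQd) (inv_mem hnN))
  by_cases hde : Commute d e
  · -- then `d * e` centralises `Q`, so `e = d`
    have hzR := mul_mem_of_commute hD hp hd heD hde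
    have hcomm : Commute (d * e) (d * f) := by
      have h1 : (d * e) * (d * f) * (d * e)⁻¹ * (d * f)⁻¹ ∈ pCore 2 G ⊓ Q := by
        refine ⟨?_, Q.mul_mem ((Subgroup.mem_normalizer_iff.1 hzN _).1 hQf) (Q.inv_mem hQf)⟩
        have := (pCore 2 G).mul_mem hzR
          (Subgroup.Normal.conj_mem inferInstance _ ((pCore 2 G).inv_mem hzR) (d * f))
        simpa [mul_assoc] using this
      obtain ⟨j, hj⟩ := (Cores.isPGroup_pCore 2 G) ⟨_, h1.1⟩
      obtain ⟨k, hk⟩ := hQ3 ⟨_, h1.2⟩
      have h2 := eq_one_of_pow_coprime (congrArg Subtype.val hj) (congrArg Subtype.val hk)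
        (Nat.Coprime.pow j k (by norm_num))
      exact commutatorElement_eq_one_iff_commute.1 h2
    have hz1 : d * e = 1 := by
      have c1 : Commute (d * e) d := (Commute.refl d).mul_left hde.symm
      have c2 : Commute (d * e) f := by
        have := c1.mul_right hcomm
        rwa [mul_self_cancel hD.1 hd] at this
      have hz2 : (d * e) ^ 2 = 1 := (commute_iff_sq hD.1 hd heD).1 hde
      have e1 : e * f = (d * e) * (d * f) := by
        rw [hde.eq, mul_assoc e d (d * f), mul_self_cancel hD.1 hd]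
      rcases hD.1.2 e heD f hf with h | h
      · rw [e1, hcomm.mul_pow, hz2, one_mul] at h
        exact absurd ((commute_iff_sq hD.1 hd hf).2 h) hdf
      · rw [e1, hcomm.mul_pow, pow_three_of_not_commute hD.1 hd hf hdf, mul_one, pow_succ, hz2,
          one_mul] at h
        exact h
    rw [mul_eq_one_iff_eq_inv, inv_eq hD.1 heD] at hz1
    refine central n hnP hnQ hnN ?_
    show d * n = n * d
    conv_lhs => rw [hz1, he]
    group
  · have hz3 := pow_three_of_not_commute hD.1 hd heD hde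
    by_cases hzQ : d * e ∈ Q
    · refine central ((d * e)⁻¹ * n) ((P : Subgroup G).mul_mem ((P : Subgroup G).inv_mem (hQP hzQ)) hnP)
        (fun h => hnQ ?_) (mul_mem (inv_mem hzN) hnN) ?_
      · have := Q.mul_mem hzQ h
        rwa [mul_inv_cancel_left] at this
      · have hne : n * d = e * n := by rw [he]; group
        show d * ((d * e)⁻¹ * n) = (d * e)⁻¹ * n * d
        rw [mul_inv_rev, inv_eq hD.1 heD, dinv, mul_assoc (e * d) n d, hne]
        have hb := braid hD.1 hd heD hde
        calc d * (e * d * n) = (d * e * d) * n := by simp only [mul_assoc]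
          _ = e * d * (e * n) := by rw [hb]; simp only [mul_assoc]
    · refine extend (d * e) hzN (IsPGroup.of_card (n := 1) ?_) hzQ (Or.inr ?_)
      · rw [Nat.card_zpowers, pow_one]
        exact orderOf_eq_prime hz3 fun h => hzQ (h ▸ Q.one_mem)
      · rw [mul_inv_rev, dinv, inv_eq hD.1 heD, mul_self_cancel hD.1 hd]

theorem generated_by_sylow [Finite G] (hD : IsThreeTranspositionGroup D) (hp : CommuteIsVRel D)
    (hnc : ∀ x ∈ D, ∃ y ∈ D, ¬ Commute x y) {d : G} (hd : d ∈ D) (P : Sylow 3 G) :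
    Subgroup.zpowers d ⊔ (P : Subgroup G) ⊔ pCore 2 G = ⊤ := by
  have : Fact (Nat.Prime 3) := ⟨Nat.prime_three⟩
  set π := QuotientGroup.mk' (pCore 2 G) with hπ
  have hsurj : Function.Surjective π := QuotientGroup.mk'_surjective _
  have hcube : CubeSet (π '' D) := by
    refine ⟨?_, ?_, ?_⟩
    · rintro _ ⟨x, hx, rfl⟩
      refine orderOf_eq_prime (by rw [← map_pow, pow_two, mul_self hD.1 hx, map_one]) fun h => ?_
      obtain ⟨y, hy, hxy⟩ := hnc x hx
      have h2 : π ((x * y) ^ 2) = 1 := by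
        rw [map_pow, map_mul, h, one_mul, ← map_pow, pow_two, mul_self hD.1 hy, map_one]
      obtain ⟨j, hj⟩ := (Cores.isPGroup_pCore 2 G) ⟨_, (QuotientGroup.eq_one_iff _).1 h2⟩
      have hj' : ((x * y) ^ 2) ^ 2 ^ j = 1 := congrArg Subtype.val hj
      have h3 : ((x * y) ^ 2) ^ 3 = 1 := by
        rw [← pow_mul, mul_comm, pow_mul, pow_three_of_not_commute hD.1 hx hy hxy, one_pow]
      exact hxy ((commute_iff_sq hD.1 hx hy).2
        (eq_one_of_pow_coprime hj' h3 (Nat.Coprime.pow_left j (by norm_num))))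
    · rintro q _ ⟨x, hx, rfl⟩
      obtain ⟨g, rfl⟩ := hsurj q
      exact ⟨g * x * g⁻¹, hD.2.1 g x hx, by rw [map_mul, map_mul, map_inv]⟩
    · rintro _ ⟨x, hx, rfl⟩ _ ⟨y, hy, rfl⟩
      by_cases hxy : Commute x y
      · have h : π (x * y) = 1 := (QuotientGroup.eq_one_iff _).2 (mul_mem_of_commute hD hp hx hy hxy)
        rw [← map_mul, h, one_pow]
      · rw [← map_mul, ← map_pow, pow_three_of_not_commute hD.1 hx hy hxy, map_one]
  set K := Subgroup.zpowers d ⊔ (P : Subgroup G) ⊔ pCore 2 G with hK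
  rw [eq_top_iff, ← hD.2.2, Subgroup.closure_le]
  intro e he
  have h1 : π (d * e) ∈ (P : Subgroup G).map π := by
    rw [← Sylow.coe_mapSurjective hsurj]
    refine Cores.pCore_le_sylow (P.mapSurjective hsurj) ?_
    rw [map_mul]
    exact hcube.mul_mem_pCore_three ⟨d, hd, rfl⟩ ⟨e, he, rfl⟩
  obtain ⟨q, hq, hqe⟩ := h1
  have hR : q⁻¹ * (d * e) ∈ pCore 2 G := QuotientGroup.eq.1 hqe
  have e2 : e = d * (q * (q⁻¹ * (d * e))) := by
    rw [mul_inv_cancel_left, mul_self_cancel hD.1 hd]
  rw [e2]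
  exact K.mul_mem (le_sup_left (α := Subgroup G) (le_sup_left (α := Subgroup G) (Subgroup.mem_zpowers d)))
    (K.mul_mem (le_sup_left (α := Subgroup G) (le_sup_right (α := Subgroup G) hq))
      (le_sup_right (α := Subgroup G) hR))

/-- The partner data when each member commutes with exactly one other. -/
theorem commute_conj_of_pairs (hD : IsThreeTranspositionGroup D)
    (hpar : ∀ x ∈ D, ∃ x' ∈ D, x' ≠ x ∧ Commute x x')
    (huniq : ∀ x ∈ D, ∀ u ∈ D, ∀ v ∈ D, u ≠ x → v ≠ x → Commute x u → Commute x v → u = v)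
    (hp : CommuteIsVRel D) {x y z : G} (hx : x ∈ D) (hy : y ∈ D) (hz : z ∈ D)
    (hxy : ¬ Commute x y) (hxz : ¬ Commute x z) (hyz : ¬ Commute y z) :
    Commute y (x * z * x) := by
  choose! p hp1 hp2 hp3 using hpar
  have conjp : ∀ g : G, ∀ u ∈ D, g * p u * g⁻¹ = p (g * u * g⁻¹) := fun g u hu =>
    huniq _ (hD.2.1 g u hu) _ (hD.2.1 g _ (hp1 u hu)) _ (hp1 _ (hD.2.1 g u hu))
      (fun h => hp2 u hu (mul_left_cancel (mul_right_cancel h))) (hp2 _ (hD.2.1 g u hu))
      ((hp3 u hu).map (MulAut.conj g).toMonoidHom) (hp3 _ (hD.2.1 g u hu))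
  let r : G → G := fun u => u * p u
  have conjr : ∀ g : G, ∀ u ∈ D, g * r u * g⁻¹ = r (g * u * g⁻¹) := fun g u hu => by
    show g * (u * p u) * g⁻¹ = g * u * g⁻¹ * p (g * u * g⁻¹)
    rw [← conjp g u hu]; group
  have line : ∀ a ∈ D, ∀ b ∈ D, ¬ Commute a b →
      a * r b * a = r a * r b ∧ Commute (r a) (r b) ∧ r b * r b = 1 := by
    intro a ha b hb hab
    have hab' : ¬ Commute b (p a) := fun h =>
      hab ((hp a ha _ (hp1 a ha) (hp3 a ha) b hb).1 h.symm)
    obtain ⟨φ, h0, h1, h2⟩ := exists_hom_four hD.1 ha hb (hp1 a ha) (hp3 a ha) hab hab'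
    have hmem : φ (Equiv.swap 0 3) ∈ D := by
      have e : φ (Equiv.swap 0 3) =
          (φ (Equiv.swap 2 3) * φ (Equiv.swap 1 2)) * φ (Equiv.swap 0 1) *
            (φ (Equiv.swap 2 3) * φ (Equiv.swap 1 2))⁻¹ := by
        rw [← map_mul φ, ← map_inv, ← map_mul, ← map_mul]
        exact congrArg φ (by decide +kernel)
      rw [e, h0]
      exact hD.2.1 _ a ha
    have hinj : Function.Injective φ := injective_perm_four (by
      rw [map_mul, h0, h2, Ne, mul_eq_one_iff_eq_inv, inv_eq hD.1 (hp1 a ha)]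
      exact fun h => hp2 a ha h.symm)
    have hpb : p b = φ (Equiv.swap 0 3) :=
      huniq b hb _ (hp1 b hb) _ hmem (hp2 b hb)
        (fun h => by
          have := hinj (h.trans h1.symm)
          exact absurd this (by decide +kernel))
        (hp3 b hb) (by
          rw [← h1]
          exact (show Commute (Equiv.swap (1 : Fin 4) 2) (Equiv.swap 0 3) by
            rw [commute_iff_eq]; decide +kernel).map φ)
    refine ⟨?_, ?_, ?_⟩
    · show a * (b * p b) * a = a * p a * (b * p b)
      rw [hpb, ← h2, ← h0, ← h1]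
      simp only [← map_mul]
      exact congrArg φ (by decide +kernel)
    · show Commute (a * p a) (b * p b)
      rw [hpb, ← h2, ← h0, ← h1]
      simp only [← map_mul]
      exact (show Commute (Equiv.swap (0 : Fin 4) 1 * Equiv.swap 2 3)
        (Equiv.swap 1 2 * Equiv.swap 0 3) by rw [commute_iff_eq]; decide +kernel).map φ
    · show b * p b * (b * p b) = 1
      rw [← pow_two]
      exact (commute_iff_sq hD.1 hb (hp1 b hb)).1 (hp3 b hb)
  by_contra hY
  set Y := x * z * x with hYdef
  have hYD : Y ∈ D := conj_mem hD.1 hD.2.1 hx hz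
  obtain ⟨lxz, cxz, -⟩ := line x hx z hz hxz
  have hrY : r Y = r x * r z := by
    rw [← lxz]
    have := conjr x z hz
    rw [inv_eq hD.1 hx] at this
    exact this.symm
  obtain ⟨lyx, cyx, -⟩ := line y hy x hx fun h => hxy h.symm
  obtain ⟨lyz, cyz, -⟩ := line y hy z hz hyz
  obtain ⟨lyY, -, -⟩ := line y hy Y hYD hY
  obtain ⟨-, -, hy2⟩ := line x hx y hy hxy
  have h1 : y * r Y * y = r x * r z := by
    rw [hrY]
    calc y * (r x * r z) * y = (y * r x * y) * (y * r z * y) := by
          simp only [mul_assoc, mul_self_cancel hD.1 hy]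
      _ = r y * r x * (r y * r z) := by rw [lyx, lyz]
      _ = r x * r z := by
          rw [cyx.eq, mul_assoc, ← mul_assoc (r y), hy2, one_mul]
  rw [lyY, hrY] at h1
  have h2 : r y = 1 := mul_eq_right.1 h1
  exact hp2 y hy (by
    have : y * p y = 1 := h2
    rw [mul_eq_one_iff_eq_inv, inv_eq hD.1 (hp1 y hy)] at this
    exact this.symm)

end Cfsg.Agent.ThreeTrans
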